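import Cfsg.Agent.SpFourOdd.Klein
import Cfsg.Agent.SymplecticType.Structure
import Cfsg.Agent.OrthMax.DecompTools
import Cfsg.Agent.OrthMax.DecompSys

/-!
# Symplectic type groups `2^{1+4}` in `Sp₄(q)` give orthonormal frames of `Ω₅(q)`

The non-central involutions of such a group `R` are `E u` for the vectors `±b i` of an orthonormal basis `b`;
they generate `R`. So normalising `R` is permuting the lines of the basis.
-/

set_option autoImplicit false
set_option linter.unusedSectionVars false

namespace CfsgLib.SpFourOdd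

open Matrix Module Cfsg.Geo CfsgLib.MaxSub CfsgLib.StdForms CfsgLib.Forms4
open scoped commutatorElement

/-- In a group of symplectic type of exponent dividing four all commutators are central. -/
theorem commute_commutator {H : Type*} [Group H] [Finite H] (hH : IsPGroup 2 H)
    (hsymp : ∀ A : Subgroup H, A.Characteristic → IsMulCommutative A → IsCyclic A)
    (h4 : ∀ x : H, x ^ 4 = 1) (x y z : H) : Commute ⁅x, y⁆ z := by
  haveI : Fact (Nat.Prime 2) := ⟨Nat.prime_two⟩
  obtain ⟨E, R, hER, htop, hE, hR⟩ := SymplecticType.hasStructure hH hsymp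
  have hord : ∀ r : R, orderOf r ≤ 4 := fun r =>
    Nat.le_of_dvd (by norm_num) (orderOf_dvd_of_pow_eq_one (Subtype.ext (by simpa using h4 (r : H))))
  have hcyc : IsCyclic R := by
    refine hR.resolve_right ?_
    rintro ⟨-, h16, ⟨m, ⟨f⟩⟩ | ⟨m, ⟨f⟩⟩ | ⟨n, hn, hcard, a, -, ha, -, -⟩⟩
    · have h1 := hord (f.symm (DihedralGroup.r 1))
      rw [MulEquiv.orderOf_eq, DihedralGroup.orderOf_r_one] at h1
      rw [Nat.card_congr f.toEquiv, DihedralGroup.nat_card] at h16
      omega
    · haveI : Finite (QuaternionGroup m) := Finite.of_equiv _ f.toEquiv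
      rcases Nat.eq_zero_or_pos m with rfl | hm
      · haveI : Infinite (QuaternionGroup 0) :=
          Infinite.of_injective (fun i : ℤ => QuaternionGroup.a (n := 0) i) fun i j h => by injection h
        exact not_finite (QuaternionGroup 0)
      haveI : NeZero m := ⟨hm.ne'⟩
      have h1 := hord (f.symm (QuaternionGroup.a 1))
      rw [MulEquiv.orderOf_eq, QuaternionGroup.orderOf_a_one] at h1
      rw [Nat.card_congr f.toEquiv, Nat.card_eq_fintype_card, QuaternionGroup.card] at h16
      omega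
    · have h1 := hord a
      rw [ha] at h1
      have : 2 ^ 3 ≤ 2 ^ n := Nat.pow_le_pow_right (by norm_num) hn
      omega
  have hRc : ∀ r ∈ R, ∀ r' ∈ R, Commute r r' := fun r hr r' hr' => by
    haveI := hcyc
    exact congrArg Subtype.val (mul_comm' (M := R) ⟨r, hr⟩ ⟨r', hr'⟩)
  have hex : ∀ w : H, ∃ e ∈ E, ∃ r ∈ R, w = e * r := fun w =>
    SymplecticType.exists_mul_of_mem_sup (fun e he r hr => hER e he r hr) (by rw [htop]; trivial)
  have hcent : ∀ r ∈ R, ∀ w : H, Commute r w := fun r hr w => by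
    obtain ⟨e, he, r', hr', rfl⟩ := hex w
    exact Commute.mul_right (hER e he r hr).symm (hRc r hr r' hr')
  obtain ⟨e, he, r, hr, rfl⟩ := hex x
  obtain ⟨e', he', r', hr', rfl⟩ := hex y
  have h1 : ⁅e * r, e' * r'⁆ = ⁅e, e'⁆ := by
    rw [commutatorElement_def, commutatorElement_def]
    calc e * r * (e' * r') * (e * r)⁻¹ * (e' * r')⁻¹
        = e * (r * e') * (r' * r⁻¹) * e⁻¹ * r'⁻¹ * e'⁻¹ := by group
      _ = e * e' * (r * (r' * r⁻¹)) * e⁻¹ * r'⁻¹ * e'⁻¹ := by rw [(hcent r hr e').eq]; group
      _ = e * e' * r' * e⁻¹ * r'⁻¹ * e'⁻¹ := by rw [← mul_assoc r, (hRc r hr r' hr').eq]; group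
      _ = e * e' * (r' * e⁻¹) * r'⁻¹ * e'⁻¹ := by group
      _ = e * e' * e⁻¹ * e'⁻¹ := by rw [(hcent r' hr' e⁻¹).eq]; group
  rw [h1]
  rcases hE with hE | hE
  · rw [hE, Subgroup.mem_bot] at he
    rw [he, commutatorElement_one_left]
    exact Commute.one_left z
  obtain ⟨f, hf, s, hs, rfl⟩ := hex z
  refine Commute.mul_right ?_ (hcent s hs _).symm
  have h2 : ⁅(⟨e, he⟩ : E), ⟨e', he'⟩⁆ ∈ Subgroup.center E := by
    rw [← hE.1.2.2, commutator_def]
    exact Subgroup.commutator_mem_commutator (Subgroup.mem_top _) (Subgroup.mem_top _)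
  exact (congrArg Subtype.val (Subgroup.mem_center_iff.1 h2 ⟨f, hf⟩)).symm

variable {F : Type*} [Field F] [Fintype F]

local notation "ι₄" => (Fin 2 ⊕ Fin 2)
local notation "ι₅" => (Unit ⊕ (Fin 2 ⊕ Fin 2))
local notation "W₅" => (Unit ⊕ (Fin 2 ⊕ Fin 2) → F)
local notation "ω" => Cfsg.sympForm 2 F
local notation "Mat" => Matrix (Fin 2 ⊕ Fin 2) (Fin 2 ⊕ Fin 2) F
local notation "G" => GL (Fin 2 ⊕ Fin 2) F
local notation "Q₅" => StdForms.oddQ 2 F

/-- The standing data of this file. -/
structure TwoData {K : Type*} [Field K] (R : Subgroup (GL (Fin 2 ⊕ Fin 2) K)) : Prop where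
  h2 : (2 : K) ≠ 0
  symp : IsSymplecticTypeGroup 2 R
  abs : ActsAbsolutelyIrreducibly (matrixSet R)
  le : R ≤ Cfsg.spGL 2 K
  card : Nat.card R = 32
  cen : Nat.card (Subgroup.center R) = 2

namespace TwoData

variable {R : Subgroup (GL (Fin 2 ⊕ Fin 2) F)} (T : TwoData R)
include T

theorem scalar_of_comm {A : Mat} (h : ∀ y ∈ R, A * (y : Mat) = (y : Mat) * A) : ∃ c : F, A = c • (1 : Mat) :=
  T.abs.2 A (by rintro _ ⟨y, hy, rfl⟩; exact h y hy)

/-- Elements of `R` that are scalar are `±1`. -/
theorem scalar_sign {x : G} (hx : x ∈ R) {c : F} (hc : (x : Mat) = c • 1) : c = 1 ∨ c = -1 := by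
  have h1 := mem_spGL_iff.1 (T.le hx) (Pi.single (.inl 0) 1) (Pi.single (.inr 0) 1)
  have hne : ω (Pi.single (.inl 0) 1) (Pi.single (.inr 0) 1) ≠ 0 := by simp [Cfsg.sympForm, Matrix.J]
  rw [hc, smul_mulVec, smul_mulVec, one_mulVec, one_mulVec, sesq_sympForm.smul_left, sesq_sympForm.smul_right,
    RingEquiv.refl_apply, ← mul_assoc] at h1
  exact mul_self_eq_one_iff.1 (mul_right_cancel₀ hne (h1.trans (one_mul _).symm))

/-- Two elements of `R` commute or anticommute. -/
theorem sign {x y : G} (hx : x ∈ R) (hy : y ∈ R) :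
    (x : Mat) * (y : Mat) = (y : Mat) * (x : Mat) ∨ (x : Mat) * (y : Mat) = -((y : Mat) * (x : Mat)) := by
  haveI : Finite R := Nat.finite_of_card_ne_zero (by rw [T.card]; norm_num)
  have h4 : ∀ w : R, w ^ 4 = 1 := fun w => by
    have h := Monoid.pow_exponent_eq_one w
    rw [T.symp.exponent_eq] at h
    simpa using h
  have hc := commute_commutator T.symp.pGroup T.symp.cyclic_of_characteristic h4 ⟨x, hx⟩ ⟨y, hy⟩
  obtain ⟨c, hcs⟩ := T.scalar_of_comm (A := ((⁅x, y⁆ : G) : Mat)) fun z hz => by
    have h := congrArg (fun w : R => ((w : G) : Mat)) (hc ⟨z, hz⟩).eq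
    simpa [commutatorElement_def] using h
  have hxy : (x : Mat) * (y : Mat) = c • ((y : Mat) * (x : Mat)) := by
    have e : x * y = ⁅x, y⁆ * (y * x) := by rw [commutatorElement_def]; group
    rw [← Units.val_mul, e, Units.val_mul, hcs, Units.val_mul, Matrix.smul_mul, one_mul]
  rcases T.scalar_sign (by
    rw [commutatorElement_def]
    exact R.mul_mem (R.mul_mem (R.mul_mem hx hy) (R.inv_mem hx)) (R.inv_mem hy)) hcs with rfl | rfl
  · exact Or.inl (by rw [hxy, one_smul])
  · exact Or.inr (by rw [hxy, neg_smul, one_smul])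

theorem sq_sign {x : G} (hx : x ∈ R) : (x : Mat) * (x : Mat) = 1 ∨ (x : Mat) * (x : Mat) = -1 := by
  obtain ⟨c, hc⟩ := T.scalar_of_comm (A := (x : Mat) * (x : Mat)) fun y hy => by
    rcases T.sign hx hy with h | h
    · rw [mul_assoc, h, ← mul_assoc, h, mul_assoc]
    · rw [mul_assoc, h, mul_neg, ← mul_assoc, h, neg_mul, neg_neg, mul_assoc]
  rcases T.scalar_sign (R.mul_mem hx hx) (c := c) (by rw [Units.val_mul]; exact hc) with rfl | rfl
  · exact Or.inl (by rw [hc, one_smul])
  · exact Or.inr (by rw [hc, neg_smul, one_smul])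

theorem exists_neg_one : ∃ z ∈ R, (z : Mat) = -1 := by
  haveI : Finite (Subgroup.center R) := Nat.finite_of_card_ne_zero (by rw [T.cen]; norm_num)
  haveI : Nontrivial (Subgroup.center R) := by
    rw [← Finite.one_lt_card_iff_nontrivial, T.cen]
    norm_num
  obtain ⟨⟨⟨z, hz⟩, hzc⟩, hne⟩ := exists_ne (1 : Subgroup.center R)
  obtain ⟨c, hc⟩ := T.scalar_of_comm (A := (z : Mat)) fun y hy => by
    rw [← Units.val_mul, ← Units.val_mul]
    exact congrArg (fun w : R => ((w : G) : Mat)) (Subgroup.mem_center_iff.1 hzc ⟨y, hy⟩).symm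
  rcases T.scalar_sign hz hc with rfl | rfl
  · rw [one_smul] at hc
    exact absurd (Subtype.ext (Subtype.ext (Units.ext hc))) hne
  · exact ⟨z, hz, by rw [hc, neg_smul, one_smul]⟩

theorem four_ne : (4 : F) ≠ 0 := by
  rw [show (4 : F) = 2 * 2 by norm_num]; exact mul_ne_zero T.h2 T.h2

/-- Non-scalar elements have trace zero. -/
theorem trace_zero {x : G} (hx : x ∈ R) (hns : ∀ c : F, (x : Mat) ≠ c • 1) : Matrix.trace (x : Mat) = 0 := by
  obtain ⟨y, hy, hxy⟩ : ∃ y ∈ R, (x : Mat) * (y : Mat) ≠ (y : Mat) * (x : Mat) := by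
    by_contra! hall
    obtain ⟨c, hc⟩ := T.scalar_of_comm hall
    exact hns c hc
  have h := (T.sign hx hy).resolve_left hxy
  have h1 : (y : Mat) * (x : Mat) * ((y⁻¹ : G) : Mat) = -(x : Mat) := by
    rw [← neg_neg ((y : Mat) * (x : Mat)), ← h, neg_mul, mul_assoc, Units.mul_inv, mul_one]
  have h3 := congrArg Matrix.trace h1
  rw [Matrix.trace_units_conj, Matrix.trace_neg] at h3
  exact (mul_eq_zero.1 (by linear_combination h3 : (2 : F) * Matrix.trace (x : Mat) = 0)).resolve_left T.h2

/-- The elements of `R` span the operators. -/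
theorem span_eq_top : Submodule.span F (matrixSet R) = ⊤ := by
  classical
  haveI : Finite R := Nat.finite_of_card_ne_zero (by rw [T.card]; norm_num)
  have hli : LinearIndependent F fun q : R ⧸ Subgroup.center R => ((q.out : G) : Mat) := by
    haveI : Fintype (R ⧸ Subgroup.center R) := Fintype.ofFinite _
    rw [Fintype.linearIndependent_iff]
    intro c hc i
    have h1 := congrArg (fun M : Mat => (M * (((i.out : G)⁻¹ : G) : Mat)).trace) hc
    simp only [Matrix.sum_mul, Matrix.smul_mul, trace_sum, trace_smul, smul_eq_mul, zero_mul, Matrix.trace_zero] at h1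
    rw [Finset.sum_eq_single i (fun j _ hji => by
      rw [← Units.val_mul, T.trace_zero (R.mul_mem j.out.2 (R.inv_mem i.out.2)) fun d hd => hji ?_, mul_zero]
      rw [← QuotientGroup.out_eq' j, ← QuotientGroup.out_eq' i, QuotientGroup.eq, Subgroup.mem_center_iff]
      intro w
      have hcomm : ∀ v : G, (j.out : G) * (i.out : G)⁻¹ * v = v * ((j.out : G) * (i.out : G)⁻¹) := fun v =>
        Units.ext (by rw [Units.val_mul, Units.val_mul _ ((j.out : G) * (i.out : G)⁻¹), hd, Matrix.smul_mul,
          Matrix.mul_smul, one_mul, mul_one])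
      have hz : (j.out : G)⁻¹ * (i.out : G) = ((j.out : G) * (i.out : G)⁻¹)⁻¹ := by
        have e : (j.out : G)⁻¹ * ((j.out : G) * (i.out : G)⁻¹) * (j.out : G) =
            (j.out : G) * (i.out : G)⁻¹ := by rw [mul_assoc, hcomm, inv_mul_cancel_left]
        rw [_root_.mul_inv_rev, inv_inv]
        calc (j.out : G)⁻¹ * (i.out : G)
            = ((i.out : G)⁻¹ * (j.out : G))⁻¹ := by group
          _ = ((j.out : G) * (i.out : G)⁻¹)⁻¹ := by rw [← e]; group
          _ = (i.out : G) * (j.out : G)⁻¹ := by group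
      refine Subtype.ext ?_
      show (w : G) * ((j.out : G)⁻¹ * (i.out : G)) = (j.out : G)⁻¹ * (i.out : G) * (w : G)
      rw [hz]
      exact (Commute.inv_left (hcomm w)).eq.symm)
      (fun h => absurd (Finset.mem_univ i) h), Units.mul_inv, trace_one'] at h1
    exact (mul_eq_zero.1 h1).resolve_right T.four_ne
  have hq : Nat.card (R ⧸ Subgroup.center R) = 16 := by
    have h := Subgroup.card_eq_card_quotient_mul_card_subgroup (Subgroup.center R)
    rw [T.card, T.cen] at h
    omega
  haveI : Fintype (R ⧸ Subgroup.center R) := Fintype.ofFinite _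
  rw [eq_top_iff, ← hli.span_eq_top_of_card_eq_finrank' (by
    rw [← Nat.card_eq_fintype_card, hq, Module.finrank_matrix]; simp)]
  exact Submodule.span_mono (by rintro _ ⟨q, rfl⟩; exact ⟨_, q.out.2, rfl⟩)

/-- An element with square one is self-adjoint, the others are skew. -/
theorem adj_sign {x : G} (hx : x ∈ R) :
    ((x : Mat) * (x : Mat) = 1 ∧ SA (x : Mat)) ∨
      ((x : Mat) * (x : Mat) = -1 ∧ ∀ u v, ω ((x : Mat) *ᵥ u) v = -ω u ((x : Mat) *ᵥ v)) := by
  rcases T.sq_sign hx with h | h
  · refine Or.inl ⟨h, fun u v => ?_⟩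
    rw [sp_adj (T.le hx), Units.inv_eq_of_mul_eq_one_right h]
  · refine Or.inr ⟨h, fun u v => ?_⟩
    rw [sp_adj (T.le hx), Units.inv_eq_of_mul_eq_one_right (a := -(x : Mat)) (by rw [mul_neg, h, neg_neg]),
      neg_mulVec, ← neg_one_smul F, sesq_sympForm.smul_right]
    simp

/-- The vectors giving elements of `R`. -/
def vecs (R : Subgroup G) : Set W₅ := {u | ∃ g ∈ R, (g : Mat) = E F u}

theorem neg_mem_vecs {u : W₅} (hu : u ∈ vecs R) : -u ∈ vecs R := by
  obtain ⟨g, hg, he⟩ := hu
  obtain ⟨z, hz, hze⟩ := T.exists_neg_one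
  exact ⟨z * g, R.mul_mem hz hg, by rw [Units.val_mul, hze, he, neg_one_mul, map_neg]⟩

theorem quad_vecs {u : W₅} (hu : u ∈ vecs R) : Q₅ u = 1 := by
  obtain ⟨g, hg, he⟩ := hu
  rcases T.adj_sign hg with ⟨h, -⟩ | ⟨h, hskew⟩
  · rw [he, E_sq] at h
    exact smul_one_inj (by rw [h, one_smul])
  · exfalso
    have h0 : ∀ a b, ω ((g : Mat) *ᵥ a) b = 0 := fun a b => by
      have h1 := hskew a b
      have h3 : SA (g : Mat) := he ▸ sa_E u
      rw [← h3] at h1
      exact (mul_eq_zero.1 (by linear_combination h1 : (2 : F) * ω ((g : Mat) *ᵥ a) b = 0)).resolve_left T.h2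
    have h3 := h0 (((g⁻¹ : G) : Mat) *ᵥ Pi.single (.inl 0) 1) (Pi.single (.inr 0) 1)
    rw [mulVec_mulVec, Units.mul_inv, one_mulVec] at h3
    simp [Cfsg.sympForm, Matrix.J] at h3

theorem vecs_orth {u v : W₅} (hu : u ∈ vecs R) (hv : v ∈ vecs R) :
    v = u ∨ v = -u ∨ QuadraticMap.polar (⇑Q₅) u v = 0 := by
  obtain ⟨g, hg, hge⟩ := id hu
  obtain ⟨h, hh, hhe⟩ := id hv
  have hp := E_polar u v
  rcases T.sign hg hh with hc | hc <;> rw [hge, hhe] at hc
  · obtain ⟨c, hcv⟩ : ∃ c : F, v = c • u := by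
      refine ⟨QuadraticMap.polar (⇑Q₅) u v / 2, E_injective ?_⟩
      have h1 : E F v = (Q₅ u) • E F v := by rw [T.quad_vecs hu, one_smul]
      rw [h1, map_smul, ← Matrix.one_mul (E F v), ← Matrix.smul_mul, ← E_sq, mul_assoc]
      rw [← hc, ← two_smul F] at hp
      have h2 := congrArg (fun X => (2 : F)⁻¹ • (E F u * X)) hp
      simp only [Matrix.mul_smul, mul_one, smul_smul, inv_mul_cancel₀ T.h2, one_smul] at h2
      rw [h2, div_eq_inv_mul]
    have hq := T.quad_vecs hv
    rw [hcv, QuadraticMap.map_smul, T.quad_vecs hu, smul_eq_mul, mul_one] at hq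
    rcases mul_self_eq_one_iff.1 hq with rfl | rfl
    · exact Or.inl (by rw [hcv, one_smul])
    · exact Or.inr (Or.inl (by rw [hcv, neg_one_smul]))
  · refine Or.inr (Or.inr (smul_one_inj ?_))
    rw [← hp, hc, neg_add_cancel, zero_smul]

theorem span_vecs : Submodule.span F (vecs R) = ⊤ := by
  classical
  set S := Submodule.span F (vecs R) with hS
  refine eq_top_iff.2 fun u _ => ?_
  have key : ∀ A ∈ Submodule.span F (matrixSet R), ∃ (c : F) (k : W₅), k ∈ S ∧ ∃ l : Mat,
      (∀ a b, ω (l *ᵥ a) b = -ω a (l *ᵥ b)) ∧ A = c • (1 : Mat) + E F k + l := by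
    intro A hA
    induction hA using Submodule.span_induction with
    | mem A hA =>
      obtain ⟨g, hg, rfl⟩ := hA
      rcases T.adj_sign hg with ⟨h, hsa⟩ | ⟨-, hsk⟩
      · by_cases hsc : ∃ c : F, (g : Mat) = c • 1
        · obtain ⟨c, hc⟩ := hsc
          refine ⟨c, 0, S.zero_mem, 0, fun a b => ?_, by simp [hc]⟩
          simp [zero_mulVec, sesq_sympForm.zero_left, sesq_sympForm.zero_right]
        push Not at hsc
        obtain ⟨k, hk, -⟩ := exists_eq_E T.h2 hsa hsc (d := 1) (by rw [h, one_smul])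
        refine ⟨0, k, Submodule.subset_span ⟨g, hg, hk⟩, 0, fun a b => ?_, by simp [hk]⟩
        simp [zero_mulVec, sesq_sympForm.zero_left, sesq_sympForm.zero_right]
      · exact ⟨0, 0, S.zero_mem, (g : Mat), hsk, by simp⟩
    | zero =>
      exact ⟨0, 0, S.zero_mem, 0, fun a b => by
        simp [zero_mulVec, sesq_sympForm.zero_left, sesq_sympForm.zero_right], by simp⟩
    | add A B _ _ hA hB =>
      obtain ⟨c, k, hk, l, hl, rfl⟩ := hA
      obtain ⟨c', k', hk', l', hl', rfl⟩ := hB
      refine ⟨c + c', k + k', S.add_mem hk hk', l + l', fun a b => ?_, by rw [map_add]; module⟩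
      simp only [add_mulVec, sesq_sympForm.add_left, sesq_sympForm.add_right, hl, hl']
      ring
    | smul t A _ hA =>
      obtain ⟨c, k, hk, l, hl, rfl⟩ := hA
      refine ⟨t * c, t • k, S.smul_mem t hk, t • l, fun a b => ?_, by rw [map_smul]; module⟩
      simp only [smul_mulVec, sesq_sympForm.smul_left, sesq_sympForm.smul_right, hl, RingEquiv.refl_apply]
      ring
  obtain ⟨c, k, hk, l, hl, he⟩ := key (E F u) (by rw [T.span_eq_top]; trivial)
  have hls : SA l := by
    have e : l = E F (u - k) - c • (1 : Mat) := by rw [map_sub, he]; abel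
    intro a b
    rw [e]
    simp only [sub_mulVec, smul_mulVec, one_mulVec, sesq_sympForm.sub_left, sesq_sympForm.sub_right,
      sesq_sympForm.smul_left, sesq_sympForm.smul_right, sa_E (u - k) a b, RingEquiv.refl_apply]
  have hl0 : l = 0 := by
    ext i j
    have h0 : ∀ a b, ω (l *ᵥ a) b = 0 := fun a b =>
      (mul_eq_zero.1 (by have := hl a b; rw [← hls] at this; linear_combination this :
        (2 : F) * ω (l *ᵥ a) b = 0)).resolve_left T.h2
    have h1 : l *ᵥ Pi.single j 1 = 0 := by
      by_contra hne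
      obtain ⟨b, hb⟩ := ((isSymplecticForm_sympForm (m := 2) (F := F)).nondegenerate _ hne).2
      exact hb (h0 _ b)
    simpa using congrFun h1 i
  rw [hl0, add_zero] at he
  have hc : c = 0 := by
    have := congrArg Matrix.trace he
    rw [Matrix.trace_add, Matrix.trace_smul, trace_one', trace_E, trace_E, add_zero, smul_eq_mul] at this
    exact (mul_eq_zero.1 this.symm).resolve_right T.four_ne
  rw [hc, zero_smul, zero_add] at he
  exact E_injective he ▸ hk

/-- An orthonormal basis giving all the vectors up to sign. -/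
theorem exists_basis : ∃ b : Fin 5 → W₅, (∀ i, b i ∈ vecs R) ∧
    (∀ i j, i ≠ j → QuadraticMap.polar (⇑Q₅) (b i) (b j) = 0) ∧ Submodule.span F (Set.range b) = ⊤ ∧
    ∀ u ∈ vecs R, ∃ i, u = b i ∨ u = -b i := by
  obtain ⟨s, hs, hspan, hli⟩ := exists_linearIndependent F (vecs R)
  haveI : Fintype s := hli.setFinite.fintype
  have hcard : Fintype.card s = 5 := by
    have := finrank_span_eq_card hli
    rw [Subtype.range_coe_subtype, Set.setOf_mem_eq, hspan, T.span_vecs, finrank_top, Module.finrank_pi] at this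
    simpa using this.symm
  let b : Fin 5 → W₅ := fun i => ((Fintype.equivFinOfCardEq hcard).symm i : W₅)
  have hr : Set.range b = s := by
    ext u
    exact ⟨fun ⟨i, e⟩ => e ▸ Subtype.prop _, fun hu => ⟨Fintype.equivFinOfCardEq hcard ⟨u, hu⟩, by simp [b]⟩⟩
  have hbi : Function.Injective b := fun i j e => (Fintype.equivFinOfCardEq hcard).symm.injective (Subtype.ext e)
  have hlb : LinearIndependent F b := hli.comp _ (Fintype.equivFinOfCardEq hcard).symm.injective
  refine ⟨b, fun i => hs (Subtype.prop _), fun i j hij => ?_, by rw [hr, hspan, T.span_vecs], fun u hu => ?_⟩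
  · rcases T.vecs_orth (hs (Subtype.prop _) : b i ∈ vecs R) (hs (Subtype.prop _) : b j ∈ vecs R) with h | h | h
    · exact absurd (hbi h).symm hij
    · exfalso
      refine hlb.notMem_span_image (s := {j}) (x := i) (fun e => hij e) ?_
      rw [Set.image_singleton, show b i = -b j by rw [h, neg_neg]]
      exact Submodule.neg_mem _ (Submodule.mem_span_singleton_self _)
    · exact h
  · by_contra! hall
    have hperp : ∀ x : W₅, QuadraticMap.polar (⇑Q₅) u x = 0 := fun x => by
      have hx : x ∈ Submodule.span F (Set.range b) := by rw [hr, hspan, T.span_vecs]; trivial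
      induction hx using Submodule.span_induction with
      | mem x hx =>
        obtain ⟨i, rfl⟩ := hx
        rcases T.vecs_orth (hs (Subtype.prop _) : b i ∈ vecs R) hu with h | h | h
        · exact absurd h (hall i).1
        · exact absurd h (hall i).2
        · rw [QuadraticMap.polar_comm]; exact h
      | zero => exact QuadraticMap.polar_zero_right _ _
      | add x y _ _ hx hy => rw [QuadraticMap.polar_add_right, hx, hy, add_zero]
      | smul c x _ hx => rw [QuadraticMap.polar_smul_right, hx, smul_zero]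
    have h0 : u = 0 := (oddQ_nondegenerate T.h2 2).1 u hperp
    have h1 := T.quad_vecs hu
    rw [h0, QuadraticMap.map_zero] at h1
    exact zero_ne_one h1

/-- The involutions of the basis generate `R`. -/
theorem closure_eq {b : Fin 5 → W₅} (hb : ∀ i, b i ∈ vecs R)
    (horth : ∀ i j, i ≠ j → QuadraticMap.polar (⇑Q₅) (b i) (b j) = 0)
    (hspan : Submodule.span F (Set.range b) = ⊤) {x : G} (hx : x ∈ R) :
    x ∈ Subgroup.closure {g : G | ∃ i, (g : Mat) = E F (b i)} := by
  classical
  set K := Subgroup.closure {g : G | ∃ i, (g : Mat) = E F (b i)} with hK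
  choose a haR ha using hb
  have haK : ∀ i, a i ∈ K := fun i => Subgroup.subset_closure ⟨i, ha i⟩
  have hsq : ∀ i, E F (b i) * E F (b i) = 1 := fun i => by
    rw [E_sq, T.quad_vecs ⟨a i, haR i, ha i⟩, one_smul]
  have hanti : ∀ i j, i ≠ j → E F (b i) * E F (b j) = -(E F (b j) * E F (b i)) := fun i j hij => by
    have h := E_polar (b i) (b j)
    rw [horth i j hij, zero_smul] at h
    exact eq_neg_of_add_eq_zero_left h
  have hext : ∀ {A : Mat} (σ : Mat → Mat → Prop), (∀ i, σ A (E F (b i))) → σ A 0 →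
      (∀ X Y, σ A X → σ A Y → σ A (X + Y)) → (∀ (c : F) X, σ A X → σ A (c • X)) → ∀ u, σ A (E F u) := by
    intro A σ h1 h0 hadd hsmul u
    have hu : u ∈ Submodule.span F (Set.range b) := by rw [hspan]; trivial
    induction hu using Submodule.span_induction with
    | mem u hu => obtain ⟨i, rfl⟩ := hu; exact h1 i
    | zero => rwa [map_zero]
    | add u v _ _ hu hv => rw [map_add]; exact hadd _ _ hu hv
    | smul c u _ hu => rw [map_smul]; exact hsmul c _ hu
  have hneg : ∃ z ∈ K, (z : Mat) = -1 := by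
    refine ⟨a 0 * a 1 * a 0 * a 1, K.mul_mem (K.mul_mem (K.mul_mem (haK 0) (haK 1)) (haK 0)) (haK 1), ?_⟩
    rw [Units.val_mul, Units.val_mul, Units.val_mul, ha, ha, hanti 0 1 (by decide)]
    rw [neg_mul, neg_mul, mul_assoc (E F (b 1)), hsq, mul_one, hsq]
  suffices ∀ (n : ℕ) (y : G), y ∈ R →
      (Finset.univ.filter fun i => (y : Mat) * E F (b i) ≠ E F (b i) * (y : Mat)).card = n → y ∈ K from
    this _ x hx rfl
  intro n
  induction n using Nat.strong_induction_on with
  | _ n ih =>
    intro y hy hn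
    have hs : ∀ i, (y : Mat) * E F (b i) ≠ E F (b i) * (y : Mat) →
        (y : Mat) * E F (b i) = -(E F (b i) * (y : Mat)) := fun i hi => by
      have h := T.sign hy (haR i)
      rw [ha] at h
      exact h.resolve_left hi
    by_cases h2i : ∃ i j, i ≠ j ∧ (y : Mat) * E F (b i) ≠ E F (b i) * (y : Mat) ∧
        (y : Mat) * E F (b j) ≠ E F (b j) * (y : Mat)
    · obtain ⟨i, j, hij, hi, hj⟩ := h2i
      have hy' : y * a i * a j ∈ K := by
        refine ih _ ?_ _ (R.mul_mem (R.mul_mem hy (haR i)) (haR j)) rfl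
        rw [← hn]
        refine Finset.card_lt_card (Finset.ssubset_iff_of_subset (fun k => ?_) |>.2 ⟨i, by simpa using hi, ?_⟩)
        · simp only [Finset.mem_filter, Finset.mem_univ, true_and]
          intro hk hyk
          refine hk ?_
          have hki : k ≠ i := fun e => hi (e ▸ hyk)
          have hkj : k ≠ j := fun e => hj (e ▸ hyk)
          rw [Units.val_mul, Units.val_mul, ha, ha]
          calc (y : Mat) * E F (b i) * E F (b j) * E F (b k)
              = (y : Mat) * E F (b i) * (E F (b j) * E F (b k)) := by rw [mul_assoc]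
            _ = -((y : Mat) * (E F (b i) * E F (b k)) * E F (b j)) := by
              rw [hanti j k hkj.symm, mul_neg]; simp only [mul_assoc]
            _ = (y : Mat) * E F (b k) * E F (b i) * E F (b j) := by
              rw [hanti i k hki.symm, mul_neg, neg_mul, neg_neg]; simp only [mul_assoc]
            _ = E F (b k) * ((y : Mat) * E F (b i) * E F (b j)) := by rw [hyk]; simp only [mul_assoc]
        · simp only [Finset.mem_filter, Finset.mem_univ, true_and, not_not]
          rw [Units.val_mul, Units.val_mul, ha, ha]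
          calc (y : Mat) * E F (b i) * E F (b j) * E F (b i)
              = (y : Mat) * E F (b i) * (E F (b j) * E F (b i)) := by rw [mul_assoc]
            _ = -((y : Mat) * (E F (b i) * E F (b i)) * E F (b j)) := by
              rw [hanti j i hij.symm, mul_neg]; simp only [mul_assoc]
            _ = E F (b i) * (-(E F (b i) * (y : Mat))) * E F (b j) := by
              rw [mul_neg, ← mul_assoc (E F (b i)), hsq, mul_one, one_mul, neg_mul]
            _ = E F (b i) * ((y : Mat) * E F (b i) * E F (b j)) := by rw [← hs i hi]; simp only [mul_assoc]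
      have e : y = y * a i * a j * (a j)⁻¹ * (a i)⁻¹ := by group
      rw [e]
      exact K.mul_mem (K.mul_mem hy' (K.inv_mem (haK j))) (K.inv_mem (haK i))
    push Not at h2i
    by_cases h1 : ∃ j, (y : Mat) * E F (b j) ≠ E F (b j) * (y : Mat)
    · exfalso
      obtain ⟨j, hj⟩ := h1
      have h0 := zero_of_anticommute T.h2 (B := (y : Mat) * E F (b j)) (hext (fun A X => A * X = -(X * A))
        (fun k => ?_) (by simp) (fun X Y hX hY => by simp only [mul_add, add_mul, hX, hY, neg_add])
        (fun c X hX => by simp only [Matrix.mul_smul, Matrix.smul_mul, hX, smul_neg]))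
      · have h3 : ((y * a j : G) : Mat) = 0 := by rw [Units.val_mul, ha]; exact h0
        exact (y * a j).ne_zero h3
      · rcases eq_or_ne k j with rfl | hkj
        · rw [← mul_assoc, hs k hj, neg_mul]
        · have hk := h2i j k hkj.symm hj
          rw [mul_assoc, hanti j k hkj.symm, mul_neg, ← mul_assoc, hk, mul_assoc]
    push Not at h1
    have hc := scalar_of_commute T.h2 (B := (y : Mat)) (hext (fun A X => A * X = X * A) h1 (by simp)
      (fun X Y hX hY => by simp only [mul_add, add_mul, hX, hY])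
      (fun c X hX => by simp only [Matrix.mul_smul, Matrix.smul_mul, hX]))
    rcases T.scalar_sign hy hc with h | h <;> rw [h] at hc
    · rw [one_smul] at hc
      rw [Units.ext (show (y : Mat) = ((1 : G) : Mat) from hc)]
      exact K.one_mem
    · obtain ⟨z, hz, hze⟩ := hneg
      rwa [Units.ext (show (y : Mat) = (z : Mat) by rw [hc, hze, neg_smul, one_smul])]

end TwoData

/-- The frame of a group of symplectic type, and what its normaliser becomes in `Ω₅`. -/
theorem exists_frame_of_symplecticType (h2 : (2 : F) ≠ 0) {R : Subgroup G}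
    (hR : IsSymplecticTypeGroup 2 R) (habs : ActsAbsolutelyIrreducibly (matrixSet R)) (hle : R ≤ Cfsg.spGL 2 F)
    (hcard : Nat.card R = 32) (hcen : Nat.card (Subgroup.center R) = 2) :
    ∃ D : Fin 5 → Submodule F W₅, CfsgLib.OrthMax.DSys Q₅ 1 D ∧
      ∀ φ : ↥(Cfsg.spGL 2 F) →* ↥(Cfsg.isometryGroup F (Cfsg.quadFormOdd 2 F)),
        (∀ (g : ↥(Cfsg.spGL 2 F)) u, E F (((φ g).1 : Matrix ι₅ ι₅ F) *ᵥ u) =
          ((g : G) : Mat) * E F u * (((g : G)⁻¹ : G) : Mat)) →
        ∀ g : ↥(Cfsg.spGL 2 F), (g : G) ∈ subgroupNormalizer R ↔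
          ((φ g : ↥(Cfsg.isometryGroup F (Cfsg.quadFormOdd 2 F))) : GL ι₅ F) ∈ decompositionStabilizer D := by
  classical
  have T : TwoData R := ⟨h2, hR, habs, hle, hcard, hcen⟩
  obtain ⟨b, hb, horth, hspan, hall⟩ := T.exists_basis
  have hq : ∀ i, Q₅ (b i) = 1 := fun i => T.quad_vecs (hb i)
  have hb0 : ∀ i, b i ≠ 0 := fun i e => by simpa [e] using hq i
  have hbb : ∀ i, QuadraticMap.polar (⇑Q₅) (b i) (b i) = 2 := fun i => by rw [QuadraticMap.polar_self, hq, nsmul_one, Nat.cast_ofNat]
  refine ⟨fun i => Submodule.span F {b i}, ⟨oddQ_nondegenerate h2 2, by norm_num,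
    fun i => finrank_span_singleton (hb0 i), fun i z hz hzero => ?_, fun i j hij x hx y hy => ?_, ?_,
    fun i j => ?_⟩, fun φ hφ g => ?_⟩
  · obtain ⟨c, rfl⟩ := Submodule.mem_span_singleton.1 hz
    have h := hzero (b i) (Submodule.mem_span_singleton_self _)
    rw [QuadraticMap.polar_smul_right, hbb, smul_eq_mul, mul_eq_zero] at h
    rw [h.resolve_right h2, zero_smul]
  · obtain ⟨c, rfl⟩ := Submodule.mem_span_singleton.1 hx
    obtain ⟨d, rfl⟩ := Submodule.mem_span_singleton.1 hy
    rw [QuadraticMap.polar_smul_left, QuadraticMap.polar_smul_right, horth i j hij, smul_zero, smul_zero]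
  · rw [← hspan, Submodule.span_range_eq_iSup]
  · refine ⟨(LinearEquiv.toSpanNonzeroSingleton F _ (b i) (hb0 i)).symm ≪≫ₗ
      LinearEquiv.toSpanNonzeroSingleton F _ (b j) (hb0 j), fun w => ?_⟩
    obtain ⟨c, rfl⟩ := (LinearEquiv.toSpanNonzeroSingleton F _ (b i) (hb0 i)).surjective w
    rw [LinearEquiv.trans_apply, LinearEquiv.symm_apply_apply, LinearEquiv.toSpanNonzeroSingleton_apply,
      LinearEquiv.toSpanNonzeroSingleton_apply, QuadraticMap.map_smul, QuadraticMap.map_smul, hq, hq]
  have hinj : Function.Injective fun i => Submodule.span F {b i} := fun i j e => by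
    by_contra hij
    have h : b i ∈ Submodule.span F {b j} := by
      rw [← show Submodule.span F {b i} = Submodule.span F {b j} from e]
      exact Submodule.mem_span_singleton_self _
    obtain ⟨c, hc⟩ := Submodule.mem_span_singleton.1 h
    have h3 := horth i j hij
    rw [← hc, QuadraticMap.polar_smul_left, hbb, smul_eq_mul, mul_eq_zero] at h3
    exact hb0 i (by rw [← hc, h3.resolve_right h2, zero_smul])
  show (g : G) ∈ Subgroup.normalizer (R : Set G) ↔ _
  constructor
  · intro hg
    refine OrthMax.mem_decompositionStabilizer_of_maps hinj (fun i => finrank_span_singleton (hb0 i)) fun i => ?_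
    obtain ⟨x, hx, hxe⟩ := hb i
    have hmem : ((φ g).1 : Matrix ι₅ ι₅ F) *ᵥ b i ∈ TwoData.vecs R :=
      ⟨(g : G) * x * (g : G)⁻¹, (Subgroup.mem_normalizer_iff.1 hg x).1 hx, by
        rw [Units.val_mul, Units.val_mul, hxe, hφ]⟩
    obtain ⟨j, hj⟩ := hall _ hmem
    refine ⟨j, fun v hv => ?_⟩
    obtain ⟨c, rfl⟩ := Submodule.mem_span_singleton.1 hv
    rw [mulVec_smul]
    refine Submodule.smul_mem _ _ ?_
    rcases hj with h | h <;> rw [h]
    · exact Submodule.mem_span_singleton_self _
    · exact Submodule.neg_mem _ (Submodule.mem_span_singleton_self _)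
  · rintro ⟨σ, hσ⟩
    haveI : Finite R := Nat.finite_of_card_ne_zero (by rw [hcard]; norm_num)
    set c := (MulAut.conj (g : G)).toMonoidHom with hc
    have hle' : R.map c ≤ R := by
      have h1 : R ≤ Subgroup.comap c R := by
        refine fun x hx => (Subgroup.closure_le _).2 ?_ (T.closure_eq hb horth hspan hx)
        rintro y ⟨i, hy⟩
        have hv : ((φ g).1 : Matrix ι₅ ι₅ F) *ᵥ b i ∈ Submodule.span F {b (σ i)} := by
          rw [show Submodule.span F {b (σ i)} = _ from (hσ i).symm, ← toLin'_apply]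
          exact Submodule.mem_map_of_mem (Submodule.mem_span_singleton_self _)
        obtain ⟨d, hd⟩ := Submodule.mem_span_singleton.1 hv
        have hqd : Q₅ (((φ g).1 : Matrix ι₅ ι₅ F) *ᵥ b i) = 1 := by
          refine smul_one_inj ?_
          rw [← E_sq, hφ, one_smul, ← hy]
          simp only [mul_assoc]
          rw [← mul_assoc (((g : G)⁻¹ : G) : Mat) (g : G), Units.inv_mul, one_mul, ← mul_assoc (y : Mat), hy,
            E_sq, hq, one_smul, one_mul, Units.mul_inv]
        rw [← hd, QuadraticMap.map_smul, hq, smul_eq_mul, mul_one] at hqd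
        have hmem : d • b (σ i) ∈ TwoData.vecs R := by
          rcases mul_self_eq_one_iff.1 hqd with rfl | rfl
          · rw [one_smul]; exact hb _
          · rw [neg_one_smul]; exact T.neg_mem_vecs (hb _)
        obtain ⟨z, hz, hze⟩ := hmem
        show c y ∈ R
        have : c y = z := Units.ext (by
          rw [hze, hd, hφ, ← hy]
          simp [hc, MulAut.conj_apply])
        rwa [this]
      exact Subgroup.map_le_iff_le_comap.2 h1
    have heq : R.map c = R := Subgroup.eq_of_le_of_card_ge hle'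
      (le_of_eq (Nat.card_congr (R.equivMapOfInjective c (MulAut.conj (g : G)).injective).toEquiv))
    refine Subgroup.mem_normalizer_iff.2 fun x => ⟨fun hx => ?_, fun hx => ?_⟩
    · rw [← heq]; exact ⟨x, hx, rfl⟩
    · rw [← heq] at hx
      obtain ⟨y, hy, hye⟩ := hx
      rwa [← (MulAut.conj (g : G)).injective (show MulAut.conj (g : G) y = MulAut.conj (g : G) x from hye)]

end CfsgLib.SpFourOdd
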