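import Cfsg.Agent.OrthMax.NondegenerateWrap
import Cfsg.Agent.OrthMax.PlaneTools

/-!
# Stabilisers of anisotropic planes are maximal in `Ω_5(q)`, `q ≥ 5` odd

`isMaximalIn_minusPlane`. Write `U = W^⊥`. A root element joining a singular point of `U` to `W` gives all of
`Ω`; an element mapping some singular point of `U` into `U` gives one or fixes `W`. Otherwise every element
off the stabiliser maps `W` into `U`, which is impossible for `g h g` with `h` in the stabiliser.
-/

set_option autoImplicit false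
set_option linter.unusedSectionVars false

namespace CfsgLib.SpFourOdd

open Matrix Module CfsgLib.Spinor CfsgLib.Forms CfsgLib.Forms4 Cfsg.Geo CfsgLib.OmegaOrbits CfsgLib.OrthMax

variable {F : Type*} [Field F] [Fintype F] {ι : Type} [Fintype ι] [DecidableEq ι]
  {Q : QuadraticForm F (ι → F)}

set_option quotPrecheck false in
local notation "𝔅" => QuadraticMap.polar (⇑Q)

/-- A nonzero scalar whose square avoids two values. -/
theorem exists_sq_avoid (a b : F) (hq : 6 ≤ Fintype.card F) : ∃ e : F, e ≠ 0 ∧ e ^ 2 ≠ a ∧ e ^ 2 ≠ b := by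
  classical
  have hroots : ∀ c : F, (Finset.univ.filter fun s : F => s ^ 2 = c).card ≤ 2 := fun c => by
    have h := card_roots_le_two (A := (1 : F)) (B := 0) (-c) (fun h => absurd h one_ne_zero)
    simpa [add_neg_eq_zero] using h
  obtain ⟨e, he⟩ := card_le_filter (s := {0} ∪ (Finset.univ.filter fun s : F => s ^ 2 = a) ∪
    (Finset.univ.filter fun s : F => s ^ 2 = b)) (by
    refine lt_of_le_of_lt (Finset.card_union_le _ _) (lt_of_le_of_lt
      (Nat.add_le_add (Finset.card_union_le _ _) le_rfl) ?_)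
    have := hroots a
    have := hroots b
    rw [Finset.card_singleton]
    omega)
  simp only [Finset.mem_union, Finset.mem_singleton, Finset.mem_filter, Finset.mem_univ, true_and,
    not_or] at he
  exact ⟨e, he.1.1, he.1.2, he.2⟩

/-- A nonzero scalar whose square avoids a value. -/
theorem exists_sq_avoid_one (a : F) (hq : 5 ≤ Fintype.card F) : ∃ e : F, e ≠ 0 ∧ e ^ 2 ≠ a := by
  classical
  have hroots : (Finset.univ.filter fun s : F => s ^ 2 = a).card ≤ 2 := by
    have h := card_roots_le_two (A := (1 : F)) (B := 0) (-a) (fun h => absurd h one_ne_zero)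
    simpa [add_neg_eq_zero] using h
  obtain ⟨e, he⟩ := card_le_filter (s := {0} ∪ (Finset.univ.filter fun s : F => s ^ 2 = a)) (by
    refine lt_of_le_of_lt (Finset.card_union_le _ _) ?_
    rw [Finset.card_singleton]
    omega)
  simp only [Finset.mem_union, Finset.mem_singleton, Finset.mem_filter, Finset.mem_univ, true_and,
    not_or] at he
  exact ⟨e, he⟩

theorem quad_comb {p n : ι → F} (hpn : 𝔅 p n = 0) (a b : F) :
    Q (a • p + b • n) = a ^ 2 * Q p + b ^ 2 * Q n := by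
  rw [QuadraticMap.map_add (⇑Q), QuadraticMap.map_smul, QuadraticMap.map_smul,
    QuadraticMap.polar_smul_left, QuadraticMap.polar_smul_right, hpn]
  simp only [smul_eq_mul]
  ring

/-- A second vector of the same value in the plane of an orthogonal pair. -/
theorem exists_same_value (h2 : (2 : F) ≠ 0) {p n : ι → F} (hpn : 𝔅 p n = 0) (hp : Q p ≠ 0) {e : F}
    (he : e ≠ 0) (he1 : e ^ 2 ≠ -(Q n / Q p)) :
    ∃ α β : F, β ≠ 0 ∧ Q (α • p + β • n) = Q p ∧ (e ^ 2 ≠ Q n / Q p → α ≠ 0) := by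
  set d := Q n / Q p with hd
  have hd' : Q n = d * Q p := by rw [hd, div_mul_cancel₀ _ hp]
  clear_value d
  set γ := d + e ^ 2 with hγ
  have hγ0 : γ ≠ 0 := fun h => he1 (by rw [hγ] at h; linear_combination h)
  refine ⟨(d - e ^ 2) / γ, 2 * e / γ, div_ne_zero (mul_ne_zero h2 he) hγ0, ?_,
    fun h => div_ne_zero (sub_ne_zero.2 (Ne.symm h)) hγ0⟩
  rw [quad_comb hpn, hd']
  field_simp
  rw [hγ]
  ring

theorem mulVec_inv_left (g : Isom Q) (x : ι → F) : mat Q g⁻¹ *ᵥ (mat Q g *ᵥ x) = x := by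
  rw [mulVec_mulVec, ← mat_mul, inv_mul_cancel, mat_one, one_mulVec]

theorem mulVec_inv_right (g : Isom Q) (x : ι → F) : mat Q g *ᵥ (mat Q g⁻¹ *ᵥ x) = x := by
  rw [mulVec_mulVec, ← mat_mul, mul_inv_cancel, mat_one, one_mulVec]

variable (Q) in
/-- The standing data: an anisotropic plane and a group containing its stabiliser in `Ω`. -/
structure Setting (M : Subgroup (Isom Q)) (W : Submodule F (ι → F)) : Prop where
  h2 : (2 : F) ≠ 0
  h5 : 5 ≤ Fintype.card F
  hQ : (QuadraticMap.polarBilin Q).Nondegenerate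
  hn : Fintype.card ι = 5
  hW : Nd Q W
  hd : finrank F W = 2
  aniso : ∀ x ∈ W, Q x = 0 → x = 0
  le : M ≤ Cfsg.Omega F ⇑Q
  cont : ∀ k ∈ Cfsg.Omega F ⇑Q, (∀ x ∈ W, mat Q k *ᵥ x ∈ W) → k ∈ M

namespace Setting

variable {M : Subgroup (Isom Q)} {W : Submodule F (ι → F)} (S : Setting Q M W)
include S

theorem perp {w u : ι → F} (hw : w ∈ W) (hu : u ∈ qperp Q W) : 𝔅 w u = 0 := mem_qperp.1 hu _ hw

theorem perp' {w u : ι → F} (hw : w ∈ W) (hu : u ∈ qperp Q W) : 𝔅 u w = 0 := by
  rw [QuadraticMap.polar_comm]; exact S.perp hw hu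

theorem quad_ne {w : ι → F} (hw : w ∈ W) (hw0 : w ≠ 0) : Q w ≠ 0 := fun e => hw0 (S.aniso w hw e)

theorem finU : finrank F (qperp Q W) = 3 := by rw [finrank_qperp S.hQ, S.hn, S.hd]

theorem polar_self_ne {w : ι → F} (hw : Q w ≠ 0) : 𝔅 w w ≠ 0 := by
  rw [polar_self']
  exact mul_ne_zero S.h2 hw

theorem rootU {u w : ι → F} (hu : Q u = 0) (huU : u ∈ qperp Q W) (hwU : w ∈ qperp Q W) (huw : 𝔅 u w = 0) :
    RootMem M u w := by
  refine RootMem.of_iso hu huw (S.cont _ (eich_mem_omega S.hQ (by rw [S.hn]) hu huw) fun x hx => ?_)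
  rw [mat_eichIso, eich_mulVec, S.perp' hx huU, S.perp' hx hwU]
  simpa using hx

/-- A product of two reflections of equal value lies in `M` if it preserves `W`. -/
theorem refl2 {a b : ι → F} (ha : Q a ≠ 0) (hb : Q b ≠ 0) (hab : IsSquare (Q a * Q b))
    (hst : ∀ x ∈ W, refl Q a (refl Q b x) ∈ W) : reflIso Q a ha * reflIso Q b hb ∈ M := by
  refine S.cont _ ((mem_omega_iff_even S.hQ (Or.inr (by rw [S.hn]; omega))
    ((IsReflProd.reflIso a ha).mul (IsReflProd.reflIso b hb))).2 ⟨by simp, by simpa using hab⟩) fun x hx => ?_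
  rw [mat_refl_two]
  exact hst x hx

theorem reflW {a : ι → F} (ha : a ∈ W) {x : ι → F} (hx : x ∈ W) : refl Q a x ∈ W := by
  rw [refl_apply]
  exact W.sub_mem hx (W.smul_mem _ ha)

theorem refl_U_fix {a x : ι → F} (ha : a ∈ qperp Q W) (hx : x ∈ W) : refl Q a x = x :=
  refl_fix (S.perp' hx ha)

/-- Coordinates on `U` at a singular vector. -/
theorem exists_frame {u : ι → F} (hu : u ∈ qperp Q W) (hu0 : u ≠ 0) (huq : Q u = 0) :
    ∃ f ∈ qperp Q W, ∃ u₀ ∈ qperp Q W, Q f = 0 ∧ 𝔅 u f = 1 ∧ 𝔅 u u₀ = 0 ∧ 𝔅 f u₀ = 0 ∧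
      ∀ x ∈ qperp Q W, ∃ d : F, x = 𝔅 f x • u + 𝔅 u x • f + d • u₀ := by
  have hU : Nd Q (qperp Q W) := S.hW.qperp' S.hQ
  obtain ⟨f, hf, hfq, huf⟩ := exists_partner_in hu huq (by
    obtain ⟨x, hx, hux⟩ := hU.exists_polar_one hu hu0
    exact ⟨x, hx, by rw [hux]; exact one_ne_zero⟩)
  set K := qperp Q W ⊓ qperp Q (Submodule.span F {u}) ⊓ qperp Q (Submodule.span F {f}) with hK
  have hfu : 𝔅 f u = 1 := by rw [QuadraticMap.polar_comm]; exact huf
  have huu : 𝔅 u u = 0 := by rw [polar_self', huq, mul_zero]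
  have hff : 𝔅 f f = 0 := by rw [polar_self', hfq, mul_zero]
  obtain ⟨u₀, hu₀, hu₀0⟩ := Submodule.exists_mem_ne_zero_of_ne_bot (p := K) fun e => by
    have h1 := finrank_le_inf_qperp_add_one S.hQ (qperp Q W) u
    have h3 := finrank_le_inf_qperp_add_one S.hQ (qperp Q W ⊓ qperp Q (Submodule.span F {u})) f
    rw [← hK, e, finrank_bot] at h3
    rw [S.finU] at h1
    omega
  refine ⟨f, hf, u₀, hu₀.1.1, hfq, huf, mem_qperp_singleton.1 hu₀.1.2, mem_qperp_singleton.1 hu₀.2, ?_⟩
  intro x hx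
  set y := x - 𝔅 f x • u - 𝔅 u x • f with hy
  have hyK : y ∈ K := by
    refine ⟨⟨Submodule.sub_mem _ (Submodule.sub_mem _ hx (Submodule.smul_mem _ _ hu)) (Submodule.smul_mem _ _ hf),
      mem_qperp_singleton.2 ?_⟩, mem_qperp_singleton.2 ?_⟩ <;>
    simp [hy, QuadraticMap.polar_sub_right, QuadraticMap.polar_smul_right, huu, hff, huf, hfu]
  have hK1 : finrank F K ≤ 1 := by
    have hle : Submodule.span F {u} ⊔ Submodule.span F {f} ⊔ K ≤ qperp Q W :=
      sup_le (sup_le ((Submodule.span_singleton_le_iff_mem _ _).2 hu)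
        ((Submodule.span_singleton_le_iff_mem _ _).2 hf)) (inf_le_left.trans inf_le_left)
    have h1 := Submodule.finrank_mono hle
    rw [S.finU] at h1
    have huf2 : Submodule.span F {u} ⊓ Submodule.span F {f} = ⊥ := (Submodule.eq_bot_iff _).2 fun z hz => by
      obtain ⟨a, rfl⟩ := Submodule.mem_span_singleton.1 hz.1
      obtain ⟨b, hb⟩ := Submodule.mem_span_singleton.1 hz.2
      have := congrArg (𝔅 f) hb
      simp only [QuadraticMap.polar_smul_right, hff, hfu, smul_eq_mul, mul_zero, mul_one] at this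
      rw [← this, zero_smul]
    have hKd : (Submodule.span F {u} ⊔ Submodule.span F {f}) ⊓ K = ⊥ := (Submodule.eq_bot_iff _).2 fun z hz => by
      obtain ⟨z1, hz1, z2, hz2, rfl⟩ := Submodule.mem_sup.1 hz.1
      obtain ⟨a, rfl⟩ := Submodule.mem_span_singleton.1 hz1
      obtain ⟨b, rfl⟩ := Submodule.mem_span_singleton.1 hz2
      have e1 := mem_qperp_singleton.1 hz.2.1.2
      have e2 := mem_qperp_singleton.1 hz.2.2
      simp [QuadraticMap.polar_add_right, QuadraticMap.polar_smul_right, huu, huf] at e1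
      simp [QuadraticMap.polar_add_right, QuadraticMap.polar_smul_right, hff, hfu] at e2
      simp [e1, e2]
    have h4 := Submodule.finrank_sup_add_finrank_inf_eq (Submodule.span F {u}) (Submodule.span F {f})
    rw [huf2, finrank_bot, finrank_span_singleton hu0,
      finrank_span_singleton (fun e : f = 0 => by simp [e] at huf)] at h4
    have h5 := Submodule.finrank_sup_add_finrank_inf_eq (Submodule.span F {u} ⊔ Submodule.span F {f}) K
    rw [hKd, finrank_bot] at h5
    omega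
  have hKs : Submodule.span F {u₀} = K :=
    Submodule.eq_of_le_of_finrank_le ((Submodule.span_singleton_le_iff_mem _ _).2 hu₀)
      (by rw [finrank_span_singleton hu₀0]; exact hK1)
  rw [← hKs] at hyK
  obtain ⟨d, hd⟩ := Submodule.mem_span_singleton.1 hyK
  refine ⟨d, ?_⟩
  rw [hd, hy]
  abel

/-- A root element joining a singular point of `U` to `W` gives all of `Ω`. -/
theorem omega_le_of_mixed {p a : ι → F} (hp : p ∈ qperp Q W) (hp0 : p ≠ 0) (hpq : Q p = 0) (ha : a ∈ W)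
    (ha0 : a ≠ 0) (h : RootMem M p a) : Cfsg.Omega F ⇑Q ≤ M := by
  obtain ⟨f, hf, u₀, -, hfq, hpf, -, -, -⟩ := S.exists_frame hp hp0 hpq
  have hfp : 𝔅 f p = 1 := by rw [QuadraticMap.polar_comm]; exact hpf
  have hpp : 𝔅 p p = 0 := by rw [polar_self', hpq, mul_zero]
  have hff : 𝔅 f f = 0 := by rw [polar_self', hfq, mul_zero]
  have hQsum : ∀ c : F, Q (p + c • f) = c := fun c => by
    rw [QuadraticMap.map_add (⇑Q), QuadraticMap.map_smul, hpq, hfq, QuadraticMap.polar_smul_right, hpf]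
    simp
  -- square multiples
  have hsq : ∀ b ∈ W, RootMem M p b → ∀ σ : F, RootMem M p (σ ^ 2 • b) := by
    intro b hb hr σ
    rcases eq_or_ne σ 0 with rfl | hσ
    · rw [zero_pow two_ne_zero, zero_smul]; exact RootMem.zero
    set c := (σ ^ 2)⁻¹ with hc
    have hc0 : c ≠ 0 := inv_ne_zero (pow_ne_zero _ hσ)
    have h1U : p + (1 : F) • f ∈ qperp Q W := Submodule.add_mem _ hp (Submodule.smul_mem _ _ hf)
    have h2U : p + c • f ∈ qperp Q W := Submodule.add_mem _ hp (Submodule.smul_mem _ _ hf)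
    have hq1 : Q (p + (1 : F) • f) ≠ 0 := by rw [hQsum]; exact one_ne_zero
    have hq2 : Q (p + c • f) ≠ 0 := by rw [hQsum]; exact hc0
    have hk := S.refl2 hq2 hq1 ⟨σ⁻¹, by rw [hQsum, hQsum, hc]; ring⟩ fun x hx => by
      rw [S.refl_U_fix h1U hx, S.refl_U_fix h2U hx]; exact hx
    have := hr.conj hk
    rw [mat_refl_two, mat_refl_two, S.refl_U_fix h1U hb, S.refl_U_fix h2U hb] at this
    have hkp : refl Q (p + c • f) (refl Q (p + (1 : F) • f) p) = σ ^ 2 • p := by
      simp only [refl_apply, hQsum, QuadraticMap.polar_add_left, QuadraticMap.polar_smul_left,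
        QuadraticMap.polar_sub_right, QuadraticMap.polar_add_right, QuadraticMap.polar_smul_right,
        hpp, hff, hfp, hpf, smul_eq_mul, hc]
      match_scalars <;> field_simp <;> ring
    rw [hkp, rootMem_smul_left] at this
    exact this
  have hsmul : ∀ b ∈ W, RootMem M p b → ∀ t : F, RootMem M p (t • b) := by
    intro b hb hr t
    obtain ⟨x, y, hxy⟩ := exists_sq_add_sq S.h2 t
    rw [← hxy, add_smul, ← sq, ← sq]
    exact (hsq b hb hr x).add hpq (S.perp' (W.smul_mem _ hb) hp) (S.perp' (W.smul_mem _ hb) hp)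
      (hsq b hb hr y)
  -- a rotation of `W` moving the line of `a`
  have hqa := S.quad_ne ha ha0
  obtain ⟨n, hn, hn0, han⟩ := exists_perp_ne S.hQ S.hd a
  obtain ⟨e, he, hed⟩ := exists_sq_avoid_one (Q n / Q a) S.h5
  have hed' : e ^ 2 ≠ -(Q n / Q a) := fun h0 => by
    have h3 : Q (e • a + n) = 0 := by
      rw [← one_smul F n, quad_comb han, h0, neg_mul, div_mul_cancel₀ _ hqa, one_pow, one_mul, neg_add_cancel]
    have h4 := S.aniso _ (W.add_mem (W.smul_mem _ ha) hn) h3
    have h5 := congrArg (𝔅 a) h4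
    rw [QuadraticMap.polar_add_right, QuadraticMap.polar_smul_right, han, add_zero,
      QuadraticMap.polar_zero_right, smul_eq_mul] at h5
    exact S.polar_self_ne hqa ((mul_eq_zero.1 h5).resolve_left he)
  obtain ⟨α, β, hβ, hval, hα⟩ := exists_same_value S.h2 han hqa he hed'
  have hα0 := hα hed
  set l := α • a + β • n with hl
  have hlW : l ∈ W := W.add_mem (W.smul_mem _ ha) (W.smul_mem _ hn)
  have hql : Q l ≠ 0 := by rw [hval]; exact hqa
  have hk := S.refl2 hql hqa ⟨Q a, by rw [hval]⟩ fun x hx => S.reflW hlW (S.reflW ha hx)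
  have hr2 := h.conj hk
  rw [mat_refl_two, mat_refl_two] at hr2
  have e1 : ∀ {b : ι → F}, b ∈ W → refl Q b p = p := fun hb => refl_fix (S.perp hb hp)
  rw [e1 ha, e1 hlW] at hr2
  set a' := refl Q l (refl Q a a) with ha'
  have ha'W : a' ∈ W := S.reflW hlW (S.reflW ha ha)
  have ha'n : a' ∉ Submodule.span F {a} := by
    intro hm
    obtain ⟨t, ht⟩ := Submodule.mem_span_singleton.1 hm
    have h5 := congrArg (𝔅 n) ht
    have hna : 𝔅 n a = 0 := by rw [QuadraticMap.polar_comm]; exact han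
    have hnl : 𝔅 n l = β * (2 * Q n) := by
      rw [hl, QuadraticMap.polar_add_right, QuadraticMap.polar_smul_right, QuadraticMap.polar_smul_right, hna,
        polar_self' Q n, smul_zero, zero_add, smul_eq_mul]
    have hla : 𝔅 l a = α * (2 * Q a) := by
      rw [hl, QuadraticMap.polar_add_left, QuadraticMap.polar_smul_left, QuadraticMap.polar_smul_left, hna,
        polar_self' Q a, smul_zero, add_zero, smul_eq_mul]
    simp only [ha', refl_apply, hval, QuadraticMap.polar_smul_right, QuadraticMap.polar_sub_right,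
      hnl, hla, hna, polar_self' Q a, smul_eq_mul, mul_zero, sub_zero] at h5
    have hqn := S.quad_ne hn hn0
    field_simp at h5
    have : (2 : F) * 2 * (α * β) * (Q a * Q n) = 0 := by linear_combination -(Q a) * h5
    exact mul_ne_zero (mul_ne_zero (mul_ne_zero S.h2 S.h2) (mul_ne_zero hα0 hβ)) (mul_ne_zero hqa hqn) this
  have hallW : ∀ w ∈ W, RootMem M p w := fun w hw => by
    obtain ⟨x, y, rfl⟩ := plane_span S.hd ha ha'W ha0 ha'n hw
    exact (hsmul a ha h x).add hpq (S.perp' (W.smul_mem _ ha) hp) (S.perp' (W.smul_mem _ ha'W) hp)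
      (hsmul a' ha'W hr2 y)
  have hfull : Full M p := fun w hw => by
    obtain ⟨x, hx, z, hz, rfl⟩ := S.hW.exists_decomp S.hQ w
    have hpx := S.perp' hx hp
    rw [QuadraticMap.polar_add_right, hpx, zero_add] at hw
    exact (hallW x hx).add hpq hpx hw (S.rootU hpq hp hz hw)
  -- move `p` to its partner
  obtain ⟨w, hw, hwq⟩ := exists_value_mem S.hW.inf_qperp (by rw [S.hd]) (-1 : F) (neg_ne_zero.2 one_ne_zero)
  have h3U : p + (-1 : F) • f ∈ qperp Q W := Submodule.add_mem _ hp (Submodule.smul_mem _ _ hf)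
  have hq3 : Q (p + (-1 : F) • f) ≠ 0 := by rw [hQsum]; exact neg_ne_zero.2 one_ne_zero
  have hqw : Q w ≠ 0 := by rw [hwq]; exact neg_ne_zero.2 one_ne_zero
  have hk2 := S.refl2 hq3 hqw ⟨1, by rw [hQsum, hwq]; ring⟩ fun x hx => by
    rw [S.refl_U_fix h3U (S.reflW hw hx)]; exact S.reflW hw hx
  have hf2 := hfull.conj hk2
  have hkp : mat Q (reflIso Q _ hq3 * reflIso Q w hqw) *ᵥ p = f := by
    rw [mat_refl_two, e1 hw]
    simp only [refl_apply, hQsum, QuadraticMap.polar_add_left, QuadraticMap.polar_smul_left, hpp, hfp,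
      smul_eq_mul]
    match_scalars <;> field_simp <;> ring
  rw [hkp] at hf2
  exact omega_le_of_full_pair S.hQ (by rw [S.hn]) hpq hfq (by rw [hpf]; exact one_ne_zero) hfull hf2

/-- An element mapping a singular point of `U` into `U` gives `Ω` or fixes `W`. -/
theorem fix_or_omega_le {g : Isom Q} (hg : g ∈ M) {u : ι → F} (hu : u ∈ qperp Q W) (hu0 : u ≠ 0)
    (huq : Q u = 0) (hgu : mat Q g *ᵥ u ∈ qperp Q W) :
    Cfsg.Omega F ⇑Q ≤ M ∨ ∀ x ∈ W, mat Q g *ᵥ x ∈ W := by
  obtain ⟨f, hf, u₀, hu₀, hfq, huf, huu₀, hfu₀, hcoord⟩ := S.exists_frame hu hu0 huq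
  set s := mat Q g *ᵥ u with hs
  have hsq : Q s = 0 := by rw [hs, quad_mulVec, huq]
  have hs0 : s ≠ 0 := fun e => hu0 (OmegaOrbits.mulVec_injective g (by rw [mulVecLin_apply, ← hs, e, map_zero]))
  obtain ⟨a, ha, t, ht, hat⟩ := S.hW.exists_decomp S.hQ (mat Q g *ᵥ u₀)
  have hs₀ : 𝔅 s (a + t) = 0 := by rw [hat, hs, polar_mulVec, huu₀]
  have hsa := S.perp' ha hgu
  have hst : 𝔅 s t = 0 := by rwa [QuadraticMap.polar_add_right, hsa, zero_add] at hs₀
  have hr : RootMem M s a := by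
    have h1 := (S.rootU huq hu hu₀ huu₀).conj hg
    rw [← hs, ← hat] at h1
    have h3 := h1.add hsq hs₀ (w' := -t) (by rw [QuadraticMap.polar_neg_right, hst, neg_zero])
      ((S.rootU hsq hgu ht hst).neg hsq hst)
    rwa [add_neg_cancel_right] at h3
  by_cases ha0 : a ≠ 0
  · exact Or.inl (S.omega_le_of_mixed hgu hs0 hsq ha ha0 hr)
  rw [not_not] at ha0
  have hgu₀ : mat Q g *ᵥ u₀ ∈ qperp Q W := by rw [← hat, ha0, zero_add]; exact ht
  obtain ⟨w, hw, r, hr', hwr⟩ := S.hW.exists_decomp S.hQ (mat Q g *ᵥ f)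
  have hsw := S.perp' hw hgu
  have hsr : 𝔅 s r = 1 := by
    have h1 : 𝔅 s (w + r) = 1 := by rw [hwr, hs, polar_mulVec, huf]
    rwa [QuadraticMap.polar_add_right, hsw, zero_add] at h1
  set e := eichIso Q s w hsq hsw with he
  set h := e⁻¹ * g with hh
  have hdef : ∀ {x y : ι → F}, mat Q e *ᵥ y = mat Q g *ᵥ x → mat Q h *ᵥ x = y := fun {x y} hxy => by
    rw [hh, mat_mul, ← mulVec_mulVec, ← hxy, mulVec_inv_left]
  have hes : ∀ {y : ι → F}, y ∈ qperp Q W → 𝔅 s y = 0 → mat Q e *ᵥ y = y := fun {y} hy hsy => by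
    rw [he, mat_eichIso, eich_mulVec, hsy, S.perp hw hy]
    simp
  have h1 : mat Q h *ᵥ u = s := hdef (by rw [← hs, hes hgu (by rw [polar_self', hsq, mul_zero])])
  have h3 : mat Q h *ᵥ u₀ = mat Q g *ᵥ u₀ := hdef (hes hgu₀ (by rw [hs, polar_mulVec, huu₀]))
  have h4 : mat Q h *ᵥ f = r + Q w • s := hdef (by
    rw [← hwr, he, mat_eichIso, eich_mulVec, QuadraticMap.polar_add_right, QuadraticMap.polar_add_right,
      QuadraticMap.polar_smul_right, QuadraticMap.polar_smul_right, hsr, polar_self', hsq,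
      S.perp hw hr', S.perp hw hgu]
    simp only [smul_eq_mul, mul_zero, add_zero]
    module)
  have hhU : ∀ y ∈ qperp Q W, mat Q h *ᵥ y ∈ qperp Q W := fun y hy => by
    obtain ⟨d, hd⟩ := hcoord y hy
    rw [hd, mulVec_add, mulVec_add, mulVec_smul, mulVec_smul, mulVec_smul, h1, h3, h4]
    exact Submodule.add_mem _ (Submodule.add_mem _ (Submodule.smul_mem _ _ hgu) (Submodule.smul_mem _ _
      (Submodule.add_mem _ hr' (Submodule.smul_mem _ _ hgu)))) (Submodule.smul_mem _ _ hgu₀)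
  have hhW : ∀ x ∈ W, mat Q h *ᵥ x ∈ W := fun x hx => by
    have h5 := gmap_qperp S.hQ (gmap_eq_of_le h hhU)
    rw [qperp_qperp S.hQ] at h5
    rw [← h5]
    exact Submodule.mem_map_of_mem (f := mulVecLin (mat Q h)) hx
  have heΩ : e ∈ Cfsg.Omega F ⇑Q := eich_mem_omega S.hQ (by rw [S.hn]) hsq hsw
  have hhM : h ∈ M := S.cont h (mul_mem (inv_mem heΩ) (S.le hg)) hhW
  by_cases hw0 : w = 0
  · refine Or.inr fun x hx => ?_
    have : mat Q g *ᵥ x = mat Q e *ᵥ (mat Q h *ᵥ x) := by rw [hh, mat_mul, ← mulVec_mulVec, mulVec_inv_right]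
    rw [this, he, mat_eichIso, hw0, eich_zero, one_mulVec]
    exact hhW x hx
  have heM : e ∈ M := by
    have : e = g * h⁻¹ := by rw [hh]; group
    rw [this]
    exact M.mul_mem hg (M.inv_mem hhM)
  exact Or.inl (S.omega_le_of_mixed hgu hs0 hsq hw hw0 (RootMem.of_iso hsq hsw heM))

variable (hΩ : ¬ Cfsg.Omega F ⇑Q ≤ M)
include hΩ

/-- Off the stabiliser, and short of `Ω`, the image of `W` lies in `U`. -/
theorem image_le {g : Isom Q} (hg : g ∈ M) (hgS : ¬ ∀ x ∈ W, mat Q g *ᵥ x ∈ W) :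
    ∀ x ∈ W, mat Q g *ᵥ x ∈ qperp Q W := by
  obtain ⟨u, hu, hu0, huq⟩ := exists_singular S.hQ (qperp Q W) (by rw [S.finU])
  set s := mat Q g *ᵥ u with hs
  have hfix : ∀ {v : ι → F}, v ∈ qperp Q W → v ≠ 0 → Q v = 0 → ∀ {k : Isom Q}, k ∈ M →
      mat Q k *ᵥ v ∈ qperp Q W → ∀ x ∈ W, mat Q k *ᵥ x ∈ W := fun hv hv0 hvq _ hk hkv =>
    (S.fix_or_omega_le hk hv hv0 hvq hkv).resolve_left hΩ
  obtain ⟨ws, hws, us, hus, hsum⟩ := S.hW.exists_decomp S.hQ s
  have hsq : Q s = 0 := by rw [hs, quad_mulVec, huq]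
  have hQs : Q ws + Q us = 0 := by
    rw [← hsq, ← hsum, QuadraticMap.map_add (⇑Q), S.perp hws hus, add_zero]
  have hws0 : ws ≠ 0 := fun e => hgS (hfix hu hu0 huq hg (by rw [← hs, ← hsum, e, zero_add]; exact hus))
  have hqws := S.quad_ne hws hws0
  have hqus : Q us ≠ 0 := fun e => hqws (by rwa [e, add_zero] at hQs)
  obtain ⟨l, hl, hl0, hwl⟩ := exists_perp_ne S.hQ S.hd ws
  have hql := S.quad_ne hl hl0
  set P := qperp Q W ⊓ qperp Q (Submodule.span F {us}) with hP
  have husn : us ∉ P := fun h => S.polar_self_ne hqus (mem_qperp_singleton.1 h.2)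
  have hPd : finrank F P = 2 := by
    have h1 := finrank_le_inf_qperp_add_one S.hQ (qperp Q W) us
    rw [← hP, S.finU] at h1
    have h3 : finrank F P < finrank F (qperp Q W) :=
      Submodule.finrank_lt_finrank_of_lt (lt_of_le_of_ne inf_le_left fun e => husn (e ▸ hus))
    rw [S.finU] at h3
    omega
  have hPnd : Nd Q P := by
    intro z hz hall
    refine S.hW.qperp' S.hQ z hz.1 fun y hy => ?_
    set c := 𝔅 us y / 𝔅 us us with hc
    have hy' : y - c • us ∈ P := ⟨Submodule.sub_mem _ hy (Submodule.smul_mem _ _ hus), mem_qperp_singleton.2 (by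
      rw [QuadraticMap.polar_sub_right, QuadraticMap.polar_smul_right, smul_eq_mul, hc,
        div_mul_cancel₀ _ (S.polar_self_ne hqus), sub_self])⟩
    have h1 := hall _ hy'
    rw [QuadraticMap.polar_sub_left, QuadraticMap.polar_smul_left, mem_qperp_singleton.1 hz.2] at h1
    simpa using h1
  -- the basic property of a vector of `P` with the value of `l`
  have hstep : ∀ p ∈ P, Q p = Q l → ∀ x ∈ W,
      ∃ y ∈ W, mat Q g *ᵥ y = 𝔅 l (mat Q g *ᵥ x) • l + 𝔅 p (mat Q g *ᵥ x) • p := by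
    intro p hp hpl x hx
    have hqp : Q p ≠ 0 := by rwa [hpl]
    have hpl' : 𝔅 l p = 0 := S.perp hl hp.1
    set k := reflIso Q l hql * reflIso Q p hqp with hkdef
    have hk : k ∈ M := S.refl2 hql hqp ⟨Q l, by rw [hpl]⟩ fun z hz => by
      rw [S.refl_U_fix hp.1 hz]; exact S.reflW hl hz
    have hks : mat Q k *ᵥ s = s := by
      have h1 : 𝔅 p s = 0 := by
        rw [← hsum, QuadraticMap.polar_add_right, S.perp' hws hp.1, zero_add, QuadraticMap.polar_comm]
        exact mem_qperp_singleton.1 hp.2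
      have h3 : 𝔅 l s = 0 := by
        rw [← hsum, QuadraticMap.polar_add_right, S.perp hl hus, add_zero, QuadraticMap.polar_comm, hwl]
      rw [hkdef, mat_refl_two, refl_fix h1, refl_fix h3]
    have hconj := hfix hu hu0 huq (M.mul_mem (M.mul_mem (M.inv_mem hg) hk) hg) (by
      rw [mat_mul, mat_mul, ← mulVec_mulVec, ← mulVec_mulVec, ← hs, hks, hs, mulVec_inv_left]
      exact hu)
    have h5 := hconj x hx
    rw [mat_mul, mat_mul, ← mulVec_mulVec, ← mulVec_mulVec] at h5
    refine ⟨Q l • (x - mat Q g⁻¹ *ᵥ (mat Q k *ᵥ (mat Q g *ᵥ x))), W.smul_mem _ (W.sub_mem hx h5), ?_⟩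
    rw [mulVec_smul, mulVec_sub, mulVec_inv_right, hkdef, mat_refl_two]
    simp only [refl_apply, QuadraticMap.polar_sub_right, QuadraticMap.polar_smul_right, hpl', hpl,
      smul_eq_mul, mul_zero, sub_zero]
    match_scalars <;> field_simp <;> ring
  -- two independent vectors orthogonal to `s` are not both orthogonal to the image
  have hnopair : ∀ a b : ι → F, 𝔅 s a = 0 → 𝔅 s b = 0 →
      (∀ α β k : F, α • a + β • b = k • s → α = 0 ∧ β = 0) →
      ¬ ((∀ x ∈ W, 𝔅 (mat Q g *ᵥ x) a = 0) ∧ ∀ x ∈ W, 𝔅 (mat Q g *ᵥ x) b = 0) := by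
    rintro a b hsa hsb hind ⟨ha, hb⟩
    obtain ⟨f, -, u₀, -, -, -, -, -, hcoord⟩ := S.exists_frame hu hu0 huq
    have hpull : ∀ {a : ι → F}, 𝔅 s a = 0 → (∀ x ∈ W, 𝔅 (mat Q g *ᵥ x) a = 0) →
        ∃ c d : F, a = c • s + d • (mat Q g *ᵥ u₀) := by
      intro a hsa ha
      have hU' : mat Q g⁻¹ *ᵥ a ∈ qperp Q W := mem_qperp.2 fun x hx => by
        rw [← polar_mulVec Q g, mulVec_inv_right]; exact ha x hx
      obtain ⟨d, hd⟩ := hcoord _ hU'
      have h0 : 𝔅 u (mat Q g⁻¹ *ᵥ a) = 0 := by rw [← polar_mulVec Q g, mulVec_inv_right, ← hs, hsa]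
      rw [h0, zero_smul, add_zero] at hd
      refine ⟨𝔅 f (mat Q g⁻¹ *ᵥ a), d, ?_⟩
      have := congrArg (fun y => mat Q g *ᵥ y) hd
      simp only [mulVec_inv_right, mulVec_add, mulVec_smul] at this
      exact this
    obtain ⟨c, d, hca⟩ := hpull hsa ha
    obtain ⟨c', d', hcb⟩ := hpull hsb hb
    obtain ⟨-, hd0⟩ := hind d' (-d) (d' * c - d * c') (by rw [hca, hcb]; module)
    have h6 := (hind 1 0 c (by rw [hca, neg_eq_zero.1 hd0]; module)).1
    exact one_ne_zero h6
  obtain ⟨p, hp, hpl⟩ := exists_value_mem hPnd.inf_qperp (by rw [hPd]) (Q l) hql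
  have hqp : Q p ≠ 0 := by rwa [hpl]
  have hp0 : p ≠ 0 := fun e => hqp (by rw [e, QuadraticMap.map_zero])
  obtain ⟨n, hn, hn0, hpn⟩ := exists_perp_ne S.hQ hPd p
  have hnp : n ∉ Submodule.span F {p} := fun hm => by
    obtain ⟨c, rfl⟩ := Submodule.mem_span_singleton.1 hm
    rw [QuadraticMap.polar_smul_right, smul_eq_mul, mul_eq_zero] at hpn
    exact hn0 (by rw [hpn.resolve_right (S.polar_self_ne hqp), zero_smul])
  obtain ⟨e, he, hed⟩ := exists_sq_avoid_one (-(Q n / Q p)) S.h5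
  obtain ⟨α₁, β₁, hβ₁, hval₁, -⟩ := exists_same_value S.h2 hpn hqp he hed
  set p' := α₁ • p + β₁ • n with hp'def
  have hp'P : p' ∈ P := P.add_mem (P.smul_mem _ hp) (P.smul_mem _ hn)
  have hp'l : Q p' = Q l := hval₁.trans hpl
  have hp'np : p' ∉ Submodule.span F {p} := fun hm => hnp (by
    have := Submodule.sub_mem _ hm (Submodule.smul_mem _ α₁ (Submodule.mem_span_singleton_self p))
    rw [hp'def, add_sub_cancel_left] at this
    exact (Submodule.smul_mem_iff _ hβ₁).1 this)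
  have hsP : ∀ q ∈ P, 𝔅 s q = 0 := fun q hq => by
    rw [← hsum, QuadraticMap.polar_add_left, S.perp hws hq.1, zero_add, mem_qperp_singleton.1 hq.2]
  have hsl : 𝔅 s l = 0 := by rw [← hsum, QuadraticMap.polar_add_left, hwl, S.perp' hl hus, add_zero]
  set X := gmap g W with hX
  have hXd : finrank F X = 2 := by rw [finrank_gmap, S.hd]
  have hXq : ∀ z ∈ X, Q z = 0 → z = 0 := by
    rintro _ ⟨y, hy, rfl⟩ h0
    rw [mulVecLin_apply, quad_mulVec] at h0
    rw [S.aniso y hy h0, map_zero]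
  have hmem : ∀ q ∈ P, Q q = Q l → ∀ z ∈ X, 𝔅 l z • l + 𝔅 q z • q ∈ X := by
    rintro q hq hql' _ ⟨x, hx, rfl⟩
    obtain ⟨y, hy, hgy⟩ := hstep q hq hql' x hx
    exact ⟨y, hy, hgy⟩
  have hpp : 𝔅 p p = 2 * Q l := by rw [polar_self', hpl]
  by_cases hla : ∀ z ∈ X, 𝔅 l z = 0
  · have hinX : ∀ q ∈ P, Q q = Q l → q ∈ X := by
      intro q hq hql'
      obtain ⟨z, hz, hzq⟩ : ∃ z ∈ X, 𝔅 q z ≠ 0 := by
        by_contra! hall
        refine hnopair l q hsl (hsP q hq) (fun α β k hk => ?_)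
          ⟨fun x hx => by rw [QuadraticMap.polar_comm]; exact hla _ ⟨x, hx, rfl⟩,
            fun x hx => by rw [QuadraticMap.polar_comm]; exact hall _ ⟨x, hx, rfl⟩⟩
        have e1 := congrArg (𝔅 l) hk
        have e2 := congrArg (𝔅 q) hk
        simp only [QuadraticMap.polar_add_right, QuadraticMap.polar_smul_right, polar_self',
          S.perp hl hq.1, S.perp' hl hq.1, QuadraticMap.polar_comm (⇑Q) l s, hsl,
          QuadraticMap.polar_comm (⇑Q) q s, hsP q hq, hql', smul_eq_mul, mul_zero, add_zero, zero_add] at e1 e2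
        exact ⟨(mul_eq_zero.1 e1).resolve_right (mul_ne_zero S.h2 hql),
          (mul_eq_zero.1 e2).resolve_right (mul_ne_zero S.h2 hql)⟩
      have h7 := hmem q hq hql' z hz
      rw [hla z hz, zero_smul, zero_add] at h7
      exact (X.smul_mem_iff hzq).1 h7
    intro x hx
    obtain ⟨a, b, hab⟩ := plane_span hXd (hinX p hp hpl) (hinX p' hp'P hp'l) hp0 hp'np
      (⟨x, hx, rfl⟩ : mulVecLin (mat Q g) x ∈ X)
    rw [mulVecLin_apply] at hab
    rw [← hab]
    exact (inf_le_left : P ≤ qperp Q W) (P.add_mem (P.smul_mem _ hp) (P.smul_mem _ hp'P))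
  exfalso
  push Not at hla
  obtain ⟨z₀, hz₀, hlz⟩ := hla
  have hall_of : ∀ q ∈ P, Q q = Q l → (∃ z ∈ X, 𝔅 q z ≠ 0) → l ∈ X → q ∈ X := by
    intro q hq hql' ⟨z, hz, hzq⟩ hlX
    have h7 := X.sub_mem (hmem q hq hql' z hz) (X.smul_mem (𝔅 l z) hlX)
    rw [add_sub_cancel_left] at h7
    exact (X.smul_mem_iff hzq).1 h7
  by_cases hlX : l ∈ X
  · -- a member of value `Q l` in the image
    obtain ⟨r, hr, hrl, hrX⟩ : ∃ r ∈ P, Q r = Q l ∧ r ∈ X := by
      by_contra! hall
      have hperp : ∀ q ∈ P, Q q = Q l → ∀ x ∈ W, 𝔅 (mat Q g *ᵥ x) q = 0 := fun q hq hql' x hx => by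
        by_contra hne
        exact hall q hq hql' (hall_of q hq hql' ⟨_, ⟨x, hx, rfl⟩, by rwa [QuadraticMap.polar_comm]⟩ hlX)
      refine hnopair p p' (hsP p hp) (hsP p' hp'P) (fun α β k hk => ?_)
        ⟨hperp p hp hpl, hperp p' hp'P hp'l⟩
      have hk0 : k = 0 := by
        have e1 := congrArg (𝔅 ws) hk
        rw [← hsum, QuadraticMap.polar_smul_right, QuadraticMap.polar_add_right,
          QuadraticMap.polar_add_right, QuadraticMap.polar_smul_right, QuadraticMap.polar_smul_right,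
          S.perp hws hp.1, S.perp hws hp'P.1, S.perp hws hus] at e1
        simp only [smul_eq_mul, mul_zero, add_zero] at e1
        exact (mul_eq_zero.1 e1.symm).resolve_right (S.polar_self_ne hqws)
      rw [hk0, zero_smul] at hk
      have hβ0 : β = 0 := by
        by_contra hne
        refine hp'np (Submodule.mem_span_singleton.2 ⟨-(β⁻¹ * α), ?_⟩)
        rw [show p' = β⁻¹ • (β • p') by rw [smul_smul, inv_mul_cancel₀ hne, one_smul],
          show β • p' = -(α • p) by linear_combination (norm := module) hk]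
        module
      rw [hβ0, zero_smul, add_zero, smul_eq_zero] at hk
      exact ⟨hk.resolve_right hp0, hβ0⟩
    have hqr : Q r ≠ 0 := by rwa [hrl]
    have hr0 : r ≠ 0 := fun e0 => hqr (by rw [e0, QuadraticMap.map_zero])
    -- anisotropy makes `-1` a non-square, so the field has at least seven elements
    have hm1 : ∀ i : F, i ^ 2 ≠ -1 := fun i hi => by
      have h8 := hXq _ (X.add_mem (X.smul_mem i hlX) (X.smul_mem 1 hrX)) (by
        rw [quad_comb (S.perp hl hr.1), hi, hrl]; ring)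
      have h9 := congrArg (𝔅 r) h8
      rw [QuadraticMap.polar_add_right, QuadraticMap.polar_smul_right, QuadraticMap.polar_smul_right,
        S.perp' hl hr.1, QuadraticMap.polar_zero_right] at h9
      exact S.polar_self_ne hqr (by simpa using h9)
    have h6 : 6 ≤ Fintype.card F := by
      rcases Nat.lt_or_ge (Fintype.card F) 6 with hlt | hge
      · refine absurd ?_ (hm1 2)
        have h10 := FiniteField.cast_card_eq_zero F
        rw [show Fintype.card F = 5 by have := S.h5; omega] at h10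
        push_cast at h10
        linear_combination h10
      · exact hge
    obtain ⟨m, hm, hm0, hrm⟩ := exists_perp_ne S.hQ hPd r
    obtain ⟨e₂, he₂, he₂a, he₂b⟩ := exists_sq_avoid (-(Q m / Q r)) (Q m / Q r) h6
    obtain ⟨α, β, hβ, hval, hα⟩ := exists_same_value S.h2 hrm hqr he₂ he₂a
    set r' := α • r + β • m with hr'
    have hr'P : r' ∈ P := P.add_mem (P.smul_mem _ hr) (P.smul_mem _ hm)
    have hr'X : r' ∈ X := hall_of r' hr'P (hval.trans hrl) ⟨r, hrX, by
      rw [hr', QuadraticMap.polar_add_left, QuadraticMap.polar_smul_left, QuadraticMap.polar_smul_left,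
        QuadraticMap.polar_comm (⇑Q) m r, hrm]
      simp only [smul_eq_mul, mul_zero, add_zero]
      exact mul_ne_zero (hα he₂b) (S.polar_self_ne hqr)⟩ hlX
    obtain ⟨a, b, hab⟩ := plane_span hXd hlX hrX hl0 (fun hmem' => hr0 (by
      obtain ⟨c, hc⟩ := Submodule.mem_span_singleton.1 hmem'
      exact (Submodule.eq_bot_iff _).1 S.hW.inf_qperp r ⟨hc ▸ W.smul_mem c hl, hr.1⟩)) hr'X
    have ha0 : a = 0 := by
      have h11 := congrArg (𝔅 l) hab
      rw [QuadraticMap.polar_add_right, QuadraticMap.polar_smul_right, QuadraticMap.polar_smul_right,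
        S.perp hl hr.1, S.perp hl hr'P.1] at h11
      simp only [smul_eq_mul, mul_zero, add_zero] at h11
      exact (mul_eq_zero.1 h11).resolve_right (S.polar_self_ne hql)
    rw [ha0, zero_smul, zero_add] at hab
    have h12 : β • m = (b - α) • r := by rw [sub_smul, hab, hr']; abel
    have h13 := congrArg (𝔅 m) h12
    rw [QuadraticMap.polar_smul_right, QuadraticMap.polar_smul_right, QuadraticMap.polar_comm (⇑Q) m r, hrm,
      smul_zero, smul_eq_mul, mul_eq_zero] at h13
    rcases h13 with h13 | h13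
    · exact hβ h13
    · refine hm0 (hPnd.eq_zero_of_two hPd hr hm hr0 (fun hm' => ?_) hm hrm h13)
      obtain ⟨c, rfl⟩ := Submodule.mem_span_singleton.1 hm'
      rw [QuadraticMap.polar_smul_right, smul_eq_mul, mul_eq_zero] at hrm
      exact hm0 (by rw [hrm.resolve_right (S.polar_self_ne hqr), zero_smul])
  -- `l` outside the image
  have hne : ∀ q ∈ P, Q q = Q l → 𝔅 q z₀ ≠ 0 := fun q hq hql' h0 => hlX (by
    have h14 := hmem q hq hql' z₀ hz₀
    rw [h0, zero_smul, add_zero] at h14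
    exact (X.smul_mem_iff hlz).1 h14)
  have hsym : ∀ q ∈ P, Q q = Q l → ∀ q' ∈ P, Q q' = Q l →
      2 * Q l * 𝔅 q' z₀ = 𝔅 q z₀ * 𝔅 q' q := by
    intro q hq hql' q' hq' hq'l
    by_contra hne'
    have h15 := X.sub_mem (hmem q' hq' hq'l _ (hmem q hq hql' z₀ hz₀))
      (X.smul_mem (2 * Q l) (hmem q' hq' hq'l z₀ hz₀))
    have h16 : (𝔅 q z₀ * 𝔅 q' q - 2 * Q l * 𝔅 q' z₀) • q' ∈ X := by
      convert h15 using 1
      simp only [QuadraticMap.polar_add_right, QuadraticMap.polar_smul_right, polar_self',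
        S.perp hl hq.1, S.perp' hl hq'.1, smul_eq_mul]
      module
    have h17 := (X.smul_mem_iff (sub_ne_zero.2 fun h => hne' h.symm)).1 h16
    have h18 := X.sub_mem (hmem q' hq' hq'l z₀ hz₀) (X.smul_mem (𝔅 q' z₀) h17)
    rw [add_sub_cancel_right] at h18
    exact hlX ((X.smul_mem_iff hlz).1 h18)
  have e1 := hsym p hp hpl p' hp'P hp'l
  have e2 := hsym p' hp'P hp'l p hp hpl
  rw [QuadraticMap.polar_comm (⇑Q) p' p] at e1
  have hpp' : 𝔅 p p' = 2 * Q l * α₁ := by
    rw [hp'def, QuadraticMap.polar_add_right, QuadraticMap.polar_smul_right, QuadraticMap.polar_smul_right,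
      hpn, hpp, smul_eq_mul, smul_zero, add_zero]
    ring
  rw [hpp'] at e1 e2
  have h2l : (2 : F) * Q l ≠ 0 := mul_ne_zero S.h2 hql
  have ea : 𝔅 p' z₀ = 𝔅 p z₀ * α₁ := mul_left_cancel₀ h2l (by linear_combination e1)
  have eb : 𝔅 p z₀ = 𝔅 p' z₀ * α₁ := mul_left_cancel₀ h2l (by linear_combination e2)
  have hα1 : α₁ ^ 2 = 1 := mul_left_cancel₀ (hne p hp hpl) (by rw [ea] at eb; linear_combination -eb)
  have hv := hval₁
  rw [hp'def, quad_comb hpn, hα1, one_mul, add_eq_left, mul_eq_zero] at hv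
  rcases hv with hv | hv
  · exact hβ₁ (pow_eq_zero_iff two_ne_zero |>.1 hv)
  · exact hn0 (hPnd.eq_zero_of_two hPd hp hn hp0 hnp hn hpn (by rw [polar_self', hv, mul_zero]))

/-- Nothing lies off the stabiliser short of `Ω`. -/
theorem preserves {g : Isom Q} (hg : g ∈ M) : ∀ x ∈ W, mat Q g *ᵥ x ∈ W := by
  by_contra hgS
  set U := qperp Q W with hUdef
  set X := gmap g W with hX
  have hXU : X ≤ U := by rintro _ ⟨x, hx, rfl⟩; exact S.image_le hΩ hg hgS x hx
  have hXd : finrank F X = 2 := by rw [finrank_gmap, S.hd]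
  set K := U ⊓ qperp Q X with hK
  have hKd : finrank F K ≤ 1 := by
    have h1 := Submodule.finrank_sup_add_finrank_inf_eq X K
    have h2 : X ⊓ K = ⊥ := by
      rw [eq_bot_iff]
      exact le_trans (inf_le_inf_left _ inf_le_right) (S.hW.gmap g).inf_qperp.le
    have h3 := Submodule.finrank_mono (sup_le hXU inf_le_left : X ⊔ K ≤ U)
    rw [h2, finrank_bot, hXd] at h1
    rw [hUdef, S.finU] at h3
    omega
  have hXsub : ∀ y ∈ U, mat Q g *ᵥ y ∈ qperp Q X := fun y hy => mem_qperp.2 (by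
    rintro _ ⟨x, hx, rfl⟩
    rw [mulVecLin_apply, polar_mulVec]
    exact S.perp hx hy)
  -- every element of the stabiliser maps the image to the inverse image
  have hhX : ∀ h ∈ M, (∀ x ∈ W, mat Q h *ᵥ x ∈ W) → gmap h X = gmap g⁻¹ W := by
    intro h hh hhW
    have hkW : ∀ x ∈ W, mat Q (g * h * g) *ᵥ x ∈ W := by
      by_contra hne
      have hk := S.image_le hΩ (M.mul_mem (M.mul_mem hg hh) hg) hne
      have hle : gmap (g * h * g) W ≤ K := by
        rintro _ ⟨x, hx, rfl⟩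
        refine ⟨hk x hx, ?_⟩
        rw [mulVecLin_apply, mat_mul, mat_mul, ← mulVec_mulVec, ← mulVec_mulVec]
        refine hXsub _ ?_
        have h4 := gmap_qperp S.hQ (gmap_eq_of_le h hhW)
        rw [hUdef, ← h4]
        exact Submodule.mem_map_of_mem (f := mulVecLin (mat Q h)) (hXU ⟨x, hx, rfl⟩)
      have h5 := Submodule.finrank_mono hle
      rw [finrank_gmap, S.hd] at h5
      omega
    refine Submodule.eq_of_le_of_finrank_eq ?_ (by rw [finrank_gmap, hXd, finrank_gmap, S.hd])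
    rintro _ ⟨_, ⟨x, hx, rfl⟩, rfl⟩
    refine ⟨_, hkW x hx, ?_⟩
    rw [mulVecLin_apply, mulVecLin_apply, mulVecLin_apply, mat_mul, mat_mul, ← mulVec_mulVec, ← mulVec_mulVec,
      mulVec_inv_left]
  have hinv : ∀ h ∈ M, (∀ x ∈ W, mat Q h *ᵥ x ∈ W) → ∀ z ∈ X, mat Q h *ᵥ z ∈ X := by
    intro h hh hhW z hz
    have h6 := hhX 1 M.one_mem (fun x hx => by rw [mat_one, one_mulVec]; exact hx)
    rw [gmap_eq_of_le (1 : Isom Q) (fun x hx => by rw [mat_one, one_mulVec]; exact hx)] at h6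
    rw [h6, ← hhX h hh hhW]
    exact Submodule.mem_map_of_mem (f := mulVecLin (mat Q h)) hz
  have hXaniso : ∀ z ∈ X, Q z = 0 → z = 0 := by
    rintro _ ⟨x, hx, rfl⟩ h0
    rw [mulVecLin_apply, quad_mulVec] at h0
    rw [S.aniso x hx h0, map_zero]
  -- the singular points of `U` avoid the image, so lie in the line `K`
  have hsing : ∀ v ∈ U, Q v = 0 → v ∈ K := by
    intro v hv hvq
    rcases eq_or_ne v 0 with rfl | hv0
    · exact K.zero_mem
    obtain ⟨f, hf, u₀, hu₀, hfq, hvf, hvu₀, hfu₀, hcoord⟩ := S.exists_frame hv hv0 hvq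
    have hqu₀ : Q u₀ ≠ 0 := fun h0 => by
      refine hv0 ?_
      have : u₀ = 0 := S.hW.qperp' S.hQ u₀ hu₀ fun y hy => by
        obtain ⟨d, hd⟩ := hcoord y hy
        rw [hd, QuadraticMap.polar_add_left, QuadraticMap.polar_add_left, QuadraticMap.polar_smul_left,
          QuadraticMap.polar_smul_left, QuadraticMap.polar_smul_left, hvu₀, hfu₀, polar_self', h0]
        simp
      refine S.hW.qperp' S.hQ v hv fun y hy => ?_
      exfalso
      have hle : U ≤ Submodule.span F {v} ⊔ Submodule.span F {f} := fun z hz => by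
        obtain ⟨d, hd⟩ := hcoord z hz
        rw [hd, this, smul_zero, add_zero]
        exact Submodule.add_mem_sup (Submodule.smul_mem _ _ (Submodule.mem_span_singleton_self v))
          (Submodule.smul_mem _ _ (Submodule.mem_span_singleton_self f))
      have h7 := Submodule.finrank_mono hle
      have h8 := Submodule.finrank_add_le_finrank_add_finrank (Submodule.span F {v}) (Submodule.span F {f})
      rw [hUdef, S.finU] at h7
      have h9 : finrank F (Submodule.span F {f}) ≤ 1 := (finrank_span_le_card {f}).trans (by simp)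
      rw [finrank_span_singleton hv0] at h8
      omega
    refine ⟨hv, mem_qperp.2 fun z hz => ?_⟩
    by_contra hne
    have hk := (S.rootU hvq hv hu₀ hvu₀).iso hvq hvu₀
    have hkW : ∀ x ∈ W, mat Q (eichIso Q v u₀ hvq hvu₀) *ᵥ x ∈ W := fun x hx => by
      rw [mat_eichIso, eich_mulVec, S.perp' hx hv, S.perp' hx hu₀]
      simpa using hx
    have d1 := X.sub_mem (hinv _ hk hkW z hz) hz
    have d2 := X.sub_mem (hinv _ hk hkW _ d1) d1
    rw [mat_eichIso, show eich Q v u₀ *ᵥ (eich Q v u₀ *ᵥ z - z) - (eich Q v u₀ *ᵥ z - z) =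
        (-2 * Q u₀ * 𝔅 v z) • v by
      simp only [eich_mulVec, QuadraticMap.polar_add_right, QuadraticMap.polar_sub_right,
        QuadraticMap.polar_smul_right, QuadraticMap.polar_self, hvq, hvu₀,
        QuadraticMap.polar_comm (⇑Q) u₀ v, smul_eq_mul]
      module] at d2
    have hvz : 𝔅 v z ≠ 0 := by rwa [QuadraticMap.polar_comm]
    exact hv0 (hXaniso v ((X.smul_mem_iff (mul_ne_zero (mul_ne_zero (neg_ne_zero.2 S.h2) hqu₀) hvz)).1 d2) hvq)
  obtain ⟨v, hv, hv0, hvq⟩ := exists_singular S.hQ U (by rw [hUdef, S.finU])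
  obtain ⟨f, hf, -, -, hfq, hvf, -⟩ := S.exists_frame hv hv0 hvq
  have hline : Submodule.span F {v} = K :=
    Submodule.eq_of_le_of_finrank_le ((Submodule.span_singleton_le_iff_mem _ _).2 (hsing v hv hvq))
      (by rw [finrank_span_singleton hv0]; exact hKd)
  have hfK := hsing f hf hfq
  rw [← hline] at hfK
  obtain ⟨c, rfl⟩ := Submodule.mem_span_singleton.1 hfK
  rw [QuadraticMap.polar_smul_right, polar_self', hvq] at hvf
  simp at hvf

end Setting

/-- The stabiliser of an anisotropic plane is maximal in `Ω_5(q)` for odd `q ≥ 5`. -/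
theorem isMaximalIn_minusPlane (h2 : (2 : F) ≠ 0) (h5 : 5 ≤ Fintype.card F)
    (hQ : (QuadraticMap.polarBilin Q).Nondegenerate) (hn : Fintype.card ι = 5)
    {W : Submodule F (ι → F)} (hW : Nd Q W) (hd : finrank F W = 2)
    (haniso : ∀ x ∈ W, Q x = 0 → x = 0) :
    IsMaximalIn (omegaGL ⇑Q) (subspaceStabilizer W ⊓ omegaGL ⇑Q) := by
  refine isMaximalIn_omega _ ?_ fun M hM g hgM hgΩ hgS => ?_
  · obtain ⟨p, hp, hp0, hpq⟩ := exists_singular hQ (qperp Q W) (by rw [finrank_qperp hQ, hn, hd])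
    obtain ⟨a, ha, ha0⟩ := Submodule.exists_mem_ne_zero_of_ne_bot (p := W) fun e => by
      rw [e, finrank_bot] at hd
      omega
    obtain ⟨x, hx, hax⟩ := hW.exists_polar_one ha ha0
    have hpa : 𝔅 p a = 0 := by rw [QuadraticMap.polar_comm]; exact mem_qperp.1 hp a ha
    refine ⟨eichIso Q p a hpq hpa, eich_mem_omega hQ (by rw [hn]) hpq hpa, fun hs => hp0 ?_⟩
    have h := (MaxSub.mem_subspaceStabilizer_iff.1 hs x).1 hx
    change mat Q (eichIso Q p a hpq hpa) *ᵥ x ∈ W at h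
    rw [mat_eichIso, eich_mulVec, show 𝔅 p x = 0 by rw [QuadraticMap.polar_comm]; exact mem_qperp.1 hp x hx,
      hax] at h
    simp only [zero_smul, one_smul, mul_zero, sub_zero, zero_sub, W.add_mem_iff_right hx, neg_mem_iff] at h
    exact (Submodule.eq_bot_iff _).1 hW.inf_qperp p ⟨h, hp⟩
  have S : Setting Q (M ⊓ Cfsg.Omega F ⇑Q) W :=
    ⟨h2, h5, hQ, hn, hW, hd, haniso, inf_le_right, fun k hk h => ⟨hM k hk (mem_stab_of_le h), hk⟩⟩
  by_contra hΩ
  exact hgS (mem_stab_of_le (S.preserves (fun h => hΩ (h.trans inf_le_left)) ⟨hgM, hgΩ⟩))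

end CfsgLib.SpFourOdd
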