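import Cfsg.Agent.SpFourOdd.Dictionary
import Cfsg.Agent.SpFourOdd.MinusPlane

/-!
# Maximality of the normalisers of quadratic fields in `Sp₄(q)`, `q` odd
-/

set_option autoImplicit false
set_option linter.unusedSectionVars false

namespace CfsgLib.SpFourOdd

open Matrix Module Cfsg.Geo CfsgLib.MaxSub CfsgLib.StdForms

variable {F : Type*} [Field F] [Fintype F]

/-- Normalisers of self-adjoint quadratic fields. -/
theorem isMaximalIn_spFieldSA (h2 : (2 : F) ≠ 0) {K : Subalgebra F (Matrix (Fin 2 ⊕ Fin 2) (Fin 2 ⊕ Fin 2) F)}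
    (hK : IsFieldSubalgebra 2 K) (hsa : IsSelfAdjointFor (Cfsg.sympForm 2 F) K) :
    IsMaximalIn (Cfsg.spGL 2 F) (subalgebraNormalizer K ⊓ Cfsg.spGL 2 F) := by
  classical
  obtain ⟨φ, hφ, hspec⟩ := exists_klein (F := F) h2
  obtain ⟨a, ha, hiff⟩ := exists_line h2 hK hsa hspec
  have hQ := oddQ_nondegenerate (F := F) h2 2
  have ha0 : a ≠ 0 := fun h => ha (by rw [h, QuadraticMap.map_zero]; exact IsSquare.zero)
  have hd1 : finrank F (Submodule.span F {a}) = 1 := finrank_span_singleton ha0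
  have hW : OrthMax.Nd (oddQ 2 F) (Submodule.span F {a}) := by
    intro z hz h
    obtain ⟨c, rfl⟩ := Submodule.mem_span_singleton.1 hz
    have h' := h a (Submodule.mem_span_singleton_self a)
    rw [QuadraticMap.polar_smul_right, QuadraticMap.polar_self, smul_eq_mul, nsmul_eq_mul, Nat.cast_ofNat] at h'
    rcases mul_eq_zero.1 h' with rfl | h'
    · exact zero_smul F a
    · exact absurd ((mul_eq_zero.1 h').resolve_left h2) fun h0 => ha (by rw [h0]; exact IsSquare.zero)
  have hperp : finrank F (OrthMax.qperp (oddQ 2 F) (Submodule.span F {a})) = 4 := by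
    rw [OrthMax.finrank_qperp hQ, hd1]; rfl
  have hmax := OrthMax.isMaximalIn_nd_small h2 hQ (by simp) hW (fun h => ha0 (Submodule.span_singleton_eq_bot.1 h))
    (by omega) (by omega) (fun g _ h => by
      have e := Submodule.finrank_map_le (Matrix.mulVecLin (CfsgLib.Spinor.mat (oddQ 2 F) g))
        (OrthMax.qperp (oddQ 2 F) (Submodule.span F {a}))
      have e' := congrArg (fun U : Submodule F (Unit ⊕ (Fin 2 ⊕ Fin 2) → F) => finrank F U) h
      change finrank F (Submodule.map _ _) = _ at e'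
      rw [LinearEquiv.finrank_eq (Submodule.equivMapOfInjective _ (CfsgLib.OmegaOrbits.mulVec_injective g) _).symm] at e'
      omega)
    (fun h => by omega)
  rw [coe_oddQ] at hmax
  exact isMaximalIn_of_omega hφ hiff hmax

/-- Normalisers of adjoint-closed quadratic fields that are not self-adjoint. -/
theorem isMaximalIn_spFieldU (h2 : (2 : F) ≠ 0) (h5 : 5 ≤ Fintype.card F)
    {K : Subalgebra F (Matrix (Fin 2 ⊕ Fin 2) (Fin 2 ⊕ Fin 2) F)}
    (hK : IsFieldSubalgebra 2 K) (hadj : IsAdjointClosedFor (Cfsg.sympForm 2 F) K)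
    (hns : ¬ IsSelfAdjointFor (Cfsg.sympForm 2 F) K) :
    IsMaximalIn (Cfsg.spGL 2 F) (subalgebraNormalizer K ⊓ Cfsg.spGL 2 F) := by
  classical
  obtain ⟨φ, hφ, hspec⟩ := exists_klein (F := F) h2
  obtain ⟨W, hW, hd, haniso, hiff⟩ := exists_plane h2 hK hadj hns hspec
  have hmax := isMaximalIn_minusPlane h2 h5 (oddQ_nondegenerate h2 2) (by simp) hW hd haniso
  rw [coe_oddQ] at hmax
  exact isMaximalIn_of_omega hφ hiff hmax

end CfsgLib.SpFourOdd
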