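import Cfsg.Agent.SpSix.Pair

/-!
# Pairs of complementary Lagrangian planes in four-dimensional symplectic spaces

The argument of `SpSix.Pair`, with a torus of the Levi subgroup in place of the spare dimensions.
-/

set_option autoImplicit false
set_option linter.unusedSectionVars false

namespace CfsgLib.SpFourOdd

open Matrix Cfsg.Geo CfsgLib.MaxSub CfsgLib.MaxSub.LPair CfsgLib.AschbacherForms CfsgLib.SpSix
open scoped MatrixGroups

variable {F : Type*} [Field F] [Fintype F]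

local notation "ι" => (Fin 2 ⊕ Fin 2)
local notation "V" => (Fin 2 ⊕ Fin 2 → F)
local notation "ω" => Cfsg.sympForm 2 F
local notation "Mat" => Matrix (Fin 2 ⊕ Fin 2) (Fin 2 ⊕ Fin 2) F
local notation "G" => GL (Fin 2 ⊕ Fin 2) F

/-- A scalar other than `0` and the two signs. -/
theorem exists_scalar (h5 : 5 ≤ Fintype.card F) : ∃ r : F, r ≠ 0 ∧ r * r ≠ 1 := by
  classical
  by_contra h
  push Not at h
  have hsub : (Finset.univ : Finset F) ⊆ {0, 1, -1} := fun r _ => by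
    rcases eq_or_ne r 0 with rfl | hr
    · simp
    · rcases mul_self_eq_one_iff.1 (h r hr) with e | e <;> simp [e]
  have := (Finset.card_le_card hsub).trans Finset.card_le_three
  rw [Finset.card_univ] at this
  omega

/-- Dual bases of two complementary Lagrangian planes. -/
structure PB (X Y : Submodule F (Fin 2 ⊕ Fin 2 → F)) where
  x₁ : Fin 2 ⊕ Fin 2 → F
  x₂ : Fin 2 ⊕ Fin 2 → F
  y₁ : Fin 2 ⊕ Fin 2 → F
  y₂ : Fin 2 ⊕ Fin 2 → F
  mx₁ : x₁ ∈ X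
  mx₂ : x₂ ∈ X
  my₁ : y₁ ∈ Y
  my₂ : y₂ ∈ Y
  e11 : Cfsg.sympForm 2 F x₁ y₁ = 1
  e12 : Cfsg.sympForm 2 F x₁ y₂ = 0
  e21 : Cfsg.sympForm 2 F x₂ y₁ = 0
  e22 : Cfsg.sympForm 2 F x₂ y₂ = 1
  sX : ∀ v ∈ X, v = Cfsg.sympForm 2 F v y₁ • x₁ + Cfsg.sympForm 2 F v y₂ • x₂
  sY : ∀ v ∈ Y, v = Cfsg.sympForm 2 F x₁ v • y₁ + Cfsg.sympForm 2 F x₂ v • y₂

variable {X Y : Submodule F (Fin 2 ⊕ Fin 2 → F)}

theorem eq_of_lin (hp : IsPair ω X Y) {x₁ x₂ y₁ y₂ : V} (mx₁ : x₁ ∈ X) (mx₂ : x₂ ∈ X) (e11 : ω x₁ y₁ = 1)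
    (e12 : ω x₁ y₂ = 0) (e21 : ω x₂ y₁ = 0) (e22 : ω x₂ y₂ = 1) (hdim : Module.finrank F X = 2) {v : V}
    (hv : v ∈ X) : v = ω v y₁ • x₁ + ω v y₂ • x₂ := by
  have hli : LinearIndependent F ![x₁, x₂] := LinearIndependent.pair_iff.2 fun a b h => by
    have h1 := congrArg (fun w => ω w y₁) h
    have h2 := congrArg (fun w => ω w y₂) h
    simp only [w_add_left, w_smul_left, e11, e12, e21, e22, mul_one, mul_zero, add_zero, zero_add,
      sesq_sympForm.zero_left] at h1 h2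
    exact ⟨h1, h2⟩
  have hspan : Submodule.span F (Set.range ![x₁, x₂]) = X := by
    refine Submodule.eq_of_le_of_finrank_eq (Submodule.span_le.2 ?_) ?_
    · rintro _ ⟨i, rfl⟩; fin_cases i <;> assumption
    · rw [finrank_span_eq_card hli, Fintype.card_fin, hdim]
  rw [← hspan, Matrix.range_cons, Matrix.range_cons, Matrix.range_empty, Set.union_empty,
    Set.singleton_union, Submodule.mem_span_pair] at hv
  obtain ⟨a, b, rfl⟩ := hv
  simp only [w_add_left, w_smul_left, e11, e12, e21, e22, mul_one, mul_zero, add_zero, zero_add]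

theorem exists_pb (hp : IsPair ω X Y) (hdim : Module.finrank F X = 2) {x : V} (hx : x ∈ X) (hx0 : x ≠ 0) :
    ∃ b : PB X Y, b.x₁ = x := by
  obtain ⟨x₂, hx₂, hx₂x⟩ := exists_notMem_line (A := X) hdim.ge x
  obtain ⟨y₁, hy₁, e11, h1⟩ := exists_sep reflexive hp
    ((Submodule.span_singleton_le_iff_mem _ _).2 hx₂) hx (notMem_line_symm hx₂x hx0)
  obtain ⟨y₂, hy₂, e22, h2⟩ := exists_sep reflexive hp
    ((Submodule.span_singleton_le_iff_mem _ _).2 hx) hx₂ hx₂x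
  have e21 := h1 x₂ (Submodule.mem_span_singleton_self _)
  have e12 := h2 x (Submodule.mem_span_singleton_self _)
  refine ⟨⟨x, x₂, y₁, y₂, hx, hx₂, hy₁, hy₂, e11, e12, e21, e22,
    fun v hv => eq_of_lin hp hx hx₂ e11 e12 e21 e22 hdim hv, fun v hv => ?_⟩, rfl⟩
  have hdY : Module.finrank F Y = 2 := by rw [← finrank_right reflexive hp, hdim]
  have hneg : ∀ {a b : V} {c : F}, ω a b = c → ω (-b) a = c := fun {a b c} h => by
    rw [sesq_sympForm.neg_left, Forms.sympForm_swap a b, neg_neg, h]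
  have key := eq_of_lin hp.symm (x₁ := -y₁) (x₂ := -y₂) (y₁ := x) (y₂ := x₂) (Y.neg_mem hy₁) (Y.neg_mem hy₂)
    (hneg e11) (hneg e21) (hneg e12) (hneg e22) hdY hv
  conv_lhs => rw [key]
  rw [Forms.sympForm_swap x v, Forms.sympForm_swap x₂ v]
  module

theorem PB.decomp (hp : IsPair ω X Y) (b : PB X Y) (v : V) :
    v = ω v b.y₁ • b.x₁ + ω v b.y₂ • b.x₂ + (ω b.x₁ v • b.y₁ + ω b.x₂ v • b.y₂) := by
  obtain ⟨p, hp1, q, hq, rfl⟩ := hp.decomp v
  conv_lhs => rw [b.sX p hp1, b.sY q hq]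
  simp only [w_add_left, w_add_right, hp.right q hq _ b.my₁, hp.right q hq _ b.my₂,
    hp.left _ b.mx₁ p hp1, hp.left _ b.mx₂ p hp1, zero_add, add_zero]

/-- Scaling the basis vectors of the two lines. -/
def PB.scale (b : PB X Y) {r s : F} (hr : r ≠ 0) (hs : s ≠ 0) : PB X Y where
  x₁ := r • b.x₁
  x₂ := s • b.x₂
  y₁ := r⁻¹ • b.y₁
  y₂ := s⁻¹ • b.y₂
  mx₁ := X.smul_mem _ b.mx₁
  mx₂ := X.smul_mem _ b.mx₂
  my₁ := Y.smul_mem _ b.my₁
  my₂ := Y.smul_mem _ b.my₂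
  e11 := by rw [w_smul_left, w_smul_right, b.e11, mul_one, mul_inv_cancel₀ hr]
  e12 := by rw [w_smul_left, w_smul_right, b.e12, mul_zero, mul_zero]
  e21 := by rw [w_smul_left, w_smul_right, b.e21, mul_zero, mul_zero]
  e22 := by rw [w_smul_left, w_smul_right, b.e22, mul_one, mul_inv_cancel₀ hs]
  sX v hv := by
    conv_lhs => rw [b.sX v hv]
    simp only [w_smul_right]
    match_scalars <;> field_simp
  sY v hv := by
    conv_lhs => rw [b.sY v hv]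
    simp only [w_smul_left]
    match_scalars <;> field_simp

/-- The element of the Levi subgroup taking one basis to another. -/
theorem exists_levi (hp : IsPair ω X Y) (b b' : PB X Y) :
    ∃ h ∈ Cfsg.spGL 2 F, (∀ v ∈ X, (h : Mat) *ᵥ v ∈ X) ∧ (∀ v ∈ Y, (h : Mat) *ᵥ v ∈ Y) ∧
      (h : Mat) *ᵥ b.x₁ = b'.x₁ ∧ (h : Mat) *ᵥ b.x₂ = b'.x₂ ∧ (h : Mat) *ᵥ b.y₁ = b'.y₁ ∧
      (h : Mat) *ᵥ b.y₂ = b'.y₂ := by
  let L : V →ₗ[F] V :=
    { toFun := fun v => ω v b.y₁ • b'.x₁ + ω v b.y₂ • b'.x₂ + (ω b.x₁ v • b'.y₁ + ω b.x₂ v • b'.y₂)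
      map_add' := fun u v => by simp only [w_add_left, w_add_right]; module
      map_smul' := fun c u => by simp only [w_smul_left, w_smul_right, RingHom.id_apply]; module }
  have hiso : MaxSub.LPair.Iso ω (LinearMap.toMatrix' L) := fun u v => by
    rw [LinearMap.toMatrix'_mulVec, LinearMap.toMatrix'_mulVec]
    conv_rhs => rw [b.decomp hp u, b.decomp hp v]
    simp only [L, LinearMap.coe_mk, AddHom.coe_mk, w_add_left, w_add_right, w_smul_left, w_smul_right]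
    rw [hp.left _ b'.mx₁ _ b'.mx₁, hp.left _ b'.mx₁ _ b'.mx₂, hp.left _ b'.mx₂ _ b'.mx₁,
      hp.left _ b'.mx₂ _ b'.mx₂, hp.right _ b'.my₁ _ b'.my₁, hp.right _ b'.my₁ _ b'.my₂,
      hp.right _ b'.my₂ _ b'.my₁, hp.right _ b'.my₂ _ b'.my₂,
      hp.left _ b.mx₁ _ b.mx₁, hp.left _ b.mx₁ _ b.mx₂, hp.left _ b.mx₂ _ b.mx₁,
      hp.left _ b.mx₂ _ b.mx₂, hp.right _ b.my₁ _ b.my₁, hp.right _ b.my₁ _ b.my₂,
      hp.right _ b.my₂ _ b.my₁, hp.right _ b.my₂ _ b.my₂,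
      Forms.sympForm_swap b'.x₁ b'.y₁, Forms.sympForm_swap b'.x₁ b'.y₂, Forms.sympForm_swap b'.x₂ b'.y₁,
      Forms.sympForm_swap b'.x₂ b'.y₂, b'.e11, b'.e12, b'.e21, b'.e22,
      Forms.sympForm_swap b.x₁ b.y₁, Forms.sympForm_swap b.x₁ b.y₂, Forms.sympForm_swap b.x₂ b.y₁,
      Forms.sympForm_swap b.x₂ b.y₂, b.e11, b.e12, b.e21, b.e22]
  obtain ⟨h, hh⟩ := exists_gl_of_iso reflexive hiso
  have e : ∀ v, (h : Mat) *ᵥ v = L v := fun v => by rw [hh, LinearMap.toMatrix'_mulVec]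
  refine ⟨h, mem_spGL_iff.2 fun u v => by rw [hh]; exact hiso u v, fun v hv => ?_, fun v hv => ?_,
    ?_, ?_, ?_, ?_⟩ <;> rw [e] <;> simp only [L, LinearMap.coe_mk, AddHom.coe_mk]
  · rw [hp.left _ b.mx₁ v hv, hp.left _ b.mx₂ v hv, zero_smul, zero_smul, add_zero, add_zero]
    exact X.add_mem (X.smul_mem _ b'.mx₁) (X.smul_mem _ b'.mx₂)
  · rw [hp.right v hv _ b.my₁, hp.right v hv _ b.my₂, zero_smul, zero_smul, add_zero, zero_add]
    exact Y.add_mem (Y.smul_mem _ b'.my₁) (Y.smul_mem _ b'.my₂)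
  · simp [b.e11, b.e12, hp.left _ b.mx₁ _ b.mx₁, hp.left _ b.mx₂ _ b.mx₁]
  · simp [b.e21, b.e22, hp.left _ b.mx₂ _ b.mx₂, hp.left _ b.mx₁ _ b.mx₂]
  · simp [b.e11, b.e21, hp.right _ b.my₁ _ b.my₁, hp.right _ b.my₁ _ b.my₂]
  · simp [b.e12, b.e22, hp.right _ b.my₂ _ b.my₂, hp.right _ b.my₂ _ b.my₁]

variable {M : Subgroup (GL (Fin 2 ⊕ Fin 2) F)}

/-- The members of `Y` orthogonal to the first vector lie on the second line. -/
theorem PB.eq_y₂ (b : PB X Y) {y : V} (hy : y ∈ Y) (h : ω b.x₁ y = 0) : y = ω b.x₂ y • b.y₂ := by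
  conv_lhs => rw [b.sY y hy, h, zero_smul, zero_add]

theorem small_of_two (h5 : 5 ≤ Fintype.card F) (hp : IsPair ω X Y) (hdim : Module.finrank F X = 2)
    (hfix : FixIn (Cfsg.spGL 2 F) M X Y) {x y : V} (hx : x ∈ X) (hy : y ∈ Y) (hx0 : x ≠ 0)
    (hxy : ω x y = 0) {a c : F} (ha : a ≠ 0) (hM : spTv x a * spTv y c ∈ M) : Small M X Y := by
  obtain ⟨r, hr0, hr1⟩ := exists_scalar h5
  obtain ⟨b, rfl⟩ := exists_pb hp hdim hx hx0
  obtain ⟨h, hhK, hX, hY, e1, -, -, e4⟩ := exists_levi hp b (b.scale hr0 one_ne_zero)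
  have hey : (h : Mat) *ᵥ y = y := by
    rw [b.eq_y₂ hy hxy, mulVec_smul, e4]; simp [PB.scale]
  have hh := hfix h hhK hX hY
  have hE : h * (spTv b.x₁ a * spTv y c) * h⁻¹ = spTv b.x₁ (a * (r * r)) * spTv y c := by
    rw [show h * (spTv b.x₁ a * spTv y c) * h⁻¹ = h * spTv b.x₁ a * h⁻¹ * (h * spTv y c * h⁻¹) by group,
      conj_spTv hhK, conj_spTv hhK, hey, e1, ← spTv_smul]
    rfl
  have key : spTv b.x₁ (a * (r * r - 1)) * (spTv b.x₁ a * spTv y c) = spTv b.x₁ (a * (r * r)) * spTv y c :=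
    SpSix.gl_ext fun z => by
      simp only [Units.val_mul, ← mulVec_mulVec, spTv_mulVec]
      simp only [w_add_left, w_smul_left, w_self, hxy, w_orth hxy, mul_zero, add_zero]
      match_scalars <;> ring
  refine ⟨b.x₁, Or.inl hx, hx0, a * (r * r - 1), mul_ne_zero ha (sub_ne_zero.2 hr1), ?_⟩
  rw [eq_mul_inv_of_mul_eq key, ← hE]
  exact M.mul_mem (M.mul_mem (M.mul_mem hh hM) (M.inv_mem hh)) (M.inv_mem hM)

theorem small_of_pair (h5 : 5 ≤ Fintype.card F) (hp : IsPair ω X Y) (hdim : Module.finrank F X = 2)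
    (hfix : FixIn (Cfsg.spGL 2 F) M X Y) {x y : V} (hx : x ∈ X) (hy : y ∈ Y) (hx0 : x ≠ 0) (hy0 : y ≠ 0)
    (hxy : ω x y = 0) {a c : F} (hac : a ≠ 0 ∨ c ≠ 0) (hM : spTv x a * spTv y c ∈ M) : Small M X Y := by
  rcases eq_or_ne a 0 with rfl | ha
  · refine ⟨y, Or.inr hy, hy0, c, hac.resolve_left fun h => h rfl, ?_⟩
    rwa [show spTv x (0 : F) = 1 by rw [spTv, zero_smul, tv_zero_left], one_mul] at hM
  · exact small_of_two h5 hp hdim hfix hx hy hx0 hxy ha hM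

/-- A member vector moved to a singular vector with two components gives a transvection. -/
theorem small_of_mixed (h2 : (2 : F) ≠ 0) (h5 : 5 ≤ Fintype.card F) (hp : IsPair ω X Y)
    (hdim : Module.finrank F X = 2) (hfix : FixIn (Cfsg.spGL 2 F) M X Y) (hMK : M ≤ Cfsg.spGL 2 F)
    {g : G} (hg : g ∈ M) {v x y : V} (hv : v ∈ X) (hv0 : v ≠ 0) (hx : x ∈ X) (hx0 : x ≠ 0)
    (hy : y ∈ Y) (hy0 : y ≠ 0) (hxy : ω x y = 0) (hgv : (g : Mat) *ᵥ v = x + y) : Small M X Y := by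
  obtain ⟨bv, rfl⟩ := exists_pb hp hdim hv hv0
  obtain ⟨H, hH, -, hHS⟩ := exists_S hp hfix hv bv.my₂ bv.e12
  have hAS := hHS.conj (hMK hg)
  rw [hgv] at hAS
  have hA : g * H * g⁻¹ ∈ M := M.mul_mem (M.mul_mem hg hH) (M.inv_mem hg)
  set e := (g : Mat) *ᵥ bv.y₂ with he
  have hgi := mem_spGL_iff.mp (hMK hg)
  have heu : ω e (x + y) = 0 := by rw [← hgv, he, hgi, w_orth bv.e12]
  obtain ⟨t, ht⟩ : ∃ t, t = ω e x := ⟨_, rfl⟩
  have hey : ω e y = -t := by rw [w_add_right] at heu; linear_combination heu + ht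
  have hyx := w_orth hxy
  rcases eq_or_ne t 0 with t0 | t0
  swap
  · obtain ⟨B, hB, hBK, hBS⟩ := exists_S hp hfix hx hy hxy
    obtain ⟨C, hC, -, hCS⟩ := exists_S hp hfix (X.smul_mem (2 * t ^ 2) hx) hy
      (by rw [w_smul_left, hxy, mul_zero])
    have hBu : (B : Mat) *ᵥ (x + y) = x + y := by
      rw [hBS]; simp [w_add_left, w_self, hyx, hxy]
    have hBe : (B : Mat) *ᵥ e = e + (t • y + (-t) • x) := by
      rw [hBS, hey, ← ht, add_assoc]
    have hK := hAS.conj hBK (g := B)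
    rw [hBu, hBe] at hK
    have key : B * (g * H * g⁻¹) * B⁻¹ =
        spTv x (2 * t ^ 2 - 2 * t) * spTv y (2 * t ^ 2 + 2 * t) * C * (g * H * g⁻¹) := SpSix.gl_ext fun z => by
      rw [hK]
      simp only [Units.val_mul, ← mulVec_mulVec]
      rw [show (g : Mat) *ᵥ ((H : Mat) *ᵥ (((g⁻¹ : G) : Mat) *ᵥ z)) =
        ((g * H * g⁻¹ : G) : Mat) *ᵥ z by simp only [Units.val_mul, ← mulVec_mulVec], hAS, hCS, spTv_mulVec,
        spTv_mulVec]
      simp only [w_add_left, w_add_right, w_smul_left, w_smul_right, w_self, hxy, hyx, hey, ← ht,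
        mul_zero, add_zero]
      match_scalars <;> ring
    refine small_of_pair h5 hp hdim hfix hx hy hx0 hy0 hxy (a := 2 * t ^ 2 - 2 * t) (c := 2 * t ^ 2 + 2 * t) ?_ ?_
    · by_contra h
      push Not at h
      have h4 : 2 * 2 * (t * t) = 0 := by linear_combination h.1 + h.2
      simp [h2, t0] at h4
    · rw [eq_mul_inv_of_mul_eq (eq_mul_inv_of_mul_eq key.symm)]
      exact M.mul_mem (M.mul_mem (M.mul_mem (M.mul_mem hB hA) (M.inv_mem hB)) (M.inv_mem hA)) (M.inv_mem hC)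
  obtain ⟨eX, heX, eY, heY, hsum⟩ := hp.decomp e
  obtain ⟨b, rfl⟩ := exists_pb hp hdim hx hx0
  have hc : ω b.x₂ y ≠ 0 := fun h => hy0 (by rw [b.eq_y₂ hy hxy, h, zero_smul])
  have hX0 : eX = ω eX b.y₁ • b.x₁ := by
    have h1 : ω eX y = 0 := by
      have h := hey
      rwa [t0, neg_zero, ← hsum, w_add_left, hp.right eY heY y hy, add_zero] at h
    rw [b.eq_y₂ hy hxy, w_smul_right] at h1
    conv_lhs => rw [b.sX eX heX, (mul_eq_zero.1 h1).resolve_left hc, zero_smul, add_zero]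
  have hY0 : eY = (ω b.x₂ eY / ω b.x₂ y) • y := by
    have h1 : ω b.x₁ eY = 0 := by
      have h := ht
      rw [t0, ← hsum, w_add_left, hp.left eX heX _ hx, zero_add] at h
      exact w_orth h.symm
    conv_lhs => rw [b.eq_y₂ heY h1]
    conv_rhs => rw [b.eq_y₂ hy hxy]
    simp only [w_smul_right, b.e22, mul_one, smul_smul, div_mul_cancel₀ _ hc]
  obtain ⟨α, hα⟩ : ∃ α, eX = α • b.x₁ := ⟨_, hX0⟩
  obtain ⟨β, hβ⟩ : ∃ β, eY = β • y := ⟨_, hY0⟩
  subst hα hβ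
  obtain ⟨C, hC, -, hCS⟩ := exists_S hp hfix (X.smul_mem (α + β) hx) hy
    (by rw [w_smul_left, hxy, mul_zero])
  have key : g * H * g⁻¹ = C * (spTv b.x₁ (2 * α) * spTv y (2 * β)) := SpSix.gl_ext fun z => by
    rw [hAS, Units.val_mul, Units.val_mul, ← mulVec_mulVec, ← mulVec_mulVec, hCS, spTv_mulVec,
      spTv_mulVec, ← hsum]
    simp only [w_add_left, w_add_right, w_smul_left, w_smul_right, w_self, hxy, hyx, mul_zero, add_zero]
    match_scalars <;> ring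
  refine small_of_pair h5 hp hdim hfix hx hy hx0 hy0 hxy (a := 2 * α) (c := 2 * β) ?_ ?_
  · by_contra h
    push Not at h
    have he0 : e = 0 := by
      rw [← hsum, (mul_eq_zero.1 h.1).resolve_left h2, (mul_eq_zero.1 h.2).resolve_left h2]; simp
    have h0 : bv.y₂ = 0 := mulVec_injective_iff_isUnit.mpr g.isUnit (by
      show (g : Mat) *ᵥ bv.y₂ = (g : Mat) *ᵥ 0
      rw [mulVec_zero, ← he, he0])
    have := bv.e22
    rw [h0, sesq_sympForm.zero_right] at this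
    exact zero_ne_one this
  · rw [show spTv b.x₁ (2 * α) * spTv y (2 * β) = C⁻¹ * (g * H * g⁻¹) by rw [key]; group]
    exact M.mul_mem (M.inv_mem hC) hA

/-- If a member vector stays in its member then so does the opposite orthogonal part. -/
theorem mapsTo_opposite (h2 : (2 : F) ≠ 0) (h5 : 5 ≤ Fintype.card F) (hp : IsPair ω X Y)
    (hdim : Module.finrank F X = 2) (hfix : FixIn (Cfsg.spGL 2 F) M X Y) (hMK : M ≤ Cfsg.spGL 2 F)
    (hS : ¬ Small M X Y) {g : G} (hg : g ∈ M) {v η : V} (hv : v ∈ X) (hv0 : v ≠ 0)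
    (hgv : (g : Mat) *ᵥ v ∈ X) (hη : η ∈ Y) (hη0 : η ≠ 0) (hvη : ω v η = 0) : (g : Mat) *ᵥ η ∈ Y := by
  set u := (g : Mat) *ᵥ v with hu
  set e := (g : Mat) *ᵥ η with he
  have hgi := mem_spGL_iff.mp (hMK hg)
  have heu := w_orth (show ω u e = 0 by rw [hu, he, hgi, hvη])
  have hu0 : u ≠ 0 := fun h => hv0 (mulVec_injective_iff_isUnit.mpr g.isUnit (by
    show (g : Mat) *ᵥ v = (g : Mat) *ᵥ 0
    rw [mulVec_zero, ← hu, h]))
  obtain ⟨H, hH, -, hHS⟩ := exists_S hp hfix hv hη hvη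
  have hAS := hHS.conj (hMK hg)
  rw [← hu, ← he] at hAS
  have hA : g * H * g⁻¹ ∈ M := M.mul_mem (M.mul_mem hg hH) (M.inv_mem hg)
  have horth : ∀ η' ∈ Y, ω u η' = 0 → ω e η' = 0 := by
    intro η' hη' huη'
    by_contra ht
    obtain ⟨B, hB, hBK, hBS⟩ := exists_S hp hfix hgv hη' huη'
    have hBu : (B : Mat) *ᵥ u = u := by rw [hBS]; simp [w_self, huη']
    have hBe : (B : Mat) *ᵥ e = e + ω e η' • u := by rw [hBS]; simp [heu]
    have hK := hAS.conj hBK (g := B)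
    rw [hBu, hBe] at hK
    have key : B * (g * H * g⁻¹) * B⁻¹ = spTv u (2 * ω e η') * (g * H * g⁻¹) := SpSix.gl_ext fun z => by
      rw [hK, Units.val_mul, ← mulVec_mulVec, hAS, spTv_mulVec]
      simp only [w_add_left, w_add_right, w_smul_left, w_smul_right, w_self, heu, mul_zero, add_zero]
      match_scalars <;> ring
    refine hS ⟨u, Or.inl hgv, hu0, 2 * ω e η', mul_ne_zero h2 ht, ?_⟩
    rw [eq_mul_inv_of_mul_eq key.symm]
    exact M.mul_mem (M.mul_mem (M.mul_mem hB hA) (M.inv_mem hB)) (M.inv_mem hA)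
  obtain ⟨eX, heX, eY, heY, hsum⟩ := hp.decomp e
  obtain ⟨α, rfl⟩ := Submodule.mem_span_singleton.mp
    (mem_line hp hgv heX heY fun η' hη' h => by rw [hsum]; exact horth η' hη' h)
  rcases eq_or_ne α 0 with rfl | hα
  · rw [← hsum, zero_smul, zero_add]; exact heY
  by_cases hY0 : eY = 0
  · have h1 : η = α • v := mulVec_injective_iff_isUnit.mpr g.isUnit (by
      show (g : Mat) *ᵥ η = (g : Mat) *ᵥ (α • v)
      rw [mulVec_smul, ← hu, ← he, ← hsum, hY0, add_zero])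
    exact absurd (hp.disjoint (h1 ▸ X.smul_mem α hv) hη) hη0
  exfalso
  have hdY : Module.finrank F Y = 2 := by rw [← finrank_right reflexive hp, hdim]
  have hYu : ω eY u = 0 := by
    have h := heu
    rwa [← hsum, w_add_left, w_smul_left, w_self, mul_zero, zero_add] at h
  refine hS (small_of_mixed h2 h5 hp.symm hdY hfix.symm hMK hg hη hη0 heY hY0 (X.smul_mem α hgv)
    (smul_ne_zero hα hu0) (by rw [w_smul_right, hYu, mul_zero]) ?_).symm
  rw [← he, ← hsum, add_comm]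

theorem mapsTo_both (h2 : (2 : F) ≠ 0) (h5 : 5 ≤ Fintype.card F) (hp : IsPair ω X Y)
    (hdim : Module.finrank F X = 2) (hfix : FixIn (Cfsg.spGL 2 F) M X Y) (hMK : M ≤ Cfsg.spGL 2 F)
    (hS : ¬ Small M X Y) {g : G} (hg : g ∈ M) {v : V} (hv : v ∈ X) (hv0 : v ≠ 0)
    (hgv : (g : Mat) *ᵥ v ∈ X) :
    (∀ x ∈ X, (g : Mat) *ᵥ x ∈ X) ∧ ∀ y ∈ Y, (g : Mat) *ᵥ y ∈ Y := by
  have hinj : ∀ {w : V}, w ≠ 0 → (g : Mat) *ᵥ w ≠ 0 := fun {w} hw h => hw (mulVec_injective_iff_isUnit.mpr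
    g.isUnit (show (g : Mat) *ᵥ w = (g : Mat) *ᵥ 0 by rw [mulVec_zero, h]))
  obtain ⟨b, rfl⟩ := exists_pb hp hdim hv hv0
  have hy₂0 : b.y₂ ≠ 0 := fun h => by
    have := b.e22; rw [h, sesq_sympForm.zero_right] at this; exact zero_ne_one this
  have hη := mapsTo_opposite h2 h5 hp hdim hfix hMK hS hg hv hv0 hgv b.my₂ hy₂0 b.e12
  obtain ⟨b', hb'⟩ := exists_pb hp hdim hgv (hinj hv0)
  have hgi := mem_spGL_iff.mp (hMK hg)
  have horth : ω b'.x₁ ((g : Mat) *ᵥ b.y₂) = 0 := by rw [hb', hgi, b.e12]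
  have hgy := b'.eq_y₂ hη horth
  obtain ⟨s, hs⟩ : ∃ s, s = ω b'.x₂ ((g : Mat) *ᵥ b.y₂) := ⟨_, rfl⟩
  rw [← hs] at hgy
  have hs0 : s ≠ 0 := fun h => hinj hy₂0 (by rw [hgy, h, zero_smul])
  obtain ⟨h, hhK, hX, hY, e1, -, -, e4⟩ := exists_levi hp b (b'.scale one_ne_zero (inv_ne_zero hs0))
  simp only [PB.scale, one_smul, inv_inv, hb', ← hgy] at e1 e4
  have hh := hfix h hhK hX hY
  have hk : h⁻¹ * g ∈ M := M.mul_mem (M.inv_mem hh) hg
  have hgk : h * (h⁻¹ * g) = g := mul_inv_cancel_left h g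
  obtain ⟨k, rfl⟩ : ∃ k, h⁻¹ * g = k := ⟨_, rfl⟩
  set k := h⁻¹ * g with hkdef
  have hk1 : (k : Mat) *ᵥ b.x₁ = b.x₁ := by
    rw [hkdef, Units.val_mul, ← mulVec_mulVec, ← e1, inv_mulVec_mulVec']
    exact reflexive
  have hk4 : (k : Mat) *ᵥ b.y₂ = b.y₂ := by
    rw [hkdef, Units.val_mul, ← mulVec_mulVec, ← e4, inv_mulVec_mulVec']
    exact reflexive
  have hki := mem_spGL_iff.mp (hMK hk)
  have q1 : ∀ z, ω b.x₁ ((k : Mat) *ᵥ z) = ω b.x₁ z := fun z => by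
    conv_lhs => rw [← hk1]
    exact hki _ _
  have q4 : ∀ z, ω ((k : Mat) *ᵥ z) b.y₂ = ω z b.y₂ := fun z => by
    conv_lhs => rw [← hk4]
    exact hki _ _
  have kx : (k : Mat) *ᵥ b.x₂ = ω ((k : Mat) *ᵥ b.x₂) b.y₁ • b.x₁ + b.x₂ +
      ω b.x₂ ((k : Mat) *ᵥ b.x₂) • b.y₂ := by
    conv_lhs => rw [b.decomp hp ((k : Mat) *ᵥ b.x₂), q4, b.e22, one_smul, q1,
      hp.left _ b.mx₁ _ b.mx₂, zero_smul, zero_add]
  have ky : (k : Mat) *ᵥ b.y₁ = ω ((k : Mat) *ᵥ b.y₁) b.y₁ • b.x₁ + b.y₁ +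
      ω b.x₂ ((k : Mat) *ᵥ b.y₁) • b.y₂ := by
    conv_lhs => rw [b.decomp hp ((k : Mat) *ᵥ b.y₁), q4, hp.right _ b.my₁ _ b.my₂, zero_smul, add_zero, q1,
      b.e11, one_smul, ← add_assoc]
  obtain ⟨a, ha⟩ : ∃ a, a = ω ((k : Mat) *ᵥ b.x₂) b.y₁ := ⟨_, rfl⟩
  obtain ⟨p, hp'⟩ : ∃ p, p = ω b.x₂ ((k : Mat) *ᵥ b.x₂) := ⟨_, rfl⟩
  obtain ⟨c, hc⟩ : ∃ c, c = ω ((k : Mat) *ᵥ b.y₁) b.y₁ := ⟨_, rfl⟩
  obtain ⟨d, hd⟩ : ∃ d, d = ω b.x₂ ((k : Mat) *ᵥ b.y₁) := ⟨_, rfl⟩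
  rw [← ha, ← hp'] at kx
  rw [← hc, ← hd] at ky
  have hd' : d = -a := by
    have h1 := hki b.x₂ b.y₁
    rw [kx, ky, b.e21] at h1
    simp only [w_add_left, w_add_right, w_smul_left, w_smul_right, w_self, hp.left _ b.mx₁ _ b.mx₁,
      hp.left _ b.mx₂ _ b.mx₁, b.e11, b.e12, b.e21, b.e22, Forms.sympForm_swap b.x₁ b.y₂,
      hp.right _ b.my₂ _ b.my₁, hp.right _ b.my₂ _ b.my₂, mul_zero, add_zero, zero_add, mul_one,
      neg_zero] at h1
    linear_combination h1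
  obtain ⟨C, hC, -, hCS⟩ := exists_S hp hfix (X.smul_mem a b.mx₁) b.my₂
    (by rw [w_smul_left, b.e12, mul_zero])
  have key : k = C * (spTv b.x₁ (-c) * spTv b.y₂ p) := SpSix.gl_ext fun z => by
    conv_lhs => rw [b.decomp hp z]
    rw [mulVec_add, mulVec_add, mulVec_add, mulVec_smul, mulVec_smul, mulVec_smul, mulVec_smul, hk1, hk4, kx,
      ky, hd', Units.val_mul, Units.val_mul, ← mulVec_mulVec, ← mulVec_mulVec, hCS, spTv_mulVec, spTv_mulVec]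
    conv_rhs => arg 1; arg 1; rw [b.decomp hp z]
    simp only [w_add_left, w_smul_left, w_smul_right, w_self, b.e12, w_orth b.e12,
      Forms.sympForm_swap z b.x₁, b.e22, hp.right _ b.my₁ _ b.my₂, hp.left _ b.mx₂ _ b.mx₁,
      Forms.sympForm_swap b.x₁ b.y₁, b.e11, mul_zero, add_zero]
    match_scalars <;> ring
  have hT : spTv b.x₁ (-c) * spTv b.y₂ p ∈ M := by
    rw [show spTv b.x₁ (-c) * spTv b.y₂ p = C⁻¹ * k by rw [key]; group]
    exact M.mul_mem (M.inv_mem hC) hk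
  have h0 : ¬(-c ≠ 0 ∨ p ≠ 0) := fun h => hS (small_of_pair h5 hp hdim hfix b.mx₁ b.my₂ hv0 hy₂0 b.e12 h hT)
  push Not at h0
  have kC : ∀ z, (k : Mat) *ᵥ z = (C : Mat) *ᵥ z := fun z => by
    rw [key, h0.1, h0.2, spTv, spTv, zero_smul, zero_smul, tv_zero_left, tv_zero_left, mul_one, mul_one]
  refine ⟨fun x hx => ?_, fun y hy => ?_⟩
  · rw [← hgk, Units.val_mul, ← mulVec_mulVec, kC, hCS, w_smul_right, hp.left x hx _ b.mx₁, mul_zero,
      zero_smul, add_zero]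
    exact hX _ (X.add_mem hx (X.smul_mem _ (X.smul_mem _ b.mx₁)))
  · rw [← hgk, Units.val_mul, ← mulVec_mulVec, kC, hCS, hp.right y hy _ b.my₂, zero_smul, add_zero]
    exact hY _ (Y.add_mem hy (Y.smul_mem _ b.my₂))

/-- Without such transvections every element permutes the members. -/
theorem permutes_of_not_small (h2 : (2 : F) ≠ 0) (h5 : 5 ≤ Fintype.card F) (hp : IsPair ω X Y)
    (hdim : Module.finrank F X = 2) (hfix : FixIn (Cfsg.spGL 2 F) M X Y) (hMK : M ≤ Cfsg.spGL 2 F)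
    (hS : ¬ Small M X Y) {J : G} (hJ : J ∈ M)
    (hJX : ∀ x ∈ X, (J : Mat) *ᵥ x ∈ Y) (hJY : ∀ y ∈ Y, (J : Mat) *ᵥ y ∈ X) {g : G} (hg : g ∈ M) :
    ((∀ x ∈ X, (g : Mat) *ᵥ x ∈ X) ∧ ∀ y ∈ Y, (g : Mat) *ᵥ y ∈ Y) ∨
      ((∀ x ∈ X, (g : Mat) *ᵥ x ∈ Y) ∧ ∀ y ∈ Y, (g : Mat) *ᵥ y ∈ X) := by
  by_cases hiso : ∃ v ∈ X, v ≠ 0 ∧ ∃ x ∈ X, ∃ y ∈ Y, ω x y = 0 ∧ (g : Mat) *ᵥ v = x + y
  · obtain ⟨v, hv, hv0, x, hx, y, hy, hxy, hgv⟩ := hiso
    rcases eq_or_ne y 0 with rfl | hy0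
    · exact Or.inl (mapsTo_both h2 h5 hp hdim hfix hMK hS hg hv hv0 (by rw [hgv, add_zero]; exact hx))
    rcases eq_or_ne x 0 with rfl | hx0
    · have hJgv : ((J * g : G) : Mat) *ᵥ v ∈ X := by
        rw [Units.val_mul, ← mulVec_mulVec, hgv, zero_add]; exact hJY y hy
      obtain ⟨hX', hY'⟩ := mapsTo_both h2 h5 hp hdim hfix hMK hS (M.mul_mem hJ hg) hv hv0 hJgv
      have hdY : Module.finrank F Y = 2 := by rw [← finrank_right reflexive hp, hdim]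
      have hinv : ∀ z : V, ∀ W W' : Submodule F V,
          W.map (toLin' (J : Mat)) = W' → (J : Mat) *ᵥ z ∈ W' → z ∈ W := by
        intro z W W' hW hw
        rw [← hW] at hw
        obtain ⟨z', hz', he⟩ := hw
        rw [toLin'_apply] at he
        rwa [← mulVec_injective_iff_isUnit.mpr J.isUnit he]
      have mX := map_eq_of_le reflexive hJX (by rw [hdim, hdY])
      have mY := map_eq_of_le reflexive hJY (by rw [hdim, hdY])
      refine Or.inr ⟨fun a ha => ?_, fun a ha => ?_⟩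
      · have := hX' a ha
        rw [Units.val_mul, ← mulVec_mulVec] at this
        exact hinv _ Y X mY this
      · have := hY' a ha
        rw [Units.val_mul, ← mulVec_mulVec] at this
        exact hinv _ X Y mX this
    exact absurd (small_of_mixed h2 h5 hp hdim hfix hMK hg hv hv0 hx hx0 hy hy0 hxy hgv) hS
  exfalso
  push Not at hiso
  obtain ⟨v, hv, hv0⟩ := Submodule.exists_mem_ne_zero_of_ne_bot (p := X) fun h => by
    rw [h, finrank_bot] at hdim; omega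
  obtain ⟨x, hx, y, hy, hxy'⟩ := hp.decomp ((g : Mat) *ᵥ v)
  have hκ : ω x y ≠ 0 := fun h => hiso v hv hv0 x hx y hy h hxy'.symm
  have hx0 : x ≠ 0 := fun h => hκ (by rw [h, sesq_sympForm.zero_left])
  -- a basis at `x` with `y` on the first line
  obtain ⟨b, rfl⟩ := exists_pb hp hdim hx hx0
  obtain ⟨x₂, hx₂⟩ : ∃ z, z = b.x₂ - (ω b.x₂ y / ω b.x₁ y) • b.x₁ := ⟨_, rfl⟩
  have hx₂X : x₂ ∈ X := hx₂ ▸ X.sub_mem b.mx₂ (X.smul_mem _ b.mx₁)
  have hx₂y : ω x₂ y = 0 := by rw [hx₂, w_sub_left, w_smul_left, div_mul_cancel₀ _ hκ, sub_self]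
  have hx₂y₂ : ω x₂ b.y₂ = 1 := by rw [hx₂, w_sub_left, w_smul_left, b.e12, b.e22, mul_zero, sub_zero]
  obtain ⟨r, hr0, hr1⟩ := exists_scalar h5
  obtain ⟨y₁, hy₁⟩ : ∃ z, z = (ω b.x₁ y)⁻¹ • y := ⟨_, rfl⟩
  have hy₁Y : y₁ ∈ Y := hy₁ ▸ Y.smul_mem _ hy
  have e11 : ω b.x₁ y₁ = 1 := by rw [hy₁, w_smul_right, inv_mul_cancel₀ hκ]
  have e21 : ω x₂ y₁ = 0 := by rw [hy₁, w_smul_right, hx₂y, mul_zero]
  let b₀ : PB X Y :=
    { x₁ := b.x₁, x₂ := x₂, y₁ := y₁, y₂ := b.y₂, mx₁ := b.mx₁, mx₂ := hx₂X, my₁ := hy₁Y, my₂ := b.my₂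
      e11 := e11, e12 := b.e12, e21 := e21, e22 := hx₂y₂
      sX := fun w hw => eq_of_lin hp b.mx₁ hx₂X e11 b.e12 e21 hx₂y₂ hdim hw
      sY := fun w hw => by
        have key := b.sY w hw
        have hy' := b.sY y hy
        rw [hx₂, w_sub_left, w_smul_left, hy₁, smul_smul]
        conv_lhs => rw [key]
        conv_rhs => arg 1; arg 2; rw [hy']
        match_scalars <;> field_simp <;> ring }
  obtain ⟨h, hhK, hX, hY, e1, e2, e3, e4⟩ := exists_levi hp b₀ (b₀.scale one_ne_zero hr0)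
  simp only [PB.scale, b₀, one_smul, inv_one] at e1 e2 e3 e4
  have hey : (h : Mat) *ᵥ y = y := by
    rw [show y = ω b.x₁ y • y₁ by rw [hy₁, smul_inv_smul₀ hκ], mulVec_smul, e3]
  have hh := hfix h hhK hX hY
  set k := g⁻¹ * h * g with hkdef
  have hk : k ∈ M := M.mul_mem (M.mul_mem (M.inv_mem hg) hh) hg
  have hgk : ∀ z, (g : Mat) *ᵥ ((k : Mat) *ᵥ z) = (h : Mat) *ᵥ ((g : Mat) *ᵥ z) := fun z => by
    rw [mulVec_mulVec, mulVec_mulVec, ← Units.val_mul, ← Units.val_mul, hkdef]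
    congr 2
    group
  have hkv : (k : Mat) *ᵥ v = v := mulVec_injective_iff_isUnit.mpr g.isUnit (by
    show (g : Mat) *ᵥ ((k : Mat) *ᵥ v) = (g : Mat) *ᵥ v
    rw [hgk, ← hxy', mulVec_add, e1, hey])
  obtain ⟨hkX, -⟩ := mapsTo_both h2 h5 hp hdim hfix hMK hS hk hv hv0 (by rw [hkv]; exact hv)
  -- the projection of `g X` to `X` is bijective
  let P : X →ₗ[F] X := (X.projectionOnto Y hp.compl) ∘ₗ (g : Mat).mulVecLin ∘ₗ X.subtype
  have hPinj : Function.Injective P := by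
    rw [injective_iff_map_eq_zero]
    intro z hz
    refine Subtype.ext ?_
    by_contra hz0
    obtain ⟨p, hp1, q, hq, hsum⟩ := hp.decomp ((g : Mat) *ᵥ (z : V))
    have hp0 : p = 0 := by
      have e : (P z : X) = ⟨p, hp1⟩ := by
        show X.projectionOnto Y hp.compl ((g : Mat) *ᵥ (z : V)) = _
        rw [← hsum, map_add, Submodule.projectionOnto_apply_of_mem_right hp.compl hq, add_zero]
        exact Submodule.projectionOnto_apply_left hp.compl ⟨p, hp1⟩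
      rw [hz] at e
      exact (congrArg Subtype.val e).symm
    exact hiso z z.2 hz0 p hp1 q hq (by rw [hp0, sesq_sympForm.zero_left]) hsum.symm
  obtain ⟨⟨v₂, hv₂⟩, hv₂P⟩ := (LinearMap.injective_iff_surjective.1 hPinj) ⟨x₂, hx₂X⟩
  obtain ⟨p, hp1, q, hq, hsum⟩ := hp.decomp ((g : Mat) *ᵥ v₂)
  have hpx : p = x₂ := by
    have e : X.projectionOnto Y hp.compl ((g : Mat) *ᵥ v₂) = ⟨x₂, hx₂X⟩ := hv₂P
    rw [← hsum, map_add, Submodule.projectionOnto_apply_of_mem_right hp.compl hq, add_zero,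
      show p = ((⟨p, hp1⟩ : X) : V) from rfl, Submodule.projectionOnto_apply_left] at e
    exact congrArg Subtype.val e
  rw [hpx] at hsum
  have hq' := b₀.sY q hq
  simp only [b₀] at hq'
  have hw : (g : Mat) *ᵥ ((k : Mat) *ᵥ v₂ - r • v₂) =
      0 + ((1 - r) * ω b.x₁ q) • y₁ + ((r⁻¹ - r) * ω x₂ q) • b.y₂ := by
    rw [mulVec_sub, hgk, mulVec_smul, ← hsum, hq', mulVec_add, mulVec_add, mulVec_smul, mulVec_smul, e2, e3, e4]
    simp only [w_add_right, w_smul_right, e11, e21, b.e12, hx₂y₂, mul_zero, mul_one, add_zero, zero_add]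
    module
  rw [add_assoc] at hw
  have hz : (k : Mat) *ᵥ v₂ - r • v₂ = 0 := by
    by_contra hne
    exact hiso _ (X.sub_mem (hkX v₂ hv₂) (X.smul_mem r hv₂)) hne 0 X.zero_mem _
      (Y.add_mem (Y.smul_mem _ hy₁Y) (Y.smul_mem _ b.my₂)) (sesq_sympForm.zero_left _) hw
  rw [hz, mulVec_zero, zero_add] at hw
  have c1 := congrArg (fun z => ω b.x₁ z) hw
  have c2 := congrArg (fun z => ω x₂ z) hw
  simp only [w_add_right, w_smul_right, e11, e21, b.e12, hx₂y₂, mul_zero, mul_one, add_zero, zero_add,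
    sesq_sympForm.zero_right] at c1 c2
  have hq0 : q = 0 := by
    rw [hq', (mul_eq_zero.1 c1.symm).resolve_left (sub_ne_zero.2 fun e => hr1 (by rw [← e, mul_one])),
      (mul_eq_zero.1 c2.symm).resolve_left (sub_ne_zero.2 fun e => hr1 (by
        nth_rewrite 1 [← e]; exact inv_mul_cancel₀ hr0))]
    simp
  refine hiso v₂ hv₂ (fun h => ?_) x₂ hx₂X 0 Y.zero_mem (sesq_sympForm.zero_right _) ?_
  · rw [h, mulVec_zero, hq0, add_zero] at hsum
    rw [hsum, sesq_sympForm.zero_left] at hx₂y₂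
    exact zero_ne_one hx₂y₂
  · rw [← hsum, hq0]

/-- A non-trivial transvection with centre in `X` makes all vectors centres. -/
theorem centreIn_of_tv (h2 : (2 : F) ≠ 0) (hp : IsPair ω X Y)
    (hdim : Module.finrank F X = 2) (hfix : FixIn (Cfsg.spGL 2 F) M X Y) (hMK : M ≤ Cfsg.spGL 2 F)
    {J : G} (hJ : J ∈ M) (hJX : ∀ x ∈ X, (J : Mat) *ᵥ x ∈ Y)
    {z : V} (hz : z ∈ X) (hz0 : z ≠ 0) {c : F} (hc : c ≠ 0) (hM : spTv z c ∈ M) :
    ∀ v, CentreIn M v := by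
  have all : ∀ p ∈ X, p ≠ 0 → spTv p c ∈ M := by
    intro p hpX hp0
    obtain ⟨b, rfl⟩ := exists_pb hp hdim hz hz0
    obtain ⟨b', rfl⟩ := exists_pb hp hdim hpX hp0
    obtain ⟨h, hhK, hX, hY, e1, -⟩ := exists_levi hp b b'
    rw [← e1, ← conj_spTv hhK]
    exact M.mul_mem (M.mul_mem (hfix h hhK hX hY) hM) (M.inv_mem (hfix h hhK hX hY))
  have hX : ∀ p ∈ X, CentreIn M p := by
    intro p hpX d
    rcases eq_or_ne p 0 with rfl | hp0
    · exact centreIn_zero M d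
    obtain ⟨l, l', rfl⟩ := exists_square_diff h2 hc d
    have hsq : ∀ r : F, spTv p (c * (r * r)) ∈ M := fun r => by
      rcases eq_or_ne r 0 with rfl | hr
      · simp [spTv, tv_zero_left, M.one_mem]
      · rw [← spTv_smul]; exact all _ (X.smul_mem r hpX) (smul_ne_zero hr hp0)
    have e : spTv p (c * (l * l) - c * (l' * l')) * spTv p (c * (l' * l')) = spTv p (c * (l * l)) :=
      SpSix.gl_ext fun x => by
        simp only [Units.val_mul, ← mulVec_mulVec, spTv_mulVec, w_add_left, w_smul_left, w_self,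
          mul_zero, add_zero]
        match_scalars <;> ring
    rw [eq_mul_inv_of_mul_eq e]
    exact M.mul_mem (hsq l) (M.inv_mem (hsq l'))
  have hY : ∀ y ∈ Y, CentreIn M y := by
    intro y hy
    have hdY : Module.finrank F Y = 2 := by rw [← finrank_right reflexive hp, hdim]
    rw [← map_eq_of_le reflexive hJX (by rw [hdim, hdY])] at hy
    obtain ⟨x, hx, rfl⟩ := hy
    rw [toLin'_apply]
    exact (hX x hx).map (hMK hJ) hJ
  intro v
  obtain ⟨p, hp1, q, hq, rfl⟩ := hp.decomp v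
  rcases eq_or_ne p 0 with rfl | hp0
  · rw [zero_add]; exact hY q hq
  by_cases hpq : ω p q = 0
  · obtain ⟨q', hq', h1⟩ := exists_pair_one reflexive hp hp1 hp0
    have := ((hX p hp1).add (hY q' hq') (h1 ▸ one_ne_zero)).add (hY _ (Y.sub_mem hq hq')) (by
      rw [w_add_left, w_sub_right, hpq, h1, hp.right q' hq' _ (Y.sub_mem hq hq'), add_zero, zero_sub]
      exact neg_ne_zero.mpr one_ne_zero)
    rwa [add_assoc, add_sub_cancel] at this
  · exact (hX p hp1).add (hY q hq) hpq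

/-- The stabiliser of two complementary Lagrangian planes is maximal in `Sp₄`. -/
theorem isMaximalIn_spPair (h2 : (2 : F) ≠ 0) (h5 : 5 ≤ Fintype.card F)
    {D : Fin 2 → Submodule F V} (hD : IsMDecomposition 2 D) (hts : ∀ i, IsTotallySingularFor ω (D i)) :
    IsMaximalIn (Cfsg.spGL 2 F) (decompositionStabilizer D ⊓ Cfsg.spGL 2 F) := by
  have hp := MaxSub.LPair.isPair_of hD hts
  have hdim : ∀ i, Module.finrank F (D i) = 2 := hD.finrank_eq
  obtain ⟨J, hJiso, hJ0, hJ1⟩ := exists_exchange reflexive hp ⟨Sum.inl 0⟩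
  have hJK : J ∈ Cfsg.spGL 2 F := mem_spGL_iff.mpr hJiso
  have hstab : ∀ g : G,
      ((∀ x ∈ D 0, (g : Mat) *ᵥ x ∈ D 0) ∧ ∀ y ∈ D 1, (g : Mat) *ᵥ y ∈ D 1) ∨
      ((∀ x ∈ D 0, (g : Mat) *ᵥ x ∈ D 1) ∧ ∀ y ∈ D 1, (g : Mat) *ᵥ y ∈ D 0) →
      g ∈ decompositionStabilizer D := by
    rintro g (⟨h0, h1⟩ | ⟨h0, h1⟩)
    · exact ⟨1, fun i => by
        fin_cases i <;> [exact map_eq_of_le reflexive h0 rfl; exact map_eq_of_le reflexive h1 rfl]⟩
    · exact ⟨Equiv.swap 0 1, fun i => by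
        fin_cases i <;> [exact map_eq_of_le reflexive h0 (by rw [hdim, hdim]);
          exact map_eq_of_le reflexive h1 (by rw [hdim, hdim])]⟩
  obtain ⟨a, ha, ha0⟩ := Submodule.exists_mem_ne_zero_of_ne_bot (p := D 0) fun h => by
    have := hdim 0; rw [h, finrank_bot] at this; omega
  obtain ⟨b, hb, hab⟩ := exists_pair_one reflexive hp ha ha0
  refine isMaximalIn_of inf_le_right ⟨spTv a 1, spTv_mem a 1, fun h => ?_⟩ fun M hHM hMK g hg hg' => ?_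
  · obtain ⟨π, hπ⟩ := h.1
    have hmem : (spTv a 1 : Mat) *ᵥ b ∈ D (π 1) := hπ 1 ▸ ⟨b, hb, toLin'_apply _ _⟩
    rw [spTv_mulVec, Forms.sympForm_swap a b, hab, one_mul, neg_one_smul] at hmem
    obtain h0 | h1 : π 1 = 0 ∨ π 1 = 1 := by
      generalize π 1 = i; fin_cases i <;> simp
    · rw [h0, Submodule.add_mem_iff_left _ ((D 0).neg_mem ha)] at hmem
      rw [hp.disjoint hmem hb, reflexive.zero_right] at hab
      exact zero_ne_one hab
    · rw [h1, Submodule.add_mem_iff_right _ hb] at hmem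
      exact ha0 (hp.disjoint ha (by simpa using (D 1).neg_mem hmem))
  have hfix : FixIn (Cfsg.spGL 2 F) M (D 0) (D 1) :=
    fun h hh h0 h1 => hHM ⟨hstab h (Or.inl ⟨h0, h1⟩), hh⟩
  have hJM : J ∈ M := hHM ⟨hstab J (Or.inr ⟨hJ0, hJ1⟩), hJK⟩
  refine spGL_le_of_forall_spTv fun v c => ?_
  by_cases hS : Small M (D 0) (D 1)
  · obtain ⟨z, hz | hz, hz0, d, hd, hM⟩ := hS
    · exact centreIn_of_tv h2 hp (hdim 0) hfix hMK hJM hJ0 hz hz0 hd hM v c
    · exact centreIn_of_tv h2 hp.symm (hdim 1) hfix.symm hMK hJM hJ1 hz hz0 hd hM v c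
  · exact absurd ⟨hstab g (permutes_of_not_small h2 h5 hp (hdim 0) hfix hMK hS hJM hJ0 hJ1 hg), hMK hg⟩ hg'

end CfsgLib.SpFourOdd
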