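import Cfsg.Agent.FormSubfield.Maximal

/-!
# Subfield groups are maximal in `Sp₄` of odd characteristic

Let `M` contain the rational isometries. The coefficients `c` with `T e c ∈ M` for all rational `e`
form a ring: a commutator of two short root elements is a long one. An irrational coefficient gives
every transvection. Otherwise the image of a rational vector under an element of `M` is orthogonal to
a rational vector, and then rational up to a scalar with rational square.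
-/

set_option autoImplicit false
set_option linter.unusedSectionVars false

namespace CfsgLib.SpFourOdd.Subfield

open Matrix Cfsg.Geo CfsgLib.MaxSub CfsgLib.FormSubfield

variable {ι : Type} [Fintype ι] [DecidableEq ι] {F : Type*} [Field F] [Fintype F]
variable {F₀ : Subfield F} {f : (ι → F) → (ι → F) → F} {M : Subgroup (GL ι F)}

/-- The short root element. -/
noncomputable abbrev Sh (f : (ι → F) → (ι → F) → F) (e w : ι → F) (a : F) : GL ι F :=
  S (RingEquiv.refl F) (-1 : F) f e w a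

/-- `M` consists of isometries and contains the rational ones. -/
structure Over (F₀ : Subfield F) (f : (ι → F) → (ι → F) → F) (M : Subgroup (GL ι F)) : Prop where
  lower : ∀ g : GL ι F, Iso f g → RatMat F₀ (g : Matrix ι ι F) → g ∈ M
  iso : ∀ g ∈ M, Iso f g

/-- Two orthogonal hyperbolic pairs of rational vectors. -/
structure Frame (F₀ : Subfield F) (f : (ι → F) → (ι → F) → F) (e e' a a' : ι → F) : Prop where
  re : e ∈ ratVecs ι F₀
  re' : e' ∈ ratVecs ι F₀
  ra : a ∈ ratVecs ι F₀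
  ra' : a' ∈ ratVecs ι F₀
  ee' : f e e' = 1
  aa' : f a a' = 1
  ea : f e a = 0
  ea' : f e a' = 0
  e'a : f e' a = 0
  e'a' : f e' a' = 0

variable (hs : Setting F₀ (RingEquiv.refl F) (-1 : F) 1 f) (h2 : (2 : F) ≠ 0)

include hs

theorem swap (u v : ι → F) : f v u = -f u v := by
  rw [hs.herm u v, RingEquiv.refl_apply, neg_one_mul]

include h2

theorem self (z : ι → F) : f z z = 0 := by
  have h := swap hs z z
  exact (mul_eq_zero.1 (show (2 : F) * f z z = 0 by linear_combination h)).resolve_left h2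

theorem T_apply (e : ι → F) (c : F) (x : ι → F) :
    (T f e c : Matrix ι ι F) *ᵥ x = x + (c * f x e) • e :=
  hs.T_mulVec (self hs h2 e) c x

theorem Sh_apply {e w : ι → F} (hew : f e w = 0) (a : F) (x : ι → F) :
    (Sh f e w a : Matrix ι ι F) *ᵥ x = x + (a * f x w) • e + (a * f x e) • w := by
  rw [hs.S_mulVec (self hs h2 w) (self hs h2 e) hew, RingEquiv.refl_apply]
  module

theorem conj_T {g : GL ι F} (hg : Iso f g) (e : ι → F) (c : F) :
    g * T f e c * g⁻¹ = T f ((g : Matrix ι ι F) *ᵥ e) c :=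
  hs.conj_T hg (self hs h2 e) c

theorem T_mem (hM : Over F₀ f M) {e : ι → F} (he : e ∈ ratVecs ι F₀) {c : F} (hc : c ∈ F₀) :
    T f e c ∈ M :=
  hM.lower _ (hs.T_iso (self hs h2 e) (by rw [RingEquiv.refl_apply]; ring))
    (hs.ratMat_T he (self hs h2 e) hc)

theorem Sh_mem (hM : Over F₀ f M) {e w : ι → F} (he : e ∈ ratVecs ι F₀) (hw : w ∈ ratVecs ι F₀)
    (hew : f e w = 0) {a : F} (ha : a ∈ F₀) : Sh f e w a ∈ M :=
  hM.lower _ (hs.S_iso (self hs h2 w) (self hs h2 e) hew a)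
    (hs.ratMat_S he hw (self hs h2 w) (self hs h2 e) hew ha)

theorem exists_frame (hn : Fintype.card ι = 4) {e : ι → F} (he : e ∈ ratVecs ι F₀) (he0 : e ≠ 0) :
    ∃ e' a a', Frame F₀ f e e' a a' := by
  obtain ⟨p, hp, -, hpe⟩ := hs.exists_partner he he0 (self hs h2 e)
  have he'R : -p ∈ ratVecs ι F₀ := Submodule.neg_mem _ hp
  have hee' : f e (-p) = 1 := by rw [hs.sesq.neg_right, swap hs p e, hpe, neg_neg]
  obtain ⟨z, hz, q, hq, -, -, hqz⟩ := hs.exists_pair_hyp (hs.exists_iso₂ F₀.one_mem) ![e, -p]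
    (fun i => by
      fin_cases i
      · exact he
      · exact he'R) 0 1 (self hs h2 e) (self hs h2 (-p)) (by simp [hee']) (by omega)
  exact ⟨-p, q, z, he, he'R, hq.1, hz.1, hee', hqz,
    hs.orth_symm (hq.2 0), hs.orth_symm (hz.2 0), hs.orth_symm (hq.2 1), hs.orth_symm (hz.2 1)⟩

theorem Frame.decomp {e e' a a' : ι → F} (h : Frame F₀ f e e' a a') (hn : Fintype.card ι = 4)
    (x : ι → F) : x = f x e' • e + (-f x e) • e' + f x a' • a + (-f x a) • a' := by
  have h1 : f e' e = -1 := by rw [swap hs e e', h.ee']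
  have h3 : f a' a = -1 := by rw [swap hs a a', h.aa']
  have l1 := hs.orth_symm h.ea
  have l2 := hs.orth_symm h.ea'
  have l3 := hs.orth_symm h.e'a
  have l4 := hs.orth_symm h.e'a'
  have hli : LinearIndependent F ![e, e', a, a'] := by
    rw [Fintype.linearIndependent_iff]
    intro c hc
    simp only [Fin.sum_univ_four, Matrix.cons_val_zero, Matrix.cons_val_one, Matrix.cons_val] at hc
    have k1 := congrArg (fun y => f y e') hc
    have k2 := congrArg (fun y => f y e) hc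
    have k3 := congrArg (fun y => f y a') hc
    have k4 := congrArg (fun y => f y a) hc
    simp only [hs.sesq.add_left, hs.sesq.smul_left, hs.sesq.zero_left, self hs h2, h.ee', h.aa', h1,
      h3, h.ea, h.ea', h.e'a, h.e'a', l1, l2, l3, l4, mul_zero, mul_one, add_zero,
      zero_add, mul_neg, neg_eq_zero] at k1 k2 k3 k4
    intro i
    fin_cases i <;> assumption
  have hspan := hli.span_eq_top_of_card_eq_finrank'
    (by rw [Fintype.card_fin, Module.finrank_fintype_fun_eq_card, hn])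
  set d := x - (f x e' • e + (-f x e) • e' + f x a' • a + (-f x a) • a') with hd
  suffices d = 0 from sub_eq_zero.1 this
  by_contra hd0
  obtain ⟨-, ⟨z, hz⟩⟩ := hs.sesq.nondegenerate d hd0
  apply hz
  have hz' : z ∈ Submodule.span F (Set.range ![e, e', a, a']) := hspan ▸ Submodule.mem_top
  clear hz
  induction hz' using Submodule.span_induction with
  | mem y hy =>
    obtain ⟨i, rfl⟩ := hy
    fin_cases i <;>
      simp [hd, hs.sesq.sub_left, hs.sesq.add_left, hs.sesq.smul_left, hs.sesq.neg_left,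
        self hs h2, h.ee', h.aa', h1, h3, h.ea, h.ea', h.e'a, h.e'a', l1, l2, l3, l4]
  | zero => exact hs.sesq.zero_right _
  | add y y' _ _ hy hy' => rw [hs.sesq.add_right, hy, hy', add_zero]
  | smul c y _ hy => rw [hs.sesq.smul_right, hy, mul_zero]

theorem exists_map_of_ne (hM : Over F₀ f M) {e x : ι → F} (he : e ∈ ratVecs ι F₀)
    (hx : x ∈ ratVecs ι F₀) (h : f e x ≠ 0) : ∃ g ∈ M, (g : Matrix ι ι F) *ᵥ e = x :=
  ⟨T f (x - e) (f e x)⁻¹, T_mem hs h2 hM (Submodule.sub_mem _ hx he)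
    (F₀.inv_mem (hs.rat e he x hx)), by
    rw [T_apply hs h2, hs.sesq.sub_right, self hs h2 e, sub_zero, inv_mul_cancel₀ h, one_smul,
      add_sub_cancel]⟩

theorem exists_map (hM : Over F₀ f M) {e x : ι → F} (he : e ∈ ratVecs ι F₀) (he0 : e ≠ 0)
    (hx : x ∈ ratVecs ι F₀) (hx0 : x ≠ 0) : ∃ g ∈ M, (g : Matrix ι ι F) *ᵥ e = x := by
  obtain ⟨v, hv, hev, hvx⟩ : ∃ v ∈ ratVecs ι F₀, f e v ≠ 0 ∧ f v x ≠ 0 := by
    obtain ⟨p, hp, -, hpe⟩ := hs.exists_partner he he0 (self hs h2 e)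
    obtain ⟨q, hq, -, hqx⟩ := hs.exists_partner hx hx0 (self hs h2 x)
    have hep : f e p ≠ 0 := hs.ne_symm (by rw [hpe]; exact one_ne_zero)
    by_cases hpx : f p x = 0
    · by_cases heq : f e q = 0
      · exact ⟨p + q, Submodule.add_mem _ hp hq, by rwa [hs.sesq.add_right, heq, add_zero],
          by rw [hs.sesq.add_left, hpx, hqx, zero_add]; exact one_ne_zero⟩
      · exact ⟨q, hq, heq, by rw [hqx]; exact one_ne_zero⟩
    · exact ⟨p, hp, hep, hpx⟩
  obtain ⟨g, hg, hge⟩ := exists_map_of_ne hs h2 hM he hv hev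
  obtain ⟨k, hk, hkv⟩ := exists_map_of_ne hs h2 hM hv hx hvx
  exact ⟨k * g, M.mul_mem hk hg, by rw [Units.val_mul, ← mulVec_mulVec, hge, hkv]⟩

omit hs h2 in
/-- The coefficients of the transvections at rational centres. -/
def coeffs (F₀ : Subfield F) (f : (ι → F) → (ι → F) → F) (M : Subgroup (GL ι F)) : Set F :=
  {c | ∀ e ∈ ratVecs ι F₀, T f e c ∈ M}

theorem mem_coeffs (hM : Over F₀ f M) {e : ι → F} (he : e ∈ ratVecs ι F₀) (he0 : e ≠ 0) {c : F}
    (hT : T f e c ∈ M) : c ∈ coeffs F₀ f M := by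
  intro x hx
  rcases eq_or_ne x 0 with rfl | hx0
  · rw [T, smul_zero, tv_zero_left]; exact M.one_mem
  obtain ⟨g, hg, rfl⟩ := exists_map hs h2 hM he he0 hx hx0
  rw [← conj_T hs h2 (hM.iso g hg)]
  exact M.mul_mem (M.mul_mem hg hT) (M.inv_mem hg)

theorem T_zero (e : ι → F) : T f e 0 = (1 : GL ι F) :=
  ext_mulVec fun x => by rw [T_apply hs h2]; simp

theorem T_inv (e : ι → F) (c : F) : (T f e c)⁻¹ = T f e (-c) :=
  inv_eq_of_mul_eq_one_right (by
    rw [hs.T_add (self hs h2 e), add_neg_cancel, T_zero hs h2])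

theorem neg_coeffs {c : F} (hc : c ∈ coeffs F₀ f M) : -c ∈ coeffs F₀ f M := fun e he => by
  rw [← T_inv hs h2]
  exact M.inv_mem (hc e he)

theorem add_coeffs {c d : F} (hc : c ∈ coeffs F₀ f M) (hd : d ∈ coeffs F₀ f M) :
    c + d ∈ coeffs F₀ f M := fun e he => by
  rw [← hs.T_add (self hs h2 e)]
  exact M.mul_mem (hc e he) (hd e he)

theorem smul_coeffs {k c : F} (hk : k ∈ F₀) (hc : c ∈ coeffs F₀ f M) :
    k * c ∈ coeffs F₀ f M := by
  have hsq : ∀ t ∈ F₀, c * (t * t) ∈ coeffs F₀ f M := fun t ht e he => by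
    have h := hc (t • e) (smul_mem_ratVecs ht he)
    rwa [hs.T_smul (self hs h2 e), RingEquiv.refl_apply] at h
  have hk2 : k / 2 ∈ F₀ := F₀.div_mem hk (ofNat_mem F₀ 2)
  have e1 : k * c = c * ((k / 2 + 1) * (k / 2 + 1)) + -(c * (k / 2 * (k / 2))) + -(c * (1 * 1)) := by
    field_simp
    ring
  rw [e1]
  exact add_coeffs hs h2 (add_coeffs hs h2 (hsq _ (F₀.add_mem hk2 F₀.one_mem))
    (neg_coeffs hs h2 (hsq _ hk2))) (neg_coeffs hs h2 (hsq 1 F₀.one_mem))

theorem Sh_of_coeff {c : F} (hc : c ∈ coeffs F₀ f M) {e w : ι → F} (he : e ∈ ratVecs ι F₀)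
    (hw : w ∈ ratVecs ι F₀) (hew : f e w = 0) : Sh f e w c ∈ M := by
  have h := hs.T_add_vec (self hs h2 w) (self hs h2 e) hew (c := c)
    (by rw [RingEquiv.refl_apply]; ring)
  have hm := hc (e + w) (Submodule.add_mem _ he hw)
  rw [h] at hm
  exact (Subgroup.mul_mem_cancel_left M (M.mul_mem (hc e he) (hc w hw))).1 hm

theorem Sh_shift {e w : ι → F} (hew : f e w = 0) (s t : F) :
    Sh f e (w + t • e) s = Sh f e w s * T f e (2 * s * t) := by
  refine ext_mulVec fun x => ?_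
  have hee := self hs h2 e
  rw [Units.val_mul, ← mulVec_mulVec, T_apply hs h2, Sh_apply hs h2 hew,
    Sh_apply hs h2 (by rw [hs.sesq.add_right, hs.sesq.smul_right, hew, hee, mul_zero, add_zero])]
  simp only [hs.sesq.add_right, hs.sesq.add_left, hs.sesq.smul_left, hs.sesq.smul_right,
    RingEquiv.refl_apply, hew, hee]
  module

theorem mul_coeffs (hM : Over F₀ f M) (hn : Fintype.card ι = 4) {s t : F}
    (hsc : s ∈ coeffs F₀ f M) (htc : t ∈ coeffs F₀ f M) : s * t ∈ coeffs F₀ f M := by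
  obtain ⟨i⟩ : Nonempty ι := Fintype.card_pos_iff.1 (by omega)
  have he := single_mem_ratVecs F₀ i
  have he0 : (Pi.single i 1 : ι → F) ≠ 0 := by simp
  obtain ⟨e', a, a', h⟩ := exists_frame hs h2 hn he he0
  set e : ι → F := Pi.single i 1
  have h1 := Sh_of_coeff hs h2 hsc he h.ra h.ea
  have hh := Sh_of_coeff hs h2 htc he h.ra' h.ea'
  have hc := hs.conj_S (hM.iso _ hh) (self hs h2 a) (self hs h2 e) h.ea s
  rw [Sh_apply hs h2 h.ea' t e, Sh_apply hs h2 h.ea' t a, self hs h2 e, h.ea', h.aa',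
    hs.orth_symm h.ea] at hc
  simp only [mul_zero, zero_smul, add_zero, mul_one] at hc
  change Sh f e a' t * Sh f e a s * (Sh f e a' t)⁻¹ = Sh f e (a + t • e) s at hc
  rw [Sh_shift hs h2 h.ea s t] at hc
  have hm := M.mul_mem (M.mul_mem hh h1) (M.inv_mem hh)
  rw [hc] at hm
  have h3 := smul_coeffs hs h2 (F₀.inv_mem (ofNat_mem F₀ 2))
    (mem_coeffs hs h2 hM he he0 ((Subgroup.mul_mem_cancel_left M h1).1 hm))
  rwa [← mul_assoc, inv_mul_cancel_left₀ h2] at h3

theorem coeffs_univ (hM : Over F₀ f M) (hn : Fintype.card ι = 4) {r : ℕ} (hr : r.Prime)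
    (hcard : Fintype.card F = Nat.card F₀ ^ r) {c : F} (hc : c ∈ coeffs F₀ f M) (hc' : c ∉ F₀)
    (x : F) : x ∈ coeffs F₀ f M :=
  subring_eq_top_of_prime hr hcard
    { carrier := coeffs F₀ f M
      mul_mem' := mul_coeffs hs h2 hM hn
      one_mem' := fun _ he => T_mem hs h2 hM he F₀.one_mem
      add_mem' := add_coeffs hs h2
      zero_mem' := fun _ he => T_mem hs h2 hM he F₀.zero_mem
      neg_mem' := neg_coeffs hs h2 }
    (fun _ hx _ he => T_mem hs h2 hM he hx) hc hc' x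

/-- All transvections follow from those at rational centres. -/
theorem forall_T (hM : Over F₀ f M) (hn : Fintype.card ι = 4)
    (hall : ∀ x, x ∈ coeffs F₀ f M) (z : ι → F) (c : F) : T f z c ∈ M := by
  obtain ⟨i⟩ : Nonempty ι := Fintype.card_pos_iff.1 (by omega)
  obtain ⟨e', a, a', h⟩ := exists_frame hs h2 hn (single_mem_ratVecs F₀ i) (by simp)
  set e : ι → F := Pi.single i 1
  let Z : (ι → F) → Prop := fun z => ∀ c, T f z c ∈ M
  have hR : ∀ z ∈ ratVecs ι F₀, Z z := fun z hz c => hall c z hz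
  have hsm : ∀ (k : F) {z : ι → F}, Z z → Z (k • z) := fun k z hz c => by
    rw [hs.T_smul (self hs h2 z)]; exact hz _
  have hmv : ∀ {p w : ι → F} (k : F), Z p → Z w → Z (w + (k * f w p) • p) := by
    intro p w k hp hw c
    rw [← T_apply hs h2 p k w, ← conj_T hs h2 (hM.iso _ (hp k))]
    exact M.mul_mem (M.mul_mem (hp k) (hw c)) (M.inv_mem (hp k))
  have hplane : ∀ {p p' : ι → F}, Z p → Z p' → f p p' = 1 → ∀ α β : F, Z (α • p + β • p') := by
    intro p p' hp hp' hpp α β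
    rcases eq_or_ne β 0 with rfl | hβ
    · rw [zero_smul, add_zero]; exact hsm α hp
    · have h1 := hsm β (hmv (-(α / β)) hp hp')
      rw [swap hs p p', hpp, smul_add, smul_smul,
        show β * (-(α / β) * -1) = α by field_simp, add_comm] at h1
      exact h1
  have hstep : ∀ {p q y : ι → F}, Z (q - p) → f p q ≠ 0 → f y p = 0 → f y q = 0 → Z (p + y) →
      Z (q + y) := by
    intro p q y hqp hpq hyp hyq hz
    have h1 := hmv (f p q)⁻¹ hqp hz
    rw [show f (p + y) (q - p) = f p q by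
      rw [hs.sesq.add_left, hs.sesq.sub_right, hs.sesq.sub_right, self hs h2 p, hyp, hyq]; ring,
      inv_mul_cancel₀ hpq, one_smul, show p + y + (q - p) = q + y by abel] at h1
    exact h1
  have hglue : ∀ {p p' y : ι → F}, Z p → Z p' → f p p' = 1 → f y p = 0 → f y p' = 0 → Z (p + y) →
      ∀ α β : F, α • p + β • p' ≠ 0 → Z (α • p + β • p' + y) := by
    intro p p' y hp hp' hpp hyp hyp' hz α β hne
    rcases eq_or_ne β 0 with rfl | hβ
    · have hα : α ≠ 0 := by rintro rfl; simp at hne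
      rw [zero_smul, add_zero]
      have h1 : Z (p' + y) := hstep
        (by rw [show p' - p = (-1 : F) • p + (1 : F) • p' by module]; exact hplane hp hp' hpp _ _)
        (by rw [hpp]; exact one_ne_zero) hyp hyp' hz
      refine hstep ?_ ?_ hyp' (by rw [hs.sesq.smul_right, hyp, mul_zero]) h1
      · rw [show α • p - p' = α • p + (-1 : F) • p' by module]; exact hplane hp hp' hpp _ _
      · rw [hs.sesq.smul_right, swap hs p p', hpp, RingEquiv.refl_apply]
        simpa using hα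
    · refine hstep ?_ ?_ hyp ?_ hz
      · rw [show α • p + β • p' - p = (α - 1) • p + β • p' by module]
        exact hplane hp hp' hpp _ _
      · rw [hs.sesq.add_right, hs.sesq.smul_right, hs.sesq.smul_right, self hs h2 p, hpp]
        simpa using hβ
      · rw [hs.sesq.add_right, hs.sesq.smul_right, hs.sesq.smul_right, hyp, hyp']
        ring
  have hdec : z = f z e' • e + (-f z e) • e' + (f z a' • a + (-f z a) • a') :=
    (h.decomp hs h2 hn z).trans (add_assoc _ _ _)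
  suffices Z z from this c
  rw [hdec]
  by_cases hy : f z a' • a + (-f z a) • a' = 0
  · rw [hy, add_zero]
    exact hplane (hR _ h.re) (hR _ h.re') h.ee' _ _
  by_cases hx : f z e' • e + (-f z e) • e' = 0
  · rw [hx, zero_add]
    exact hplane (hR _ h.ra) (hR _ h.ra') h.aa' _ _
  have h1 := hglue (hR _ h.re) (hR _ h.re') h.ee' (hs.orth_symm h.ea) (hs.orth_symm h.e'a)
    (hR _ (Submodule.add_mem _ h.re h.ra)) _ _ hx
  rw [add_comm] at h1 ⊢
  refine hglue (hR _ h.ra) (hR _ h.ra') h.aa' ?_ ?_ h1 _ _ hy <;>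
    simp [hs.sesq.add_left, hs.sesq.smul_left, hs.sesq.neg_left, h.ea, h.ea', h.e'a, h.e'a']

/-- A centre orthogonal to a rational vector is rational up to a root of a rational number. -/
theorem rigid (hM : Over F₀ f M) (hn : Fintype.card ι = 4) (hA : ∀ c ∈ coeffs F₀ f M, c ∈ F₀)
    {y : ι → F} (hy : T f y 1 ∈ M) {x : ι → F} (hx : x ∈ ratVecs ι F₀) (hx0 : x ≠ 0)
    (hxy : f x y = 0) : ∃ k : F, ∃ v ∈ ratVecs ι F₀, y = k • v ∧ k * k ∈ F₀ := by
  obtain ⟨e', a, a', h⟩ := exists_frame hs h2 hn hx hx0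
  have hye : f y x = 0 := hs.orth_symm hxy
  have hdec : y = f y e' • x + f y a' • a + (-f y a) • a' := by
    have h1 := h.decomp hs h2 hn y
    rw [hye, neg_zero, zero_smul, add_zero] at h1
    exact h1
  have hhalf : ∀ {c : F}, 2 * c ∈ coeffs F₀ f M → c ∈ F₀ := fun {c} hc => by
    have h1 := F₀.mul_mem (F₀.inv_mem (ofNat_mem F₀ 2)) (hA _ hc)
    rwa [inv_mul_cancel_left₀ h2] at h1
  have hmove : ∀ {w : ι → F}, w ∈ ratVecs ι F₀ → f x w = 0 → f y w * f y w ∈ F₀ := by
    intro w hw hxw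
    refine hhalf (mem_coeffs hs h2 hM hx hx0 ?_)
    have hP : ∀ s ∈ F₀, T f (y + (s * f y w) • x) 1 ∈ M := by
      intro s hs'
      have hh := Sh_mem hs h2 hM hx hw hxw hs'
      have e1 : y + (s * f y w) • x = (Sh f x w s : Matrix ι ι F) *ᵥ y := by
        rw [Sh_apply hs h2 hxw, hye, mul_zero, zero_smul, add_zero]
      rw [e1, ← conj_T hs h2 (hM.iso _ hh)]
      exact M.mul_mem (M.mul_mem hh hy) (M.inv_mem hh)
    have key : T f (y + (1 * f y w) • x) 1 * T f (y + (-1 * f y w) • x) 1 =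
        T f y 1 * T f y 1 * T f x (2 * (f y w * f y w)) := by
      refine ext_mulVec fun u => ?_
      simp only [Units.val_mul, ← mulVec_mulVec, T_apply hs h2, hs.sesq.add_left, hs.sesq.add_right,
        hs.sesq.smul_left, hs.sesq.smul_right, RingEquiv.refl_apply, self hs h2, hxy, hye]
      module
    have hm := M.mul_mem (hP 1 F₀.one_mem) (hP (-1) (F₀.neg_mem F₀.one_mem))
    rw [key] at hm
    exact (Subgroup.mul_mem_cancel_left M (M.mul_mem hy hy)).1 hm
  have hβ := hmove h.ra' h.ea'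
  have hγ := hmove h.ra h.ea
  have hβγ : f y a * f y a' ∈ F₀ := by
    have h1 := hmove (Submodule.add_mem _ h.ra h.ra') (by rw [hs.sesq.add_right, h.ea, h.ea', add_zero])
    rw [hs.sesq.add_right] at h1
    have h3 := F₀.mul_mem (F₀.inv_mem (ofNat_mem F₀ 2)) (F₀.sub_mem (F₀.sub_mem h1 hγ) hβ)
    convert h3 using 1
    field_simp
    ring
  by_cases h0 : f y a' = 0 ∧ f y a = 0
  · rw [h0.1, h0.2, neg_zero, zero_smul, zero_smul, add_zero, add_zero] at hdec
    refine ⟨f y e', x, hx, hdec, hA _ (mem_coeffs hs h2 hM hx hx0 ?_)⟩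
    rw [hdec, hs.T_smul (self hs h2 x), RingEquiv.refl_apply, one_mul] at hy
    exact hy
  obtain ⟨k, v₀, v₁, hk0, hv₀, hv₁, hxv₀, hxv₁, hv01, hk, hyv⟩ : ∃ (k : F) (v₀ v₁ : ι → F),
      k ≠ 0 ∧ v₀ ∈ ratVecs ι F₀ ∧ v₁ ∈ ratVecs ι F₀ ∧ f x v₀ = 0 ∧ f x v₁ = 0 ∧ f v₀ v₁ = 1 ∧
        k * k ∈ F₀ ∧ y = f y e' • x + k • v₀ := by
    by_cases hb : f y a' = 0
    · have hc : f y a ≠ 0 := fun hc => h0 ⟨hb, hc⟩
      refine ⟨-f y a, a', -a, neg_ne_zero.2 hc, h.ra', Submodule.neg_mem _ h.ra, h.ea',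
        by rw [hs.sesq.neg_right, h.ea, neg_zero],
        by rw [hs.sesq.neg_right, swap hs a a', h.aa', neg_neg], by rwa [neg_mul_neg], ?_⟩
      conv_lhs => rw [hdec, hb, zero_smul, add_zero]
    · have hq : -(f y a / f y a') ∈ F₀ := F₀.neg_mem (by
        have h1 := F₀.div_mem hβγ hβ
        rwa [mul_div_mul_right _ _ hb] at h1)
      refine ⟨f y a', a + (-(f y a / f y a')) • a', a', hb,
        Submodule.add_mem _ h.ra (smul_mem_ratVecs hq h.ra'), h.ra',
        by rw [hs.sesq.add_right, hs.sesq.smul_right, h.ea, h.ea']; ring, h.ea',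
        by rw [hs.sesq.add_left, hs.sesq.smul_left, self hs h2 a', h.aa']; ring, hβ, ?_⟩
      conv_lhs => rw [hdec]
      rw [smul_add, smul_smul, mul_neg, mul_div_cancel₀ _ hb, add_assoc]
  set α := f y e'
  have hαk : α * k ∈ F₀ := by
    refine hhalf (mem_coeffs hs h2 hM hx hx0 ?_)
    have hD := M.mul_mem (T_mem hs h2 hM hv₀ (F₀.neg_mem hk)) hy
    have hh := Sh_mem hs h2 hM hx hv₁ hxv₁ F₀.one_mem
    have hI := hM.iso _ hh
    have hm := M.mul_mem (M.mul_mem hh hD) (M.inv_mem hh)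
    have key : Sh f x v₁ 1 * (T f v₀ (-(k * k)) * T f y 1) * (Sh f x v₁ 1)⁻¹ =
        T f v₀ (-(k * k)) * T f y 1 * T f x (2 * (α * k)) := by
      rw [show Sh f x v₁ 1 * (T f v₀ (-(k * k)) * T f y 1) * (Sh f x v₁ 1)⁻¹ =
        (Sh f x v₁ 1 * T f v₀ (-(k * k)) * (Sh f x v₁ 1)⁻¹) *
          (Sh f x v₁ 1 * T f y 1 * (Sh f x v₁ 1)⁻¹) by group,
        conj_T hs h2 hI, conj_T hs h2 hI, hyv]
      refine ext_mulVec fun u => ?_
      simp only [Units.val_mul, ← mulVec_mulVec, T_apply hs h2, Sh_apply hs h2 hxv₁,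
        hs.sesq.add_left, hs.sesq.add_right, hs.sesq.smul_left, hs.sesq.smul_right,
        RingEquiv.refl_apply, self hs h2, hxv₀, hs.orth_symm hxv₀, hxv₁, hv01]
      module
    rw [key] at hm
    exact (Subgroup.mul_mem_cancel_left M hD).1 hm
  refine ⟨k, (α / k) • x + v₀, Submodule.add_mem _ (smul_mem_ratVecs ?_ hx) hv₀, ?_, hk⟩
  · have h1 := F₀.div_mem hαk hk
    rwa [mul_div_mul_right _ _ hk0] at h1
  · rw [smul_add, smul_smul, mul_div_cancel₀ _ hk0, ← hyv]

/-- A conjugate centre is orthogonal to a rational vector. -/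
theorem exists_orth (hM : Over F₀ f M) (hn : Fintype.card ι = 4)
    (hA : ∀ c ∈ coeffs F₀ f M, c ∈ F₀) {r : ℕ} (hr : r.Prime)
    (hcard : Fintype.card F = Nat.card F₀ ^ r) {y : ι → F} (hty : T f y 1 ∈ M) :
    ∃ x ∈ ratVecs ι F₀, x ≠ 0 ∧ f x y = 0 := by
  classical
  by_contra hno
  push Not at hno
  by_cases hr2 : r = 2
  · subst hr2
    haveI : Module.Finite F₀ (ι → F) := Module.Finite.of_finite
    haveI : Module.Finite F₀ (ratVecs ι F₀) := Module.Finite.of_finite
    haveI : Fintype F₀ := Fintype.ofFinite _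
    have hfin : Module.finrank F₀ F = 2 := by
      have h1 := Module.card_eq_pow_finrank (K := F₀) (V := F)
      rw [hcard, Nat.card_eq_fintype_card] at h1
      exact (Nat.pow_right_injective Fintype.one_lt_card h1).symm
    let L : ratVecs ι F₀ →ₗ[F₀] F :=
      { toFun := fun x => f x.1 y
        map_add' := fun x z => hs.sesq.add_left _ _ _
        map_smul' := fun c x => hs.sesq.smul_left _ _ _ }
    have h1 := L.finrank_range_add_finrank_ker
    have h3 := Submodule.finrank_le L.range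
    rw [hfin] at h3
    rw [finrank_ratVecs, hn] at h1
    obtain ⟨x, hx, hx0⟩ := Submodule.exists_mem_ne_zero_of_ne_bot
      (p := L.ker) (fun hb => by rw [hb, finrank_bot] at h1; omega)
    exact hno _ x.2 (fun hh => hx0 (Subtype.ext hh)) (LinearMap.mem_ker.1 hx)
  have hN : ∀ x ∈ ratVecs ι F₀, f x y * f x y ∈ F₀ := by
    intro x hx
    by_cases hx0 : x = 0
    · rw [hx0, hs.sesq.zero_left, zero_mul]; exact F₀.zero_mem
    by_contra hnot
    have hlam : leftVec f x ⬝ᵥ ((1 : F) • y) * (leftVec f y ⬝ᵥ ((1 : F) • x)) =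
        -(f x y * f x y) := by
      rw [one_smul, one_smul, hs.sesq.dot_leftVec, hs.sesq.dot_leftVec, swap hs x y]
      ring
    have h1 := exists_tv_irrational hr hr2 hcard h2
      (v₁ := (1 : F) • x) (φ₁ := leftVec f x) (v₂ := (1 : F) • y) (φ₂ := leftVec f y)
      (hs.T_dot (self hs h2 x) 1) (hs.T_dot (self hs h2 y) 1)
      (by rw [hlam]; exact fun h' => hnot (neg_neg (f x y * f x y) ▸ F₀.neg_mem h'))
      (T_mem hs h2 hM hx F₀.one_mem) hty
    rw [hlam, smul_smul, mul_one] at h1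
    have h3 := F₀.inv_mem (hA _ (mem_coeffs hs h2 hM hx hx0 h1))
    rw [inv_inv] at h3
    exact hnot (neg_neg (f x y * f x y) ▸ F₀.neg_mem h3)
  obtain ⟨i⟩ : Nonempty ι := Fintype.card_pos_iff.1 (by omega)
  obtain ⟨e', a, a', h⟩ := exists_frame hs h2 hn (single_mem_ratVecs F₀ i) (by simp)
  set e : ι → F := Pi.single i 1
  have hv0 : f e y ≠ 0 := hno e h.re (by simp [e])
  have hX : f a y * f e y ∈ F₀ := by
    have h1 := F₀.mul_mem (F₀.inv_mem (ofNat_mem F₀ 2))
      (F₀.sub_mem (F₀.sub_mem (hN _ (Submodule.add_mem _ h.ra h.re)) (hN a h.ra)) (hN e h.re))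
    convert h1 using 1
    rw [hs.sesq.add_left]
    field_simp
    ring
  have hk : f a y / f e y ∈ F₀ := by
    have h1 := F₀.div_mem hX (hN e h.re)
    rwa [mul_div_mul_right _ _ hv0] at h1
  refine hno (a - (f a y / f e y) • e) (Submodule.sub_mem _ h.ra (smul_mem_ratVecs hk h.re))
    (fun hh => ?_) ?_
  · have h1 := congrArg (fun u => f u a') hh
    simp [hs.sesq.sub_left, hs.sesq.smul_left, hs.sesq.zero_left, h.aa', h.ea'] at h1
  · rw [hs.sesq.sub_left, hs.sesq.smul_left, div_mul_cancel₀ _ hv0, sub_self]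

/-- The dichotomy. -/
theorem le_or_forall_T (hn : Fintype.card ι = 4) {r : ℕ} (hr : r.Prime)
    (hcard : Fintype.card F = Nat.card F₀ ^ r) (hM : Over F₀ f M) :
    M ≤ subfieldSubgroup F₀ (1 : GL ι F) ∨ ∀ z c, T f z c ∈ M := by
  by_cases hA : ∀ c ∈ coeffs F₀ f M, c ∈ F₀
  swap
  · push Not at hA
    obtain ⟨c, hc, hc'⟩ := hA
    exact Or.inr (forall_T hs h2 hM hn (coeffs_univ hs h2 hM hn hr hcard hc hc'))
  refine Or.inl fun g hg => ?_
  have key : ∀ z ∈ ratVecs ι F₀, z ≠ 0 →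
      ∃ k : F, ∃ v ∈ ratVecs ι F₀, (g : Matrix ι ι F) *ᵥ z = k • v ∧ k ≠ 0 ∧ v ≠ 0 := by
    intro z hz hz0
    have hy : T f ((g : Matrix ι ι F) *ᵥ z) 1 ∈ M := by
      rw [← conj_T hs h2 (hM.iso g hg)]
      exact M.mul_mem (M.mul_mem hg (T_mem hs h2 hM hz F₀.one_mem)) (M.inv_mem hg)
    obtain ⟨x, hx, hx0, hxy⟩ := exists_orth hs h2 hM hn hA hr hcard hy
    obtain ⟨k, v, hv, hkv, -⟩ := rigid hs h2 hM hn hA hy hx hx0 hxy
    exact ⟨k, v, hv, hkv, fun hk => mulVec_ne_zero g hz0 (by rw [hkv, hk, zero_smul]),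
      fun hv0 => mulVec_ne_zero g hz0 (by rw [hkv, hv0, smul_zero])⟩
  obtain ⟨i₀⟩ : Nonempty ι := Fintype.card_pos_iff.1 (by omega)
  obtain ⟨k₀, v₀, hv₀, hg₀, hk₀, hv₀0⟩ := key _ (single_mem_ratVecs F₀ i₀) (by simp)
  have hcol : ∀ i, k₀⁻¹ • (g : Matrix ι ι F) *ᵥ Pi.single i 1 ∈ ratVecs ι F₀ := by
    intro i
    rcases eq_or_ne i i₀ with rfl | hi
    · rwa [hg₀, inv_smul_smul₀ hk₀]
    obtain ⟨k, v, hv, hgi, hk, -⟩ := key _ (single_mem_ratVecs F₀ i) (by simp)
    obtain ⟨l, u, hu, hgu, hl, -⟩ := key _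
      (Submodule.add_mem _ (single_mem_ratVecs F₀ i) (single_mem_ratVecs F₀ i₀)) (fun hh => by
        have := congrFun hh i
        simp [hi] at this)
    rw [mulVec_add, hgi, hg₀] at hgu
    obtain ⟨j, hj⟩ := Function.ne_iff.1 hv₀0
    rw [Pi.zero_apply] at hj
    set μ := v j / v₀ j
    have hμ : μ ∈ F₀ := F₀.div_mem (hv j) (hv₀ j)
    have hne : v - μ • v₀ ≠ 0 := fun hh => by
      have e0 : k₀ • (Pi.single i (1 : F) : ι → F) - (k * μ) • Pi.single i₀ 1 ≠ 0 := fun h' => by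
        have := congrFun h' i
        simp [hi, hk₀] at this
      apply mulVec_ne_zero g e0
      rw [mulVec_sub, mulVec_smul, mulVec_smul, hgi, hg₀, sub_eq_zero.1 hh]
      module
    obtain ⟨p, hp⟩ := Function.ne_iff.1 hne
    simp only [Pi.sub_apply, Pi.smul_apply, smul_eq_mul, Pi.zero_apply] at hp
    have ej : k * v j + k₀ * v₀ j = l * u j := congrFun hgu j
    have ep : k * v p + k₀ * v₀ p = l * u p := congrFun hgu p
    have hμj : μ * v₀ j = v j := div_mul_cancel₀ _ hj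
    -- the two ratios are rational
    have hA' : k / l ∈ F₀ := by
      have e1 : k / l = (u p - u j / v₀ j * v₀ p) / (v p - μ * v₀ p) := by
        rw [eq_div_iff hp]
        field_simp
        linear_combination (v₀ j) * ep - (v₀ p) * ej - (k * v₀ p) * hμj
      rw [e1]
      exact F₀.div_mem (F₀.sub_mem (hu p) (F₀.mul_mem (F₀.div_mem (hu j) (hv₀ j)) (hv₀ p)))
        (F₀.sub_mem (hv p) (F₀.mul_mem hμ (hv₀ p)))
    have hB : k₀ / l ∈ F₀ := by
      have e1 : k₀ / l = (u j - k / l * v j) / v₀ j := by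
        rw [eq_div_iff hj]
        field_simp
        linear_combination ej
      rw [e1]
      exact F₀.div_mem (F₀.sub_mem (hu j) (F₀.mul_mem hA' (hv j))) (hv₀ j)
    rw [hgi, smul_smul]
    refine smul_mem_ratVecs ?_ hv
    have h1 := F₀.div_mem hA' hB
    rwa [div_div_div_cancel_right₀ hl, div_eq_inv_mul] at h1
  refine mem_subfieldSubgroup_one_iff.2 ⟨k₀⁻¹, inv_ne_zero hk₀, fun i j => ?_⟩
  have := hcol j i
  rwa [mulVec_single_one] at this

end CfsgLib.SpFourOdd.Subfield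

namespace CfsgLib.SpFourOdd

open Matrix Cfsg.Geo CfsgLib.MaxSub CfsgLib.FormSubfield

variable {F : Type*} [Field F] [Fintype F]

/-- Subfield groups are maximal in `Sp₄`, odd characteristic. -/
theorem isMaximalIn_spSubfield (hodd : Odd (Fintype.card F)) (F₀ : Subfield F) (r : ℕ)
    (P : GL (Fin 2 ⊕ Fin 2) F) (ζ : F) (hr : r.Prime) (hcard : Fintype.card F = Nat.card F₀ ^ r)
    (hζ : ζ ≠ 0) (hP : IsFormRationalStructure (Cfsg.sympForm 2 F) F₀ ζ P) :
    IsMaximalIn (Cfsg.spGL 2 F) (subfieldSubgroup F₀ P ⊓ Cfsg.spGL 2 F) := by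
  have h2 : (2 : F) ≠ 0 := Ring.two_ne_zero fun h => Nat.not_even_iff_odd.2 hodd
    (Nat.even_iff.2 (FiniteField.even_card_iff_char_two.1 h))
  set f' := pullForm (Cfsg.sympForm 2 F) ζ P with hf'
  have hzero : ∀ u, f' u u = 0 := fun u => by rw [hf', pullForm, Forms.sympForm_self, mul_zero]
  have hs : Setting F₀ (RingEquiv.refl F) (-1 : F) 1 f' := by
    refine
      { sesq := sesq_pullForm sesq_sympForm hζ P, eps := by ring, sigma_sigma := fun a => rfl,
        sigma_eps := rfl, herm := fun u v => ?_, rat := pullForm_mem hP,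
        sigma_mem := fun x hx => hx, c₀_ne := one_ne_zero, c₀_trace := by simp,
        exists_iso := fun U _ h3 => ?_, exists_iso₂ := fun _ U _ h3 => ?_,
        shift := fun v _ e _ _ _ => ⟨0, F₀.zero_mem, hzero _⟩,
        trace_gen := fun c _ => sq_closure c }
    · show ζ * _ = -1 * (ζ * _)
      rw [Forms.sympForm_swap]
      ring
    all_goals
      have hne : U ≠ ⊥ := fun h => by rw [h, finrank_bot] at h3; omega
      obtain ⟨z, hz, hz0⟩ := Submodule.exists_mem_ne_zero_of_ne_bot hne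
      exact ⟨z, hz, hz0, hzero z⟩
  have hn : Fintype.card (Fin 2 ⊕ Fin 2) = 4 := rfl
  have hK : ∀ x, x ∈ subfieldSubgroup F₀ P ↔
      P⁻¹ * x * P ∈ subfieldSubgroup F₀ (1 : GL (Fin 2 ⊕ Fin 2) F) := by
    intro x
    simp only [subfieldSubgroup, map_one, Subgroup.mem_map]
    constructor
    · rintro ⟨y, hy, rfl⟩
      exact ⟨y, hy, by simp [mul_assoc]⟩
    · rintro ⟨y, hy, e⟩
      exact ⟨y, hy, by
        have e' : y = P⁻¹ * x * P := by simpa using e
        subst e'
        simp [mul_assoc]⟩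
  have hiso : ∀ x, Iso f' x ↔ P * x * P⁻¹ ∈ Cfsg.spGL 2 F := by
    intro x
    constructor
    · intro h
      rw [mem_spGL_iff]
      intro u v
      have := h (((P⁻¹ : GL _ F) : Matrix _ _ F) *ᵥ u) (((P⁻¹ : GL _ F) : Matrix _ _ F) *ᵥ v)
      simp only [hf', pullForm, mulVec_inv_mulVec] at this
      have := mul_left_cancel₀ hζ this
      simpa only [Units.val_mul, ← mulVec_mulVec] using this
    · intro h u v
      rw [mem_spGL_iff] at h
      have := h ((P : Matrix _ _ F) *ᵥ u) ((P : Matrix _ _ F) *ᵥ v)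
      simp only [Units.val_mul, ← mulVec_mulVec] at this
      simp only [mulVec_mulVec _ (P⁻¹ : GL _ F).val, Units.inv_mul, one_mulVec] at this
      rw [hf', pullForm, pullForm, this]
  refine isMaximalIn_of inf_le_right ?_ fun M hHM hMK g hg hg' => ?_
  · obtain ⟨δ, hδ⟩ := exists_notMem hr hcard
    have he := single_mem_ratVecs F₀ (Sum.inl 0 : Fin 2 ⊕ Fin 2)
    have he0 : (Pi.single (Sum.inl 0) 1 : Fin 2 ⊕ Fin 2 → F) ≠ 0 := by simp
    obtain ⟨p, hp, -, hpe⟩ := hs.exists_partner he he0 (hzero _)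
    set e : Fin 2 ⊕ Fin 2 → F := Pi.single (Sum.inl 0) 1
    have hI : Iso f' (T f' e δ) := hs.T_iso (hzero e) (by rw [RingEquiv.refl_apply]; ring)
    refine ⟨P * T f' e δ * P⁻¹, (hiso _).1 hI, fun hmem => hδ ?_⟩
    have h1 := (hK _).1 hmem.1
    rw [show P⁻¹ * (P * T f' e δ * P⁻¹) * P = T f' e δ by group] at h1
    obtain ⟨k, hk, hkt⟩ := mem_subfieldSubgroup_one_iff.1 h1
    have hk' : k ∈ F₀ := by
      have h3 := mulVec_mem_ratVecs hkt he (Sum.inl 0)
      rw [smul_mulVec, hs.T_mulVec (hzero e), hzero] at h3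
      simpa [e] using h3
    have h3 := mulVec_mem_ratVecs hkt hp
    rw [smul_mulVec, hs.T_mulVec (hzero e), hpe, mul_one] at h3
    have h4 := Submodule.sub_mem _ (smul_mem_ratVecs (F₀.inv_mem hk') h3) hp
    rw [inv_smul_smul₀ hk, add_sub_cancel_left] at h4
    simpa [e] using h4 (Sum.inl 0)
  · let M' : Subgroup (GL (Fin 2 ⊕ Fin 2) F) := M.comap (MulAut.conj P).toMonoidHom
    have hmem : ∀ x, x ∈ M' ↔ P * x * P⁻¹ ∈ M := fun x => Iff.rfl
    have hb : Subfield.Over F₀ f' M' := by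
      refine ⟨fun x hxI hxR => (hmem x).2 (hHM ⟨(hK _).2 ?_, (hiso x).1 hxI⟩),
        fun x hx => (hiso x).2 (hMK ((hmem x).1 hx))⟩
      rw [show P⁻¹ * (P * x * P⁻¹) * P = x by group]
      exact mem_subfieldSubgroup_one_of_rat hxR
    rcases Subfield.le_or_forall_T hs h2 hn hr hcard hb with h | h
    · refine absurd ⟨(hK g).2 (h ((hmem _).2 ?_)), hMK hg⟩ hg'
      rwa [show P * (P⁻¹ * g * P) * P⁻¹ = g by group]
    · refine spGL_le_of_forall_spTv fun v c => ?_
      set z := ((P⁻¹ : GL (Fin 2 ⊕ Fin 2) F) : Matrix (Fin 2 ⊕ Fin 2) (Fin 2 ⊕ Fin 2) F) *ᵥ v with hz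
      have h1 := (hmem _).1 (h z (c / ζ))
      have e1 : P * T f' z (c / ζ) * P⁻¹ = spTv v c := by
        refine ext_mulVec fun x => ?_
        rw [spTv_mulVec, Units.val_mul, Units.val_mul, ← mulVec_mulVec, ← mulVec_mulVec,
          hs.T_mulVec (hzero z), mulVec_add, mulVec_smul, mulVec_inv_mulVec, hf', pullForm, hz,
          mulVec_inv_mulVec, mulVec_inv_mulVec]
        congr 2
        field_simp
      rwa [e1] at h1

end CfsgLib.SpFourOdd
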