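import Cfsg.Agent.SpFourOdd.Klein
import Cfsg.Agent.ExtField.Bridge
import Cfsg.Agent.OrthMax.InvariantSubspace
import Cfsg.Agent.OrthMax.TotallySingular

/-!
# Quadratic field subalgebras of `M₄(F)` seen in `Ω₅`, `q` odd

`exists_line`: a self-adjoint field gives a line of nonsquare value.
`exists_plane`: an adjoint-closed field that is not self-adjoint gives an anisotropic plane.
-/

set_option autoImplicit false
set_option linter.unusedSectionVars false

namespace CfsgLib.SpFourOdd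

open Matrix Module Cfsg.Geo CfsgLib.MaxSub CfsgLib.StdForms CfsgLib.Forms4

variable {F : Type*} [Field F] [Fintype F]

local notation "ι₄" => (Fin 2 ⊕ Fin 2)
local notation "ι₅" => (Unit ⊕ (Fin 2 ⊕ Fin 2))
local notation "V" => (Fin 2 ⊕ Fin 2 → F)
local notation "W₅" => (Unit ⊕ (Fin 2 ⊕ Fin 2) → F)
local notation "ω" => Cfsg.sympForm 2 F
local notation "Mat" => Matrix (Fin 2 ⊕ Fin 2) (Fin 2 ⊕ Fin 2) F
local notation "G" => GL (Fin 2 ⊕ Fin 2) F
local notation "Q₅" => StdForms.oddQ 2 F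

/-- Conjugation in the matrix algebra. -/
def conjM (g : GL (Fin 2 ⊕ Fin 2) F) : Matrix (Fin 2 ⊕ Fin 2) (Fin 2 ⊕ Fin 2) F →ₗ[F] Matrix (Fin 2 ⊕ Fin 2) (Fin 2 ⊕ Fin 2) F :=
  (LinearMap.mulRight F ((g⁻¹ : G) : Mat)).comp (LinearMap.mulLeft F (g : Mat))

theorem conjM_apply (g : G) (X : Mat) : conjM g X = (g : Mat) * X * ((g⁻¹ : G) : Mat) := rfl

theorem conjM_one (g : G) : conjM g (1 : Mat) = 1 := by rw [conjM_apply, mul_one, Units.mul_inv]

theorem conjM_mul (g : G) (X Y : Mat) : conjM g (X * Y) = conjM g X * conjM g Y := by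
  simp only [conjM_apply, mul_assoc]
  rw [← mul_assoc ((g⁻¹ : G) : Mat) (g : Mat), Units.inv_mul, one_mul]

/-- A quadratic field contains a square root of a nonsquare, generating it. -/
theorem exists_root (h2 : (2 : F) ≠ 0) {K : Subalgebra F Mat} (hK : IsFieldSubalgebra 2 K) :
    ∃ (A : Mat) (d : F), A ∈ K ∧ (∀ r : F, A ≠ r • 1) ∧ ¬ IsSquare d ∧ A * A = d • 1 ∧
      ∀ k ∈ K, ∃ p q : F, k = p • (1 : Mat) + q • A := by
  obtain ⟨κ, hκ, hirr⟩ : ∃ κ ∈ K, ∀ r : F, κ ≠ r • 1 := by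
    by_contra hcon
    push Not at hcon
    have hle : Subalgebra.toSubmodule K ≤ Submodule.span F ({1} : Set Mat) := fun k hk => by
      obtain ⟨r, hr⟩ := hcon k hk
      exact Submodule.mem_span_singleton.2 ⟨r, hr.symm⟩
    have h1 := Submodule.finrank_mono hle
    have h3 : finrank F (Submodule.span F ({1} : Set Mat)) = 1 := finrank_span_singleton one_ne_zero
    have h4 : finrank F (Subalgebra.toSubmodule K) = 2 := hK.finrank_eq
    omega
  have hgen : ∀ k ∈ K, ∃ p q : F, k = p • (1 : Mat) + q • κ := by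
    intro k hk
    have hli : LinearIndependent F ![(1 : Mat), κ] := by
      refine linearIndependent_fin2.2 ⟨fun e => hirr 0 (by simpa using e), fun r e => ?_⟩
      simp at e
      rcases eq_or_ne r 0 with rfl | hr
      · simp at e
      · exact hirr r⁻¹ (by rw [← e, inv_smul_smul₀ hr])
    have hle : Submodule.span F (Set.range ![(1 : Mat), κ]) ≤ Subalgebra.toSubmodule K := by
      rw [Submodule.span_le]
      rintro _ ⟨i, rfl⟩
      fin_cases i
      · exact K.one_mem
      · exact hκ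
    have heq := Submodule.eq_of_le_of_finrank_le hle (by
      rw [finrank_span_eq_card hli]
      exact le_of_eq hK.finrank_eq)
    obtain ⟨c, hc⟩ := (Submodule.mem_span_range_iff_exists_fun F).1 (heq.symm ▸ hk :
      k ∈ Submodule.span F (Set.range ![(1 : Mat), κ]))
    exact ⟨c 0, c 1, by simpa [Fin.sum_univ_two] using hc.symm⟩
  obtain ⟨ν, τ, hrel⟩ := hgen _ (K.mul_mem hκ hκ)
  have hA : κ - (τ / 2) • (1 : Mat) ∈ K := K.sub_mem hκ (K.smul_mem K.one_mem _)
  have hns : ∀ r : F, κ - (τ / 2) • (1 : Mat) ≠ r • 1 := fun r h =>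
    hirr (r + τ / 2) (by rw [add_smul, ← h, sub_add_cancel])
  have hsq : (κ - (τ / 2) • (1 : Mat)) * (κ - (τ / 2) • (1 : Mat)) = (ν + τ / 2 * (τ / 2)) • 1 := by
    simp only [sub_mul, mul_sub, Matrix.smul_mul, Matrix.mul_smul, one_mul, mul_one, hrel]
    match_scalars <;> field_simp <;> ring
  refine ⟨_, _, hA, hns, ?_, hsq, ?_⟩
  · rintro ⟨r, hr⟩
    obtain ⟨w, hw, e⟩ := hK.inv _ (K.sub_mem hA (K.smul_mem K.one_mem r))
      (fun h => hns r (sub_eq_zero.1 h))
    refine hns (-r) ?_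
    rw [neg_smul, eq_neg_iff_add_eq_zero]
    generalize κ - (τ / 2) • (1 : Mat) = A at hsq hns e ⊢
    have h : (A + r • 1) * (A - r • 1) = 0 := by
      rw [add_mul, mul_sub, mul_sub, hsq, hr]
      simp only [Matrix.smul_mul, Matrix.mul_smul, one_mul, mul_one]
      module
    calc _ = (A + r • (1 : Mat)) * ((A - r • 1) * w) := by rw [e, mul_one]
      _ = 0 := by rw [← mul_assoc, h, zero_mul]
  · intro k hk
    obtain ⟨p, q, rfl⟩ := hgen k hk
    exact ⟨p + q * (τ / 2), q, by module⟩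

variable {K : Subalgebra F (Matrix (Fin 2 ⊕ Fin 2) (Fin 2 ⊕ Fin 2) F)}
  {A : Matrix (Fin 2 ⊕ Fin 2) (Fin 2 ⊕ Fin 2) F} {d : F}

/-- The roots of `d` in the field. -/
theorem eq_or_eq_neg (h2 : (2 : F) ≠ 0) (hns : ∀ r : F, A ≠ r • 1) (hd : ¬ IsSquare d) (hsq : A * A = d • 1)
    {p q : F} (h : (p • (1 : Mat) + q • A) * (p • (1 : Mat) + q • A) = d • 1) :
    p = 0 ∧ (q = 1 ∨ q = -1) := by
  have e : (2 * p * q) • A = (d - p * p - q * q * d) • (1 : Mat) := by
    simp only [add_mul, mul_add, Matrix.smul_mul, Matrix.mul_smul, one_mul, mul_one, hsq] at h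
    rw [sub_smul, sub_smul, ← h]
    module
  have h0 : 2 * p * q = 0 := by
    by_contra h0
    exact hns ((2 * p * q)⁻¹ * (d - p * p - q * q * d)) (by rw [← smul_smul, ← e, inv_smul_smul₀ h0])
  rw [h0, zero_smul] at e
  have e' : (0 : F) = d - p * p - q * q * d := smul_one_inj ((zero_smul _ _).trans e)
  rcases mul_eq_zero.1 h0 with h0 | h0'
  · obtain rfl : p = 0 := (mul_eq_zero.1 h0).resolve_left h2
    refine ⟨rfl, mul_self_eq_one_iff.1 (mul_right_cancel₀ (fun hd0 : d = 0 => hd (hd0 ▸ IsSquare.zero)) ?_)⟩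
    linear_combination e'
  · subst h0'
    exact absurd ⟨p, by linear_combination -e'⟩ hd

/-- Normalising the field is fixing the root up to sign. -/
theorem mem_normalizer_iff (h2 : (2 : F) ≠ 0) (hA : A ∈ K) (hns : ∀ r : F, A ≠ r • 1) (hd : ¬ IsSquare d)
    (hsq : A * A = d • 1) (hgen : ∀ k ∈ K, ∃ p q : F, k = p • (1 : Mat) + q • A) (g : G) :
    g ∈ subalgebraNormalizer K ↔ conjM g A = A ∨ conjM g A = -A := by
  constructor
  · intro hg
    have hm : conjM g A ∈ K := (hg A).1 hA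
    obtain ⟨p, q, hpq⟩ := hgen _ hm
    have h := congrArg (conjM g) hsq
    rw [conjM_mul, map_smul, conjM_one, hpq] at h
    obtain ⟨rfl, hq | hq⟩ := eq_or_eq_neg h2 hns hd hsq h
    · exact Or.inl (by rw [hpq, hq]; simp)
    · exact Or.inr (by rw [hpq, hq]; simp)
  · intro hg
    refine ExtField.mem_normalizer_of_conj_mem fun k hk => ?_
    obtain ⟨p, q, rfl⟩ := hgen k hk
    rw [← conjM_apply, map_add, map_smul, map_smul, conjM_one]
    refine K.add_mem (K.smul_mem K.one_mem p) (K.smul_mem ?_ q)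
    rcases hg with hg | hg <;> rw [hg]
    · exact hA
    · exact K.neg_mem hA

theorem E_anticomm {u v : W₅} (h : QuadraticMap.polar (⇑Q₅) u v = 0) : E F u * E F v = -(E F v * E F u) := by
  have := E_polar u v
  rw [h, zero_smul] at this
  exact eq_neg_of_add_eq_zero_left this

variable {φ : ↥(Cfsg.spGL 2 F) →* ↥(Cfsg.isometryGroup F (Cfsg.quadFormOdd 2 F))}

/-- A self-adjoint quadratic field is a line of nonsquare value. -/
theorem exists_line (h2 : (2 : F) ≠ 0) (hK : IsFieldSubalgebra 2 K) (hsa : IsSelfAdjointFor (Cfsg.sympForm 2 F) K)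
    (hφ : ∀ (g : ↥(Cfsg.spGL 2 F)) u, E F (((φ g).1 : Matrix ι₅ ι₅ F) *ᵥ u) =
      ((g : G) : Mat) * E F u * (((g : G)⁻¹ : G) : Mat)) :
    ∃ a : W₅, ¬ IsSquare (Q₅ a) ∧ ∀ g : ↥(Cfsg.spGL 2 F), (g : G) ∈ subalgebraNormalizer K ↔
      ((φ g).1 : GL ι₅ F) ∈ subspaceStabilizer (Submodule.span F {a}) := by
  obtain ⟨A, d, hA, hns, hd, hsq, hgen⟩ := exists_root h2 hK
  obtain ⟨a, rfl, rfl⟩ := exists_eq_E h2 (hsa A hA) hns hsq
  refine ⟨a, hd, fun g => ?_⟩
  rw [mem_normalizer_iff h2 hA hns hd hsq hgen, conjM_apply, ← hφ g a, ← map_neg (E F) a, E_injective.eq_iff,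
    E_injective.eq_iff]
  constructor
  · intro h
    refine MaxSub.mem_subspaceStabilizer_of_le fun x hx => ?_
    obtain ⟨c, rfl⟩ := Submodule.mem_span_singleton.1 hx
    rw [mulVec_smul]
    refine Submodule.smul_mem _ c ?_
    rcases h with h | h <;> rw [h]
    · exact Submodule.mem_span_singleton_self a
    · exact Submodule.neg_mem _ (Submodule.mem_span_singleton_self a)
  · intro h
    obtain ⟨c, hc⟩ := Submodule.mem_span_singleton.1 ((mem_subspaceStabilizer_iff.1 h a).1 (Submodule.mem_span_singleton_self a))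
    have hQ : Cfsg.quadFormOdd 2 F (((φ g).1 : Matrix ι₅ ι₅ F) *ᵥ a) = Cfsg.quadFormOdd 2 F a := (φ g).2 a a
    rw [← hc, ← coe_oddQ, QuadraticMap.map_smul, smul_eq_mul] at hQ
    have : c * c = 1 := mul_right_cancel₀ (fun h0 => hd (by rw [h0]; exact IsSquare.zero)) (hQ.trans (one_mul _).symm)
    rcases mul_self_eq_one_iff.1 this with rfl | rfl
    · exact Or.inl (hc.symm.trans (one_smul F a))
    · exact Or.inr (hc.symm.trans (neg_one_smul F a))

/-! ### Products along orthogonal bases -/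

/-- An orthogonal basis of a nondegenerate subspace. -/
theorem exists_orth (h2 : (2 : F) ≠ 0) {U : Submodule F W₅} (hU : OrthMax.Nd Q₅ U) :
    ∃ b : Basis (Fin (finrank F U)) F U, (∀ i, Q₅ (b i : W₅) ≠ 0) ∧
      ∀ i j, i ≠ j → QuadraticMap.polar (⇑Q₅) (b i : W₅) (b j : W₅) = 0 := by
  letI := invertibleOfNonzero h2
  let B : LinearMap.BilinForm F U := (QuadraticMap.polarBilin Q₅).compl₁₂ U.subtype U.subtype
  obtain ⟨b, hb⟩ := LinearMap.BilinForm.exists_orthogonal_basis (K := F) (B := B)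
    ⟨fun x y => QuadraticMap.polar_comm _ _ _⟩
  have ho : ∀ i j, i ≠ j → QuadraticMap.polar (⇑Q₅) (b i : W₅) (b j : W₅) = 0 := fun i j h => hb h
  refine ⟨b, fun i hi => b.ne_zero i (Subtype.ext (hU _ (b i).2 fun x hx => ?_)), ho⟩
  have hlin : ((QuadraticMap.polarBilin Q₅).flip (b i : W₅)).comp U.subtype = 0 := b.ext fun j => by
    rcases eq_or_ne j i with rfl | hj
    · show QuadraticMap.polar (⇑Q₅) (b j : W₅) (b j : W₅) = 0
      rw [QuadraticMap.polar_self, hi, smul_zero]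
    · exact ho j i hj
  exact LinearMap.congr_fun hlin ⟨x, hx⟩

theorem comm_prod {B : Mat} : ∀ {n : ℕ} (M : Fin n → Mat) (σ : Fin n → F),
    (∀ i, B * M i = σ i • (M i * B)) → B * (List.ofFn M).prod = (∏ i, σ i) • ((List.ofFn M).prod * B)
  | 0, M, σ, _ => by simp
  | n + 1, M, σ, h => by
    rw [List.ofFn_succ, List.prod_cons, Fin.prod_univ_succ, ← mul_assoc, h 0, Matrix.smul_mul, mul_assoc (M 0),
      comm_prod _ (fun i => σ i.succ) (fun i => h i.succ), Matrix.mul_smul, smul_smul, mul_assoc]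

theorem E_isUnit {u : W₅} (h : Q₅ u ≠ 0) : IsUnit (E F u) :=
  IsUnit.of_mul_eq_one ((Q₅ u)⁻¹ • E F u) (by rw [Matrix.mul_smul, E_sq, inv_smul_smul₀ h])

/-- Commutation propagates from a basis of a subspace. -/
theorem sign_of_basis {U : Submodule F W₅} {n : ℕ} (b : Basis (Fin n) F U) {B : Mat} (s : F)
    (h : ∀ i, B * E F (b i : W₅) = s • (E F (b i : W₅) * B)) {u : W₅} (hu : u ∈ U) :
    B * E F u = s • (E F u * B) :=
  LinearMap.congr_fun (b.ext (f₁ := (LinearMap.mulLeft F B).comp ((E F).comp U.subtype))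
    (f₂ := s • (LinearMap.mulRight F B).comp ((E F).comp U.subtype)) h) ⟨u, hu⟩

section Skew

variable (A)

/-- The operators anticommuting with `A`. -/
def antiS : Submodule F (Unit ⊕ (Fin 2 ⊕ Fin 2) → F) :=
  LinearMap.ker ((LinearMap.mulLeft F A + LinearMap.mulRight F A).comp (E F))

/-- The operators commuting with `A`. -/
def commS : Submodule F (Unit ⊕ (Fin 2 ⊕ Fin 2) → F) :=
  LinearMap.ker ((LinearMap.mulLeft F A - LinearMap.mulRight F A).comp (E F))

variable {A}

theorem mem_antiS {u : W₅} : u ∈ antiS A ↔ A * E F u = -(E F u * A) := by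
  rw [antiS, LinearMap.mem_ker]
  exact add_eq_zero_iff_eq_neg

theorem mem_commS {u : W₅} : u ∈ commS A ↔ A * E F u = E F u * A := by
  rw [commS, LinearMap.mem_ker]
  exact sub_eq_zero

variable (h2 : (2 : F) ≠ 0) (hd : d ≠ 0) (hsq : A * A = d • 1)
  (hskew : ∀ u v : Fin 2 ⊕ Fin 2 → F, Cfsg.sympForm 2 F (A *ᵥ u) v = - Cfsg.sympForm 2 F u (A *ᵥ v))

include h2 hd hsq in
theorem polar_anti_comm {w u : W₅} (hw : w ∈ antiS A) (hu : u ∈ commS A) : QuadraticMap.polar (⇑Q₅) w u = 0 := by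
  rw [mem_antiS] at hw
  rw [mem_commS] at hu
  set c := QuadraticMap.polar (⇑Q₅) w u
  have h : A * (E F w * E F u + E F u * E F w) = -((E F w * E F u + E F u * E F w) * A) := by
    rw [mul_add, ← mul_assoc, ← mul_assoc, hw, hu, neg_mul, mul_assoc, hu, mul_assoc, hw, add_mul, neg_add,
      mul_neg, mul_assoc, mul_assoc]
  rw [E_polar, Matrix.mul_smul, Matrix.smul_mul, one_mul, mul_one] at h
  have h' : (2 * c * d) • (1 : Mat) = 0 := by
    have := congrArg (A * ·) (eq_neg_iff_add_eq_zero.1 h)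
    simp only [mul_add, Matrix.mul_smul, hsq, mul_zero, smul_smul, ← add_smul] at this
    rw [show 2 * c * d = c * d + c * d by ring, ← this]
    simp only [c, add_mul]
  simpa [h2, hd] using smul_one_inj (h'.trans (zero_smul F _).symm)

include h2 hd hsq hskew in
theorem exists_split (u : W₅) : ∃ w ∈ antiS A, ∃ x ∈ commS A, u = w + x := by
  have hX : SA (d⁻¹ • (A * E F u * A)) := fun x y => by
    simp only [smul_mulVec, ← mulVec_mulVec, sesq_sympForm.smul_left, sesq_sympForm.smul_right, RingEquiv.refl_apply]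
    rw [hskew, sa_E u, hskew, neg_neg]
  have ht : Matrix.trace (d⁻¹ • (A * E F u * A)) = 0 := by
    rw [Matrix.trace_smul, Matrix.trace_mul_comm, ← mul_assoc, hsq, Matrix.smul_mul, one_mul, Matrix.trace_smul,
      trace_E, smul_zero, smul_zero]
  obtain ⟨v, hv⟩ : ∃ v, E F v = d⁻¹ • (A * E F u * A) := ⟨_, E_crd h2 hX ht⟩
  have e1 : A * E F v = E F u * A := by
    rw [hv, Matrix.mul_smul, ← mul_assoc, ← mul_assoc, hsq, Matrix.smul_mul, one_mul, Matrix.smul_mul, inv_smul_smul₀ hd]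
  have e2 : E F v * A = A * E F u := by
    rw [hv, Matrix.smul_mul, mul_assoc, hsq, Matrix.mul_smul, mul_one, inv_smul_smul₀ hd]
  refine ⟨(2 : F)⁻¹ • (u - v), Submodule.smul_mem _ _ (mem_antiS.2 ?_), (2 : F)⁻¹ • (u + v),
    Submodule.smul_mem _ _ (mem_commS.2 ?_), ?_⟩
  · rw [map_sub, mul_sub, sub_mul, e1, e2, neg_sub]
  · rw [map_add, mul_add, add_mul, e1, e2, add_comm]
  · rw [← smul_add, show (u - v) + (u + v) = (2 : F) • u by module, inv_smul_smul₀ h2]

include h2 hd hsq hskew in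
theorem nd_antiS : OrthMax.Nd Q₅ (antiS A) := by
  intro z hz h
  refine (oddQ_nondegenerate h2 2).2 z fun u => ?_
  obtain ⟨w, hw, x, hx, rfl⟩ := exists_split h2 hd hsq hskew u
  show QuadraticMap.polar (⇑Q₅) (w + x) z = 0
  rw [QuadraticMap.polar_add_left, h w hw, QuadraticMap.polar_comm (⇑Q₅) x z, polar_anti_comm h2 hd hsq hz hx, add_zero]

include h2 hd hsq hskew in
theorem nd_commS : OrthMax.Nd Q₅ (commS A) := by
  intro z hz h
  refine (oddQ_nondegenerate h2 2).2 z fun u => ?_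
  obtain ⟨w, hw, x, hx, rfl⟩ := exists_split h2 hd hsq hskew u
  show QuadraticMap.polar (⇑Q₅) (w + x) z = 0
  rw [QuadraticMap.polar_add_left, h x hx, polar_anti_comm h2 hd hsq hw hz, add_zero]

include h2 hd hsq hskew in
theorem finrank_split : finrank F (antiS A) + finrank F (commS A) = 5 := by
  rw [← Submodule.finrank_sup_add_finrank_inf_eq]
  have hsup : antiS A ⊔ commS A = ⊤ := eq_top_iff.2 fun u _ => by
    obtain ⟨w, hw, x, hx, rfl⟩ := exists_split h2 hd hsq hskew u
    exact Submodule.add_mem_sup hw hx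
  have hinf : antiS A ⊓ commS A = ⊥ := (Submodule.eq_bot_iff _).2 fun z hz =>
    (oddQ_nondegenerate h2 2).2 z fun u => by
      obtain ⟨w, hw, x, hx, rfl⟩ := exists_split h2 hd hsq hskew u
      show QuadraticMap.polar (⇑Q₅) (w + x) z = 0
      rw [QuadraticMap.polar_add_left, polar_anti_comm h2 hd hsq hw hz.2,
        QuadraticMap.polar_comm (⇑Q₅) x z, polar_anti_comm h2 hd hsq hz.1 hx, add_zero]
  rw [hsup, hinf, finrank_top, finrank_bot, Module.finrank_pi]
  rfl

include h2 hd hsq hskew in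
theorem eq_scalar_of {B : Mat} (hw : ∀ u ∈ antiS A, B * E F u = E F u * B)
    (hx : ∀ u ∈ commS A, B * E F u = E F u * B) : ∃ c : F, B = c • (1 : Mat) :=
  ⟨_, scalar_of_commute h2 fun u => by
    obtain ⟨w, hw', x, hx', rfl⟩ := exists_split h2 hd hsq hskew u
    rw [map_add, mul_add, add_mul, hw w hw', hx x hx']⟩

include h2 hd hsq hskew in
/-- The plane of a skew square root of a nonsquare. -/
theorem finrank_antiS (hns : ∀ r : F, A ≠ r • 1) : finrank F (antiS A) = 2 := by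
  have h5 := finrank_split h2 hd hsq hskew
  have hA0 : A ≠ 0 := fun h => hns 0 (by rw [h, zero_smul])
  have hanti : ∀ {w x : W₅}, w ∈ antiS A → x ∈ commS A → E F w * E F x = -(E F x * E F w) :=
    fun hw hx => E_anticomm (polar_anti_comm h2 hd hsq hw hx)
  have h0 : finrank F (antiS A) ≠ 0 := fun h => by
    have hbot := Submodule.finrank_eq_zero.1 h
    obtain ⟨c, hc⟩ := eq_scalar_of h2 hd hsq hskew (B := A) (fun u hu => by
      rw [hbot, Submodule.mem_bot] at hu
      rw [hu, map_zero, mul_zero, zero_mul]) (fun u hu => mem_commS.1 hu)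
    exact hns c hc
  set a := finrank F (antiS A)
  set b := finrank F (commS A)
  obtain ⟨bw, hbw, how⟩ : ∃ bw : Basis (Fin a) F (antiS A), (∀ i, Q₅ (bw i : W₅) ≠ 0) ∧
      ∀ i j, i ≠ j → QuadraticMap.polar (⇑Q₅) (bw i : W₅) (bw j : W₅) = 0 := exists_orth h2 (nd_antiS h2 hd hsq hskew)
  obtain ⟨bx, hbx, hox⟩ : ∃ bx : Basis (Fin b) F (commS A), (∀ i, Q₅ (bx i : W₅) ≠ 0) ∧
      ∀ i j, i ≠ j → QuadraticMap.polar (⇑Q₅) (bx i : W₅) (bx j : W₅) = 0 := exists_orth h2 (nd_commS h2 hd hsq hskew)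
  set P₁ := (List.ofFn fun i => E F (bw i : W₅)).prod
  set P₂ := (List.ofFn fun i => E F (bx i : W₅)).prod
  have hself : ∀ {n : ℕ} (i : Fin n), ∏ j, (if j = i then (1 : F) else -1) = (-1) ^ (n - 1) := fun i => by
    rw [← Finset.mul_prod_erase _ _ (Finset.mem_univ i), if_pos rfl, one_mul,
      Finset.prod_congr rfl fun j hj => if_neg (Finset.ne_of_mem_erase hj), Finset.prod_const,
      Finset.card_erase_of_mem (Finset.mem_univ i), Finset.card_univ, Fintype.card_fin]
  have hscalar : ∀ i : Fin a, E F (bw i : W₅) * (P₁ * P₂) = (P₁ * P₂) * E F (bw i : W₅) := fun i => by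
    have e1 := comm_prod (B := E F (bw i : W₅)) (fun j => E F (bw j : W₅)) (fun j => if j = i then 1 else -1)
      fun j => by
        by_cases hj : j = i
        · rw [if_pos hj, one_smul, hj]
        · rw [if_neg hj, neg_one_smul]
          exact E_anticomm (how i j (Ne.symm hj))
    have e2 := comm_prod (B := E F (bw i : W₅)) (fun j => E F (bx j : W₅)) (fun _ => -1) fun j => by
      rw [neg_one_smul, hanti (bw i).2 (bx j).2]
    change _ * P₁ = _ • (P₁ * _) at e1
    change _ * P₂ = _ • (P₂ * _) at e2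
    rw [← mul_assoc, e1, Matrix.smul_mul, mul_assoc P₁, e2, Matrix.mul_smul, smul_smul, hself, Finset.prod_const,
      Finset.card_univ, Fintype.card_fin, ← pow_add, show a - 1 + b = 4 by omega, mul_assoc]
    norm_num
  have hscalar' : ∀ i : Fin b, E F (bx i : W₅) * (P₁ * P₂) = (P₁ * P₂) * E F (bx i : W₅) := fun i => by
    have hi := i.isLt
    have e1 := comm_prod (B := E F (bx i : W₅)) (fun j => E F (bw j : W₅)) (fun _ => -1) fun j => by
      rw [neg_one_smul, hanti (bw j).2 (bx i).2, neg_neg]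
    have e2 := comm_prod (B := E F (bx i : W₅)) (fun j => E F (bx j : W₅)) (fun j => if j = i then 1 else -1)
      fun j => by
        by_cases hj : j = i
        · rw [if_pos hj, one_smul, hj]
        · rw [if_neg hj, neg_one_smul]
          exact E_anticomm (hox i j (Ne.symm hj))
    change _ * P₁ = _ • (P₁ * _) at e1
    change _ * P₂ = _ • (P₂ * _) at e2
    rw [← mul_assoc, e1, Matrix.smul_mul, mul_assoc P₁, e2, Matrix.mul_smul, smul_smul, hself, Finset.prod_const,
      Finset.card_univ, Fintype.card_fin, ← pow_add, show a + (b - 1) = 4 by omega, mul_assoc]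
    norm_num
  obtain ⟨c, hc⟩ := eq_scalar_of h2 hd hsq hskew (B := P₁ * P₂)
    (fun u hu => by simpa using sign_of_basis bw 1 (fun i => by rw [one_smul]; exact (hscalar i).symm) hu)
    (fun u hu => by simpa using sign_of_basis bx 1 (fun i => by rw [one_smul]; exact (hscalar' i).symm) hu)
  have hc0 : c ≠ 0 := fun h => by
    have hu : IsUnit (P₁ * P₂) := (List.prod_isUnit (fun M hM => by
        obtain ⟨i, rfl⟩ := List.mem_ofFn.1 hM; exact E_isUnit (hbw i))).mul
      (List.prod_isUnit (fun M hM => by obtain ⟨i, rfl⟩ := List.mem_ofFn.1 hM; exact E_isUnit (hbx i)))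
    rw [hc, h, zero_smul] at hu
    exact not_isUnit_zero hu
  have eA : A * (P₁ * P₂) = (-1 : F) ^ a • (P₁ * P₂ * A) := by
    rw [← mul_assoc, comm_prod (B := A) _ (fun _ => -1) fun i => by rw [neg_one_smul, mem_antiS.1 (bw i).2],
      Matrix.smul_mul, mul_assoc P₁, comm_prod (B := A) _ (fun _ => 1) fun i => by rw [one_smul, mem_commS.1 (bx i).2]]
    simp [P₁, P₂, mul_assoc]
  rw [hc, Matrix.mul_smul, Matrix.smul_mul, one_mul, mul_one, smul_smul] at eA
  have hev : (-1 : F) ^ a = 1 := by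
    have := sub_eq_zero.2 eA
    rw [← sub_smul, smul_eq_zero] at this
    refine mul_right_cancel₀ hc0 ?_
    linear_combination -(this.resolve_right hA0)
  have hev' : Even a := by
    by_contra hodd
    rw [Nat.not_even_iff_odd] at hodd
    rw [hodd.neg_one_pow] at hev
    exact h2 (by linear_combination -hev)
  have h4 : a ≠ 4 := fun h => by
    have hb : b = 1 := by omega
    set i₀ : Fin b := ⟨0, by omega⟩
    have hone : ∀ i : Fin b, i = i₀ := fun i => Fin.ext (by have := i.isLt; simp [i₀]; omega)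
    obtain ⟨e, he⟩ := eq_scalar_of h2 hd hsq hskew (B := A * E F (bx i₀ : W₅))
      (fun u hu => by
        rw [mul_assoc, ← neg_neg (E F (bx i₀ : W₅) * E F u), ← hanti hu (bx i₀).2, mul_neg, ← mul_assoc,
          mem_antiS.1 hu, neg_mul, neg_neg, mul_assoc])
      (fun u hu => by
        have := sign_of_basis bx 1 (B := A * E F (bx i₀ : W₅)) (fun i => by
          rw [hone i, one_smul, ← mul_assoc (E F (bx i₀ : W₅)), ← mem_commS.1 (bx i₀).2]) hu
        simpa using this)
    have hA' : A = (e / Q₅ (bx i₀ : W₅)) • E F (bx i₀ : W₅) := by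
      have := congrArg (· * E F (bx i₀ : W₅)) he
      simp only [mul_assoc, E_sq, Matrix.mul_smul, mul_one, Matrix.smul_mul, one_mul] at this
      rw [div_eq_inv_mul, ← smul_smul, ← this, inv_smul_smul₀ (hbx i₀)]
    refine hA0 (Matrix.ext_iff_mulVec.2 fun v => ?_)
    rw [zero_mulVec]
    by_contra hv
    obtain ⟨x, hx⟩ := sesq_sympForm.exists_left_ne_zero hv
    refine hx ?_
    have h1 := hskew x v
    rw [hA', smul_mulVec, smul_mulVec, sesq_sympForm.smul_left, sesq_sympForm.smul_right, RingEquiv.refl_apply,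
      sa_E _ x v] at h1
    rw [hA', smul_mulVec, sesq_sympForm.smul_right, RingEquiv.refl_apply]
    exact (mul_eq_zero.1 (by linear_combination h1 :
      (2 : F) * (e / Q₅ (bx i₀ : W₅) * ω x (E F (bx i₀ : W₅) *ᵥ v)) = 0)).resolve_left h2
  have : a ≤ 5 := by omega
  obtain ⟨k, hk⟩ := hev'
  omega

include h2 hd hsq hskew in
/-- A root is determined up to a scalar by its plane. -/
theorem eq_smul_of_signs (hns : ∀ r : F, A ≠ r • 1) :
    ∃ w₁ w₂, w₁ ∈ antiS A ∧ w₂ ∈ antiS A ∧ Q₅ w₁ ≠ 0 ∧ Q₅ w₂ ≠ 0 ∧ QuadraticMap.polar (⇑Q₅) w₁ w₂ = 0 ∧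
      (∀ x ∈ antiS A, ∃ p q : F, x = p • w₁ + q • w₂) ∧
      ∀ B : Mat, (∀ w ∈ antiS A, B * E F w = -(E F w * B)) → (∀ x ∈ commS A, B * E F x = E F x * B) →
        ∃ c : F, B = c • (E F w₂ * E F w₁) := by
  have ha := finrank_antiS h2 hd hsq hskew hns
  obtain ⟨bw, hbw, how⟩ := exists_orth h2 (nd_antiS h2 hd hsq hskew)
  set i₁ : Fin (finrank F (antiS A)) := ⟨0, by omega⟩
  set i₂ : Fin (finrank F (antiS A)) := ⟨1, by omega⟩
  have htwo : ∀ i, i = i₁ ∨ i = i₂ := fun i => by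
    have := i.isLt
    rcases Nat.eq_zero_or_pos i.val with h | h
    · exact Or.inl (Fin.ext h)
    · exact Or.inr (Fin.ext (by simp [i₂]; omega))
  have h12 : i₁ ≠ i₂ := fun h => by simpa [i₁, i₂] using congrArg Fin.val h
  have hac := E_anticomm (how i₁ i₂ h12)
  refine ⟨bw i₁, bw i₂, (bw i₁).2, (bw i₂).2, hbw _, hbw _, how _ _ h12, fun x hx => ?_, fun B hBw hBx => ?_⟩
  · refine ⟨bw.repr ⟨x, hx⟩ i₁, bw.repr ⟨x, hx⟩ i₂, ?_⟩
    have h := congrArg Subtype.val (bw.sum_repr ⟨x, hx⟩)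
    rw [Finset.sum_eq_add i₁ i₂ h12 (fun c _ hc => absurd (htwo c) (by simp [hc.1, hc.2])) (by simp) (by simp)] at h
    simpa using h.symm
  · set u := (bw i₁ : W₅)
    set v := (bw i₂ : W₅)
    have hBu := hBw u (bw i₁).2
    have hBv := hBw v (bw i₂).2
    have hBuv : B * E F u * E F v = E F u * E F v * B := by
      rw [hBu, neg_mul, mul_assoc, hBv, mul_neg, neg_neg, mul_assoc]
    have huB : E F u * B = -(B * E F u) := by rw [hBu, neg_neg]
    have hvB : E F v * B = -(B * E F v) := by rw [hBv, neg_neg]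
    have hvu : E F v * E F u = -(E F u * E F v) := by rw [hac, neg_neg]
    have hvu' : ∀ X : Mat, E F v * (E F u * X) = -(E F u * (E F v * X)) := fun X => by
      rw [← mul_assoc, hvu, neg_mul, mul_assoc]
    obtain ⟨c, hc⟩ := eq_scalar_of h2 hd hsq hskew (B := B * (E F u * E F v))
      (fun x hx => by
        have := sign_of_basis bw 1 (B := B * (E F u * E F v)) (fun i => by
          rw [one_smul]
          rcases htwo i with hi | hi <;> rw [hi]
          · change _ * E F u = E F u * _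
            rw [← mul_assoc (E F u) B, huB]; simp only [mul_assoc, neg_mul, mul_neg, hvu, hvu']
          · change _ * E F v = E F v * _
            rw [← mul_assoc (E F v) B, hvB]; simp only [mul_assoc, neg_mul, mul_neg, hvu, hvu', neg_neg]) hx
        simpa using this)
      (fun x hx => by
        have hu := E_anticomm (polar_anti_comm h2 hd hsq (bw i₁).2 hx)
        have hv := E_anticomm (polar_anti_comm h2 hd hsq (bw i₂).2 hx)
        rw [mul_assoc, mul_assoc (E F u), hv, mul_neg, ← mul_assoc (E F u), hu, neg_mul, neg_neg, mul_assoc,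
          ← mul_assoc B, hBx x hx, mul_assoc])
    refine ⟨c / (Q₅ u * Q₅ v), ?_⟩
    have h := congrArg (· * (E F v * E F u)) hc
    simp only [mul_assoc, ← mul_assoc (E F v) (E F v), E_sq, Matrix.smul_mul, one_mul, Matrix.mul_smul, mul_one, smul_smul] at h
    rw [mul_comm (Q₅ v)] at h
    rw [div_eq_inv_mul, ← smul_smul, ← h, inv_smul_smul₀ (mul_ne_zero (hbw i₁) (hbw i₂))]

end Skew

/-- An adjoint-closed, not self-adjoint quadratic field is an anisotropic plane. -/
theorem exists_plane (h2 : (2 : F) ≠ 0) (hK : IsFieldSubalgebra 2 K)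
    (hadj : IsAdjointClosedFor (Cfsg.sympForm 2 F) K) (hnsa : ¬ IsSelfAdjointFor (Cfsg.sympForm 2 F) K)
    (hφ : ∀ (g : ↥(Cfsg.spGL 2 F)) u, E F (((φ g).1 : Matrix ι₅ ι₅ F) *ᵥ u) =
      ((g : G) : Mat) * E F u * (((g : G)⁻¹ : G) : Mat)) :
    ∃ W : Submodule F W₅, OrthMax.Nd Q₅ W ∧ finrank F W = 2 ∧ (∀ x ∈ W, Q₅ x = 0 → x = 0) ∧
      ∀ g : ↥(Cfsg.spGL 2 F), (g : G) ∈ subalgebraNormalizer K ↔
        ((φ g).1 : GL ι₅ F) ∈ subspaceStabilizer W := by
  obtain ⟨A, d, hA, hns, hd, hsq, hgen⟩ := exists_root h2 hK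
  have hd0 : d ≠ 0 := fun h => hd (by rw [h]; exact IsSquare.zero)
  obtain ⟨A', hA', hadjA⟩ := hadj A hA
  obtain ⟨p, q, rfl⟩ := hgen A' hA'
  have hsq' : (p • (1 : Mat) + q • A) * (p • (1 : Mat) + q • A) = d • 1 := by
    refine Matrix.ext_iff_mulVec.2 fun v => ?_
    by_contra hv
    obtain ⟨x, hx⟩ := sesq_sympForm.exists_left_ne_zero (sub_ne_zero.2 hv)
    refine hx ?_
    rw [sesq_sympForm.sub_right, ← mulVec_mulVec, ← hadjA, ← hadjA, mulVec_mulVec, hsq, smul_mulVec, smul_mulVec,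
      one_mulVec, one_mulVec, sesq_sympForm.smul_left, sesq_sympForm.smul_right, RingEquiv.refl_apply, sub_self]
  obtain ⟨rfl, hq⟩ := eq_or_eq_neg h2 hns hd hsq hsq'
  have hskew : ∀ u v, ω (A *ᵥ u) v = - ω u (A *ᵥ v) := by
    rcases hq with rfl | rfl
    · refine absurd (fun k hk u v => ?_) hnsa
      obtain ⟨p', q', rfl⟩ := hgen k hk
      simp only [add_mulVec, smul_mulVec, one_mulVec, sesq_sympForm.add_left, sesq_sympForm.add_right,
        sesq_sympForm.smul_left, sesq_sympForm.smul_right, RingEquiv.refl_apply, hadjA, zero_smul, zero_add, one_smul]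
    · intro u v
      rw [hadjA, zero_smul, zero_add, neg_one_smul, neg_mulVec, ← neg_one_smul F (A *ᵥ v),
        sesq_sympForm.smul_right, RingEquiv.refl_apply, neg_one_mul]
  obtain ⟨w₁, w₂, hw₁, hw₂, hq₁, hq₂, ho, hspan, huniq⟩ := eq_smul_of_signs h2 hd0 hsq hskew hns
  obtain ⟨c₀, hc₀⟩ := huniq A (fun w hw => mem_antiS.1 hw) (fun x hx => mem_commS.1 hx)
  refine ⟨antiS A, nd_antiS h2 hd0 hsq hskew, finrank_antiS h2 hd0 hsq hskew hns, fun x hx hQx => ?_, fun g => ?_⟩
  · obtain ⟨p, q, rfl⟩ := hspan x hx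
    rw [QuadraticMap.map_add (⇑Q₅), QuadraticMap.polar_smul_left, QuadraticMap.polar_smul_right, ho, smul_zero,
      smul_zero, add_zero, QuadraticMap.map_smul, QuadraticMap.map_smul, smul_eq_mul, smul_eq_mul] at hQx
    have hdv : d = -(c₀ * c₀ * (Q₅ w₁ * Q₅ w₂)) := by
      refine smul_one_inj (hsq.symm.trans ?_)
      have e : E F w₂ * E F w₁ * (E F w₂ * E F w₁) = -((Q₅ w₁ * Q₅ w₂) • (1 : Mat)) := by
        rw [mul_assoc, ← mul_assoc (E F w₁) (E F w₂), E_anticomm ho, neg_mul, mul_neg, mul_assoc (E F w₂) (E F w₁),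
          E_sq, Matrix.mul_smul, mul_one, Matrix.mul_smul, E_sq, smul_smul]
      rw [hc₀, Matrix.smul_mul, Matrix.mul_smul, e, smul_smul, smul_neg, smul_smul, neg_smul]
    rcases eq_or_ne q 0 with rfl | hq0
    · have : p = 0 := by simpa [hq₁] using hQx
      simp [this]
    · refine absurd ⟨c₀ * (Q₅ w₁ * p / q), ?_⟩ hd
      rw [hdv]
      field_simp
      linear_combination -(c₀ * c₀) * hQx
  · rw [mem_normalizer_iff h2 hA hns hd hsq hgen]
    have hEc : ∀ u, E F (((φ g).1 : Matrix ι₅ ι₅ F) *ᵥ u) = conjM (g : G) (E F u) := hφ g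
    constructor
    · intro h
      refine MaxSub.mem_subspaceStabilizer_of_le fun w hw => mem_antiS.2 ?_
      have h' := congrArg (conjM (g : G)) (mem_antiS.1 hw)
      rw [map_neg, conjM_mul, conjM_mul, ← hEc] at h'
      rcases h with h | h <;> rw [h] at h'
      · exact h'
      · rw [neg_mul, mul_neg, neg_inj] at h'
        exact h'
    · intro h
      have hanti : ∀ w ∈ antiS A, conjM (g : G) A * E F w = -(E F w * conjM (g : G) A) := fun w hw => by
        have hpre : ((φ g⁻¹).1 : Matrix ι₅ ι₅ F) *ᵥ w ∈ antiS A := by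
          rw [map_inv]
          exact (mem_subspaceStabilizer_iff.1 (inv_mem h) w).1 hw
        have hback : ((φ g).1 : Matrix ι₅ ι₅ F) *ᵥ (((φ g⁻¹).1 : Matrix ι₅ ι₅ F) *ᵥ w) = w := by
          rw [mulVec_mulVec, map_inv]; simp
        rw [← hback, hEc, ← conjM_mul, mem_antiS.1 hpre, map_neg, conjM_mul]
      have hcomm : ∀ x ∈ commS A, conjM (g : G) A * E F x = E F x * conjM (g : G) A := fun x hx => by
        have hback : ((φ g).1 : Matrix ι₅ ι₅ F) *ᵥ (((φ g⁻¹).1 : Matrix ι₅ ι₅ F) *ᵥ x) = x := by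
          rw [mulVec_mulVec, map_inv]; simp
        have hpre : ((φ g⁻¹).1 : Matrix ι₅ ι₅ F) *ᵥ x ∈ commS A := by
          obtain ⟨w, hw, y, hy, e⟩ := exists_split h2 hd0 hsq hskew (((φ g⁻¹).1 : Matrix ι₅ ι₅ F) *ᵥ x)
          suffices w = 0 by rw [e, this, zero_add]; exact hy
          refine nd_antiS h2 hd0 hsq hskew w hw fun z hz => ?_
          have h1 : QuadraticMap.polar (⇑Q₅) z w = QuadraticMap.polar (⇑Q₅) z (((φ g⁻¹).1 : Matrix ι₅ ι₅ F) *ᵥ x) := by
            rw [e, QuadraticMap.polar_add_right, polar_anti_comm h2 hd0 hsq hz hy, add_zero]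
          have hz' := (mem_subspaceStabilizer_iff.1 h z).1 hz
          have hiso : ∀ v, Q₅ (((φ g).1 : Matrix ι₅ ι₅ F) *ᵥ v) = Q₅ v := fun v => by
            rw [coe_oddQ]; exact (φ g).2 v v
          have h2' : QuadraticMap.polar (⇑Q₅) (((φ g).1 : Matrix ι₅ ι₅ F) *ᵥ z)
              (((φ g).1 : Matrix ι₅ ι₅ F) *ᵥ (((φ g⁻¹).1 : Matrix ι₅ ι₅ F) *ᵥ x)) =
              QuadraticMap.polar (⇑Q₅) z (((φ g⁻¹).1 : Matrix ι₅ ι₅ F) *ᵥ x) := by
            simp only [QuadraticMap.polar, ← mulVec_add, hiso]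
          rw [h1, ← h2', hback, polar_anti_comm h2 hd0 hsq hz' hx]
        rw [← hback, hEc, ← conjM_mul, mem_commS.1 hpre, conjM_mul]
      obtain ⟨c, hc⟩ := huniq _ hanti hcomm
      have hc₀0 : c₀ ≠ 0 := fun h0 => hns 0 (by rw [hc₀, h0, zero_smul, zero_smul])
      have hcA : conjM (g : G) A = (0 : F) • (1 : Mat) + (c / c₀) • A := by
        rw [zero_smul, zero_add, hc, hc₀, smul_smul, div_mul_cancel₀ _ hc₀0]
      have hsqc := congrArg (conjM (g : G)) hsq
      rw [conjM_mul, map_smul, conjM_one, hcA] at hsqc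
      obtain ⟨-, e | e⟩ := eq_or_eq_neg h2 hns hd hsq hsqc
      · exact Or.inl (by rw [hcA, e]; simp)
      · exact Or.inr (by rw [hcA, e]; simp)

end CfsgLib.SpFourOdd
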