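import Cfsg.Agent.Forms4.OmegaFive
import Cfsg.Agent.MaxSub.SymplecticBasic
import Cfsg.Agent.LinearElements.SympAtom
import Cfsg.Agent.OrthMax.Basic

/-!
# `Sp₄(q) → Ω₅(q)` by conjugation on the self-adjoint operators of trace zero, `q` odd

`E v` is such an operator with square `Q v`; `exists_klein` gives the homomorphism, and
`isMaximalIn_of_omega` transfers maximality along it.
-/

set_option autoImplicit false
set_option linter.unusedSectionVars false

namespace CfsgLib.SpFourOdd

open Matrix Cfsg.Geo CfsgLib.MaxSub CfsgLib.StdForms CfsgLib.Forms4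

variable {F : Type*} [Field F]

local notation "ι₄" => (Fin 2 ⊕ Fin 2)
local notation "ι₅" => (Unit ⊕ (Fin 2 ⊕ Fin 2))
local notation "V" => (Fin 2 ⊕ Fin 2 → F)
local notation "W₅" => (Unit ⊕ (Fin 2 ⊕ Fin 2) → F)
local notation "ω" => Cfsg.sympForm 2 F
local notation "Mat" => Matrix (Fin 2 ⊕ Fin 2) (Fin 2 ⊕ Fin 2) F
local notation "G" => GL (Fin 2 ⊕ Fin 2) F
local notation "Q₅" => StdForms.oddQ 2 F

/-- The self-adjoint operator of trace zero with given coordinates. -/
def E (F : Type*) [Field F] : (Unit ⊕ (Fin 2 ⊕ Fin 2) → F) →ₗ[F] Matrix (Fin 2 ⊕ Fin 2) (Fin 2 ⊕ Fin 2) F where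
  toFun u := Matrix.fromBlocks !![u (.inl ()), u (.inr (.inl 0)); u (.inr (.inr 0)), -u (.inl ())]
    !![0, u (.inr (.inl 1)); -u (.inr (.inl 1)), 0] !![0, -u (.inr (.inr 1)); u (.inr (.inr 1)), 0]
    !![u (.inl ()), u (.inr (.inr 0)); u (.inr (.inl 0)), -u (.inl ())]
  map_add' u v := by
    ext i j
    rcases i with i | i <;> rcases j with j | j <;> fin_cases i <;> fin_cases j <;> simp <;> ring
  map_smul' c u := by
    ext i j
    rcases i with i | i <;> rcases j with j | j <;> fin_cases i <;> fin_cases j <;> simp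

/-- The coordinates of an operator. -/
def crd (F : Type*) [Field F] : Matrix (Fin 2 ⊕ Fin 2) (Fin 2 ⊕ Fin 2) F →ₗ[F] (Unit ⊕ (Fin 2 ⊕ Fin 2) → F) where
  toFun A := Sum.elim (fun _ => A (.inl 0) (.inl 0))
    (Sum.elim ![A (.inl 0) (.inl 1), A (.inl 0) (.inr 1)] ![A (.inl 1) (.inl 0), -A (.inr 0) (.inl 1)])
  map_add' A B := by
    funext i
    rcases i with i | i | i <;> first | (fin_cases i <;> simp <;> ring) | simp
  map_smul' c A := by
    funext i
    rcases i with i | i | i <;> first | (fin_cases i <;> simp) | simp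

theorem crd_E (u : W₅) : crd F (E F u) = u := by
  funext i
  rcases i with i | i | i <;> first | (fin_cases i <;> simp [E, crd]) | simp [E, crd]

theorem E_injective : Function.Injective (E F) := Function.LeftInverse.injective crd_E

theorem E_sq (u : W₅) : E F u * E F u = Q₅ u • (1 : Mat) := by
  rw [oddQ_apply]
  ext i j
  rcases i with i | i <;> rcases j with j | j <;> fin_cases i <;> fin_cases j <;>
    simp [E, Matrix.mul_apply, Fintype.sum_sum_type, Fin.sum_univ_two, Cfsg.quadFormOdd] <;> ring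

theorem E_polar (u v : W₅) :
    E F u * E F v + E F v * E F u = QuadraticMap.polar (⇑Q₅) u v • (1 : Mat) := by
  rw [QuadraticMap.polar, sub_smul, sub_smul, ← E_sq, ← E_sq, ← E_sq, map_add]
  simp only [add_mul, mul_add]
  abel

/-- Self-adjointness for the standard alternating form. -/
def SA (A : Matrix (Fin 2 ⊕ Fin 2) (Fin 2 ⊕ Fin 2) F) : Prop :=
  ∀ u v, Cfsg.sympForm 2 F (A *ᵥ u) v = Cfsg.sympForm 2 F u (A *ᵥ v)

theorem sa_iff {A : Mat} : SA A ↔ Aᵀ * Matrix.J (Fin 2) F = Matrix.J (Fin 2) F * A := by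
  have h1 : ∀ u v, ω (A *ᵥ u) v = u ⬝ᵥ ((Aᵀ * Matrix.J (Fin 2) F) *ᵥ v) := fun u v => by
    rw [Cfsg.sympForm, ← mulVec_mulVec, Matrix.dotProduct_mulVec u Aᵀ, Matrix.vecMul_transpose]
  have h2 : ∀ u v, ω u (A *ᵥ v) = u ⬝ᵥ ((Matrix.J (Fin 2) F * A) *ᵥ v) := fun u v => by
    rw [Cfsg.sympForm, mulVec_mulVec]
  refine ⟨fun h => Matrix.ext_iff_mulVec.2 fun v => dotProduct_eq _ _ fun u => ?_, fun h u v => by
    rw [h1, h2, h]⟩
  rw [dotProduct_comm, ← h1, h, h2, dotProduct_comm]

theorem sa_E (u : W₅) : SA (E F u) := by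
  rw [sa_iff]
  ext i j
  rcases i with i | i <;> rcases j with j | j <;> fin_cases i <;> fin_cases j <;>
    simp [E, Matrix.J, Matrix.mul_apply, Fintype.sum_sum_type, Fin.sum_univ_two, Matrix.one_apply]

theorem trace_E (u : W₅) : Matrix.trace (E F u) = 0 := by
  simp [E, Matrix.trace, Fintype.sum_sum_type, Fin.sum_univ_two]

theorem trace_one' : Matrix.trace (1 : Mat) = 4 := by simp [Matrix.trace_one]

/-- A self-adjoint operator of trace zero is an `E v`. -/
theorem E_crd (h2 : (2 : F) ≠ 0) {A : Mat} (hA : SA A) (ht : Matrix.trace A = 0) : E F (crd F A) = A := by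
  have e := fun i j => congrFun (congrFun (sa_iff.1 hA) i) j
  have z : ∀ {x : F}, x = -x → x = 0 := fun {x} h => (mul_eq_zero.1 (by linear_combination h : (2 : F) * x = 0)).resolve_left h2
  have e1 := e (.inl 0) (.inl 0)
  have e2 := e (.inl 0) (.inl 1)
  have e3 := e (.inl 1) (.inl 1)
  have e4 := e (.inr 0) (.inr 0)
  have e5 := e (.inr 0) (.inr 1)
  have e6 := e (.inr 1) (.inr 1)
  have f1 := e (.inr 0) (.inl 0)
  have f2 := e (.inr 0) (.inl 1)
  have f3 := e (.inr 1) (.inl 0)
  have f4 := e (.inr 1) (.inl 1)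
  simp [Matrix.J, Matrix.mul_apply, Fintype.sum_sum_type, Fin.sum_univ_two, Matrix.one_apply] at e1 e2 e3 e4 e5 e6 f1 f2 f3 f4
  simp [Matrix.trace, Fintype.sum_sum_type, Fin.sum_univ_two] at ht
  have t1 : A (.inl 1) (.inl 1) = -A (.inl 0) (.inl 0) :=
    mul_left_cancel₀ h2 (by linear_combination ht - f1 - f4)
  ext i j
  rcases i with i | i <;> rcases j with j | j <;> fin_cases i <;> fin_cases j <;> simp [E, crd]
  all_goals first
    | linear_combination -e1
    | exact (z (by linear_combination e1)).symm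
    | exact (z (by linear_combination -e1)).symm
    | exact (z (by linear_combination e3)).symm
    | exact (z (by linear_combination -e3)).symm
    | exact (z (by linear_combination e4)).symm
    | exact (z (by linear_combination -e4)).symm
    | exact (z (by linear_combination e6)).symm
    | exact (z (by linear_combination -e6)).symm
    | linear_combination e2
    | linear_combination -e2
    | linear_combination e5
    | linear_combination -e5
    | linear_combination f1
    | linear_combination -f1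
    | linear_combination f2
    | linear_combination -f2
    | linear_combination f3
    | linear_combination -f3
    | linear_combination f4 - t1
    | linear_combination t1 - f4
    | linear_combination f4 + t1
    | linear_combination -f4 - t1
    | linear_combination t1
    | linear_combination -t1

/-- An operator commuting with every `E v` is a scalar. -/
theorem scalar_of_commute (h2 : (2 : F) ≠ 0) {B : Mat} (h : ∀ u, B * E F u = E F u * B) :
    B = B (.inl 0) (.inl 0) • (1 : Mat) := by
  have q := fun k i j => congrFun (congrFun (h (Pi.single k 1)) i) j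
  have z : ∀ {x : F}, x = -x → x = 0 := fun {x} h => (mul_eq_zero.1 (by linear_combination h : (2 : F) * x = 0)).resolve_left h2
  have a01 := q (.inl ()) (.inl 0) (.inl 1)
  have a10 := q (.inl ()) (.inl 1) (.inl 0)
  have a03 := q (.inl ()) (.inl 0) (.inr 1)
  have a30 := q (.inl ()) (.inr 1) (.inl 0)
  have a21 := q (.inl ()) (.inr 0) (.inl 1)
  have a12 := q (.inl ()) (.inl 1) (.inr 0)
  have a23 := q (.inl ()) (.inr 0) (.inr 1)
  have a32 := q (.inl ()) (.inr 1) (.inr 0)
  have p11 := q (.inr (.inl 0)) (.inl 0) (.inl 1)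
  have p13 := q (.inr (.inl 0)) (.inl 0) (.inr 1)
  have p20 := q (.inr (.inl 0)) (.inr 1) (.inl 0)
  have p22 := q (.inr (.inl 0)) (.inr 1) (.inr 0)
  have q02 := q (.inr (.inr 0)) (.inl 1) (.inr 0)
  have q31 := q (.inr (.inr 0)) (.inr 0) (.inl 1)
  have s1 := q (.inr (.inl 1)) (.inl 0) (.inr 1)
  have s2 := q (.inr (.inl 1)) (.inl 1) (.inr 0)
  simp [E, Matrix.mul_apply, Fintype.sum_sum_type, Fin.sum_univ_two, Pi.single_apply]
    at a01 a10 a03 a30 a21 a12 a23 a32 p11 p13 p20 p22 q02 q31 s1 s2
  ext i j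
  rcases i with i | i <;> rcases j with j | j <;> fin_cases i <;> fin_cases j <;> simp
  all_goals first
    | assumption
    | linear_combination p11
    | linear_combination -p11
    | linear_combination s1
    | linear_combination -s1
    | linear_combination s1 + p22
    | linear_combination s1 - p22
    | linear_combination -s1 + p22
    | linear_combination -s1 - p22
    | linear_combination s2 + p11
    | linear_combination -s2 - p11
    | linear_combination s2 - p11
    | linear_combination -s2 + p11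
    | exact z (by linear_combination a01)
    | exact z (by linear_combination -a01)
    | exact z (by linear_combination a10)
    | exact z (by linear_combination -a10)
    | exact z (by linear_combination a03)
    | exact z (by linear_combination -a03)
    | exact z (by linear_combination a30)
    | exact z (by linear_combination -a30)
    | exact z (by linear_combination a21)
    | exact z (by linear_combination -a21)
    | exact z (by linear_combination a12)
    | exact z (by linear_combination -a12)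
    | exact z (by linear_combination a23)
    | exact z (by linear_combination -a23)
    | exact z (by linear_combination a32)
    | exact z (by linear_combination -a32)
    | linear_combination p13
    | linear_combination -p13
    | linear_combination p20
    | linear_combination -p20
    | linear_combination q02
    | linear_combination -q02
    | linear_combination q31
    | linear_combination -q31

/-- No nonzero operator anticommutes with every `E v`. -/
theorem zero_of_anticommute (h2 : (2 : F) ≠ 0) {B : Mat} (h : ∀ u, B * E F u = -(E F u * B)) : B = 0 := by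
  have q := fun k i j => congrFun (congrFun (h (Pi.single k 1)) i) j
  have z : ∀ {x : F}, x = -x → x = 0 := fun {x} h => (mul_eq_zero.1 (by linear_combination h : (2 : F) * x = 0)).resolve_left h2
  have b00 := q (.inl ()) (.inl 0) (.inl 0)
  have b11 := q (.inl ()) (.inl 1) (.inl 1)
  have b22 := q (.inl ()) (.inr 0) (.inr 0)
  have b33 := q (.inl ()) (.inr 1) (.inr 1)
  have b02 := q (.inl ()) (.inl 0) (.inr 0)
  have b20 := q (.inl ()) (.inr 0) (.inl 0)
  have b13 := q (.inl ()) (.inl 1) (.inr 1)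
  have b31 := q (.inl ()) (.inr 1) (.inl 1)
  have p1 := q (.inr (.inl 0)) (.inl 0) (.inl 0)
  have p2 := q (.inr (.inl 0)) (.inr 1) (.inr 1)
  have p3 := q (.inr (.inl 0)) (.inl 0) (.inr 0)
  have p4 := q (.inr (.inl 0)) (.inr 1) (.inl 1)
  have r1 := q (.inr (.inr 0)) (.inl 1) (.inl 1)
  have r2 := q (.inr (.inr 0)) (.inr 0) (.inr 0)
  have r3 := q (.inr (.inr 0)) (.inl 1) (.inr 1)
  have r4 := q (.inr (.inr 0)) (.inr 0) (.inl 0)
  have s1 := q (.inr (.inl 1)) (.inl 0) (.inl 0)
  have s2 := q (.inr (.inl 1)) (.inl 1) (.inl 1)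
  have t1 := q (.inr (.inr 1)) (.inr 0) (.inr 0)
  have t2 := q (.inr (.inr 1)) (.inr 1) (.inr 1)
  simp [E, Matrix.mul_apply, Fintype.sum_sum_type, Fin.sum_univ_two, Pi.single_apply]
    at b00 b11 b22 b33 b02 b20 b13 b31 p1 p2 p3 p4 r1 r2 r3 r4 s1 s2 t1 t2
  ext i j
  rcases i with i | i <;> rcases j with j | j <;> fin_cases i <;> fin_cases j <;> simp
  all_goals first
    | assumption
    | exact z b00
    | exact z b11
    | exact z b22
    | exact z b33
    | exact z b02
    | exact z b20
    | exact z b13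
    | exact z b31
    | exact z (by linear_combination b00)
    | exact z (by linear_combination b11)
    | exact z (by linear_combination b22)
    | exact z (by linear_combination b33)
    | exact z (by linear_combination b02)
    | exact z (by linear_combination b20)
    | exact z (by linear_combination b13)
    | exact z (by linear_combination b31)
    | exact z (by linear_combination -b11)
    | exact z (by linear_combination -b33)
    | exact z (by linear_combination -b13)
    | exact z (by linear_combination -b31)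
    | linear_combination p1
    | linear_combination -p1
    | linear_combination p2
    | linear_combination -p2
    | linear_combination p3
    | linear_combination -p3
    | linear_combination p4
    | linear_combination -p4
    | linear_combination r1
    | linear_combination -r1
    | linear_combination r2
    | linear_combination -r2
    | linear_combination r3
    | linear_combination -r3
    | linear_combination r4
    | linear_combination -r4
    | linear_combination s1
    | linear_combination -s1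
    | linear_combination s2
    | linear_combination -s2
    | linear_combination t1
    | linear_combination -t1
    | linear_combination t2
    | linear_combination -t2

theorem sp_adj {g : G} (hg : g ∈ Cfsg.spGL 2 F) (x y : V) :
    ω ((g : Mat) *ᵥ x) y = ω x (((g⁻¹ : G) : Mat) *ᵥ y) := by
  conv_lhs => rw [show y = (g : Mat) *ᵥ (((g⁻¹ : G) : Mat) *ᵥ y) by rw [mulVec_mulVec, Units.mul_inv, one_mulVec]]
  exact mem_spGL_iff.1 hg _ _

theorem sa_conj {g : G} (hg : g ∈ Cfsg.spGL 2 F) {A : Mat} (hA : SA A) :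
    SA ((g : Mat) * A * ((g⁻¹ : G) : Mat)) := fun u v => by
  rw [← mulVec_mulVec, ← mulVec_mulVec, sp_adj hg, hA, ← mulVec_mulVec, ← mulVec_mulVec]
  have h := sp_adj (inv_mem hg) u (A *ᵥ (((g⁻¹ : G) : Mat) *ᵥ v))
  rwa [inv_inv] at h

/-- A self-adjoint operator is a scalar plus an `E v`. -/
theorem exists_scalar_add (h2 : (2 : F) ≠ 0) {A : Mat} (hA : SA A) :
    ∃ (c : F) (u : W₅), A = c • (1 : Mat) + E F u := by
  have h4 : (4 : F) ≠ 0 := by
    rw [show (4 : F) = 2 * 2 by norm_num]; exact mul_ne_zero h2 h2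
  refine ⟨Matrix.trace A / 4, crd F (A - (Matrix.trace A / 4) • (1 : Mat)), ?_⟩
  have hsa : SA (A - (Matrix.trace A / 4) • (1 : Mat)) := fun u v => by
    simp only [sub_mulVec, smul_mulVec, one_mulVec, sesq_sympForm.sub_left, sesq_sympForm.sub_right,
      sesq_sympForm.smul_left, sesq_sympForm.smul_right, hA u v, RingEquiv.refl_apply]
  have htr : Matrix.trace (A - (Matrix.trace A / 4) • (1 : Mat)) = 0 := by
    rw [Matrix.trace_sub, Matrix.trace_smul, trace_one', smul_eq_mul, div_mul_cancel₀ _ h4, sub_self]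
  rw [E_crd h2 hsa htr, add_sub_cancel]

/-- A self-adjoint square root of a scalar that is not a scalar is an `E v`. -/
theorem exists_eq_E (h2 : (2 : F) ≠ 0) {A : Mat} (hA : SA A) (hns : ∀ r : F, A ≠ r • 1) {d : F}
    (hsq : A * A = d • 1) : ∃ u, A = E F u ∧ Q₅ u = d := by
  obtain ⟨c, u, rfl⟩ := exists_scalar_add h2 hA
  have h : (2 * c) • E F u = (d - c * c - Q₅ u) • (1 : Mat) := by
    rw [sub_smul, sub_smul, ← E_sq, ← hsq]
    simp only [add_mul, mul_add, Matrix.smul_mul, Matrix.mul_smul, one_mul, mul_one]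
    module
  rcases eq_or_ne c 0 with rfl | hc
  · refine ⟨u, by rw [zero_smul, zero_add], ?_⟩
    rw [zero_smul, zero_add, E_sq] at hsq
    have := congrFun (congrFun hsq (Sum.inl 0)) (Sum.inl 0)
    simpa using this
  · refine absurd ?_ (hns (c + (d - c * c - Q₅ u) / (2 * c)))
    rw [add_smul, div_eq_inv_mul, ← smul_smul, ← h, inv_smul_smul₀ (mul_ne_zero h2 hc)]

theorem smul_one_inj {a b : F} (h : a • (1 : Mat) = b • 1) : a = b := by
  simpa using congrFun (congrFun h (Sum.inl 0)) (Sum.inl 0)

theorem E_conj (h2 : (2 : F) ≠ 0) {g : G} (hg : g ∈ Cfsg.spGL 2 F) (u : W₅) :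
    E F (crd F ((g : Mat) * E F u * ((g⁻¹ : G) : Mat))) = (g : Mat) * E F u * ((g⁻¹ : G) : Mat) :=
  E_crd h2 (sa_conj hg (sa_E u)) (by rw [Matrix.trace_units_conj, trace_E])

variable [Fintype F]

/-- `Sp₄` modulo its centre is `Ω₅`, by conjugation. -/
theorem exists_klein (h2 : (2 : F) ≠ 0) :
    ∃ φ : ↥(Cfsg.spGL 2 F) →* ↥(Cfsg.isometryGroup F (Cfsg.quadFormOdd 2 F)),
      φ.range = Cfsg.Omega F (Cfsg.quadFormOdd 2 F) ∧
      (∀ (g : ↥(Cfsg.spGL 2 F)) u, E F (((φ g).1 : Matrix ι₅ ι₅ F) *ᵥ u) =
        ((g : G) : Mat) * E F u * (((g : G)⁻¹ : G) : Mat)) := by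
  classical
  have hodd : Odd (Fintype.card F) := Nat.not_even_iff_odd.1 fun he => h2 ((two_eq_zero_iff_even rfl).2 he)
  let C : ↥(Cfsg.spGL 2 F) →* Module.End F Mat :=
    { toFun := fun g =>
        { toFun := fun X => ((g : G) : Mat) * X * (((g : G)⁻¹ : G) : Mat)
          map_add' := fun X Y => by simp only [mul_add, add_mul]
          map_smul' := fun c X => by simp only [Matrix.mul_smul, Matrix.smul_mul, RingHom.id_apply] }
      map_one' := by ext X : 1; simp
      map_mul' := fun g h => by ext X : 1; simp [mul_assoc] }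
  obtain ⟨φ, hspec, hone⟩ := exists_isoHom (Cfsg.quadFormOdd 2 F) (E F) (crd F) crd_E C
    (fun g u => E_conj h2 g.2 u) (fun g u => by
      refine smul_one_inj ?_
      show Cfsg.quadFormOdd 2 F (crd F (((g : G) : Mat) * E F u * (((g : G)⁻¹ : G) : Mat))) • (1 : Mat) = _
      rw [← oddQ_apply, ← E_sq, E_conj h2 g.2 u, mul_assoc, mul_assoc, ← mul_assoc (((g : G)⁻¹ : G) : Mat),
        ← mul_assoc (((g : G)⁻¹ : G) : Mat), Units.inv_mul, one_mul, ← mul_assoc (E F u), E_sq, ← oddQ_apply,
        Matrix.smul_mul, one_mul, Matrix.mul_smul, Units.mul_inv])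
  refine ⟨φ, ?_, hspec⟩
  let e : ↥(Cfsg.spGL 2 F) ≃* Matrix.symplecticGroup (Fin 2) F :=
    MulEquiv.ofBijective
      ({ toFun := fun g => ⟨((g : G) : Mat), Forms.mem_symplecticGroup_iff_form.mpr fun u v => g.2 u v⟩
         map_one' := rfl
         map_mul' := fun g h => rfl } : ↥(Cfsg.spGL 2 F) →* Matrix.symplecticGroup (Fin 2) F)
      ⟨fun g h he => Subtype.ext (Units.ext (congrArg Subtype.val he)), fun A => by
        obtain ⟨g, hg, hA⟩ := LinearElements.exists_spGL_of_mem A
        exact ⟨⟨g, hg⟩, Subtype.ext hA⟩⟩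
  have hS : commutator ↥(Cfsg.spGL 2 F) = ⊤ := by
    have h1 := (commutator_Sp_eq_top (Or.inr (Or.inl ⟨le_rfl, h2⟩)) : commutator (Matrix.symplecticGroup (Fin 2) F) = ⊤)
    have h3 := congrArg (Subgroup.map e.symm.toMonoidHom) h1
    rw [commutator_def, Subgroup.map_commutator, Subgroup.map_top_of_surjective _ e.symm.surjective] at h3
    rwa [commutator_def]
  have hmem : ∀ g, g ∈ φ.ker ↔ ∃ c : F, c * c = 1 ∧ ((g : G) : Mat) = c • (1 : Mat) := by
    intro g
    rw [MonoidHom.mem_ker, hone]
    constructor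
    · intro h
      have hc := scalar_of_commute h2 (B := ((g : G) : Mat)) fun u => by
        have h' : ((g : G) : Mat) * E F u * (((g : G)⁻¹ : G) : Mat) = E F u := h u
        conv_rhs => rw [← h', mul_assoc _ (((g : G)⁻¹ : G) : Mat), Units.inv_mul, mul_one]
      refine ⟨_, ?_, hc⟩
      have h1 := g.2 (Pi.single (.inl 0) 1) (Pi.single (.inr 0) 1)
      have hne : ω (Pi.single (.inl 0) 1 : V) (Pi.single (.inr 0) 1) ≠ 0 := by
        simp [Cfsg.sympForm, Matrix.J]
      replace h1 : ω (((g : G) : Mat) *ᵥ Pi.single (.inl 0) 1) (((g : G) : Mat) *ᵥ Pi.single (.inr 0) 1) =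
        ω (Pi.single (.inl 0) 1 : V) (Pi.single (.inr 0) 1) := h1
      rw [hc, smul_mulVec, smul_mulVec, one_mulVec, one_mulVec, sesq_sympForm.smul_left, sesq_sympForm.smul_right,
        RingEquiv.refl_apply, ← mul_assoc] at h1
      exact mul_right_cancel₀ hne (h1.trans (one_mul _).symm)
    · rintro ⟨c, -, hc⟩ u
      show ((g : G) : Mat) * E F u * (((g : G)⁻¹ : G) : Mat) = E F u
      rw [show ((g : G) : Mat) * E F u = E F u * ((g : G) : Mat) by
        rw [hc, Matrix.smul_mul, Matrix.mul_smul, one_mul, mul_one], mul_assoc, Units.mul_inv, mul_one]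
  let k : φ.ker ≃ ({1, -1} : Set F) :=
    { toFun := fun g => ⟨((g.1 : G) : Mat) (.inl 0) (.inl 0), by
        obtain ⟨c, hc, e⟩ := (hmem g.1).1 g.2
        rw [e]; simpa using mul_self_eq_one_iff.1 hc⟩
      invFun := fun r =>
        ⟨⟨⟨r.1 • 1, r.1 • 1, by rcases r.2 with h | (h : r.1 = -1) <;> simp [h],
            by rcases r.2 with h | (h : r.1 = -1) <;> simp [h]⟩, mem_spGL_iff.2 fun u v => by
          show ω ((r.1 • (1 : Mat)) *ᵥ u) ((r.1 • (1 : Mat)) *ᵥ v) = _
          rw [smul_mulVec, smul_mulVec, one_mulVec, one_mulVec, sesq_sympForm.smul_left,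
            sesq_sympForm.smul_right, RingEquiv.refl_apply]
          rcases r.2 with h | (h : r.1 = -1) <;> simp [h]⟩, (hmem _).2 ⟨r.1, by
          rcases r.2 with h | (h : r.1 = -1) <;> simp [h], rfl⟩⟩
      left_inv := fun g => by
        obtain ⟨c, -, e⟩ := (hmem g.1).1 g.2
        exact Subtype.ext (Subtype.ext (Units.ext (by simp [e])))
      right_inv := fun r => Subtype.ext (by simp) }
  have hker : Nat.card φ.ker = 2 := by
    rw [Nat.card_congr k, Nat.card_coe_set_eq]
    exact Set.ncard_pair fun h => h2 (by linear_combination h)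
  refine range_eq_of_card φ (range_le_commutator φ hS) ?_
  have hO := (Cfsg.Omega F (Cfsg.quadFormOdd 2 F)).index_mul_card
  have hi : (Cfsg.Omega F (Cfsg.quadFormOdd 2 F)).index = 4 := by
    rw [← coe_oddQ]
    exact CfsgLib.Forms.index_omega_odd h2 (oddQ_nondegenerate h2 2) (by simp)
  rw [card_isometryGroup_quadFormOdd rfl hodd 2, hi] at hO
  rw [hker, LinearElements.card_spGL_eq, CfsgLib.Forms.card_symplecticGroup]
  simp [-Nat.card_eq_fintype_card, Finset.prod_range_succ] at hO ⊢
  linarith

/-- Maximality in `Ω₅` gives maximality in `Sp₄`. -/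
theorem isMaximalIn_of_omega {φ : ↥(Cfsg.spGL 2 F) →* ↥(Cfsg.isometryGroup F (Cfsg.quadFormOdd 2 F))}
    (hφ : φ.range = Cfsg.Omega F (Cfsg.quadFormOdd 2 F)) {H : Subgroup G} {T : Subgroup (GL ι₅ F)}
    (hH : ∀ g : ↥(Cfsg.spGL 2 F), (g : G) ∈ H ↔ (φ g : GL ι₅ F) ∈ T)
    (hmax : IsMaximalIn (omegaGL (Cfsg.quadFormOdd 2 F)) (T ⊓ omegaGL (Cfsg.quadFormOdd 2 F))) :
    IsMaximalIn (Cfsg.spGL 2 F) (H ⊓ Cfsg.spGL 2 F) := by
  let ψ : ↥(Cfsg.spGL 2 F) →* GL ι₅ F := (Cfsg.isometryGroup F (Cfsg.quadFormOdd 2 F)).subtype.comp φ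
  have hrange : ψ.range = omegaGL (Cfsg.quadFormOdd 2 F) := by
    rw [MonoidHom.range_comp, hφ]; rfl
  refine isMaximalIn_of inf_le_right ?_ fun M hHM hMK g hg hg' => ?_
  · obtain ⟨x, hx, hxT⟩ := SetLike.exists_of_lt hmax.1
    obtain ⟨g, rfl⟩ := hrange ▸ hx
    exact ⟨g, g.2, fun h => hxT ⟨(hH g).1 h.1, hrange ▸ ⟨g, rfl⟩⟩⟩
  · let M' : Subgroup (GL ι₅ F) := (M.subgroupOf (Cfsg.spGL 2 F)).map ψ
    have hle : M' ≤ omegaGL (Cfsg.quadFormOdd 2 F) := hrange ▸ Subgroup.map_le_range _ _
    have hge : T ⊓ omegaGL (Cfsg.quadFormOdd 2 F) ≤ M' := fun x hx => by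
      obtain ⟨h, rfl⟩ := hrange ▸ hx.2
      exact ⟨h, hHM ⟨(hH h).2 hx.1, h.2⟩, rfl⟩
    rcases hmax.2 M' hge hle with h | h
    · exfalso
      have h1 : ψ ⟨g, hMK hg⟩ ∈ M' := ⟨⟨g, hMK hg⟩, hg, rfl⟩
      rw [h] at h1
      exact hg' ⟨(hH ⟨g, hMK hg⟩).2 h1.1, hMK hg⟩
    · intro x hx
      have h1 : ψ ⟨x, hx⟩ ∈ M' := by rw [h, ← hrange]; exact ⟨⟨x, hx⟩, rfl⟩
      obtain ⟨m, hm, he⟩ := h1
      obtain ⟨k, hk'⟩ : ∃ k : ↥(Cfsg.spGL 2 F), k = ⟨x, hx⟩ * m⁻¹ := ⟨_, rfl⟩
      have hk : φ k = 1 := by
        have : φ m = φ ⟨x, hx⟩ := Subtype.ext he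
        rw [hk', map_mul, map_inv, this, mul_inv_cancel]
      have hkH : (k : G) ∈ H := (hH k).2 (by rw [hk]; exact T.one_mem)
      have hkM : (k : G) ∈ M := hHM (Subgroup.mem_inf.2 ⟨hkH, k.2⟩)
      have hmM : (m : G) ∈ M := hm
      have hx' : x = (k : G) * (m : G) := by rw [hk']; simp
      rw [hx']
      exact M.mul_mem hkM hmM

end CfsgLib.SpFourOdd
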